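/-
A graph with an action whose neighbourhoods look like the class of Fi22: components have diameter two.

* `LGraph`, `reach_cases`, `el_ne`
-/
import Cfsg.Agent.Lib.TransCentFi23.Component

set_option autoImplicit false
set_option linter.unusedSectionVars false

namespace Cfsg.Agent.Fi24Char

open Cfsg.Agent.ThreeTrans Relation
open Cfsg.Agent.FischerM22 (sum_card_filter sum_card_filter_sq)

variable {G Φ X : Type*} [Group G] [MulAction G Φ] [Finite Φ] [Group X] [Finite X] {N : Φ → Set Φ} {el : Φ → G}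
  {E : Set X}

/-- The graph. -/
structure LGraph (N : Φ → Set Φ) (el : Φ → G) (E : Set X) : Prop where
  setup : FischerM22.Fi22Setup E
  equiv : ∀ (g : G) (x : Φ), N (g • x) = (g • ·) '' N x
  symm : ∀ {x y : Φ}, y ∈ N x → x ∈ N y
  irrefl : ∀ x : Φ, x ∉ N x
  model : ∀ a : Φ, ∃ π : Φ → X, Set.InjOn π (N a) ∧ π '' N a = E ∧
    ∀ x ∈ N a, ∀ y ∈ N a, x ≠ y → (y ∈ N x ↔ Commute (π x) (π y))
  fixes : ∀ {a q : Φ}, q ∈ N a → el q • a = a
  el_conj : ∀ (g : G) (x : Φ), el (g • x) = g * el x * g⁻¹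
  el_inj : ∀ a : Φ, Set.InjOn el (N a)
  el_sq : ∀ x : Φ, el x * el x = 1
  el_ne : ∀ {a q : Φ}, q ∈ N a → el q ≠ el a
  braid : ∀ {a p q : Φ}, p ∈ N a → q ∈ N a → p ≠ q → q ∉ N p → el p * el q * el p = el q * el p * el q

namespace LGraph

variable (S : LGraph N el E)
include S

theorem map_adj {a x : Φ} {π : Φ → X} (hinj : Set.InjOn π (N a)) (himg : π '' N a = E)
    (hcomm : ∀ x ∈ N a, ∀ y ∈ N a, x ≠ y → (y ∈ N x ↔ Commute (π x) (π y))) (hx : x ∈ N a) :
    adj E (π x) = π '' (N a ∩ N x) := by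
  ext e
  constructor
  · rintro ⟨he, hne, hc⟩
    rw [← himg] at he
    obtain ⟨y, hy, rfl⟩ := he
    exact ⟨y, ⟨hy, (hcomm x hx y hy fun h => hne (h ▸ rfl)).2 hc⟩, rfl⟩
  · rintro ⟨y, ⟨hy, hxy⟩, rfl⟩
    have hne : x ≠ y := fun h => S.irrefl x (by rw [← h] at hxy; exact hxy)
    exact ⟨himg ▸ ⟨y, hy, rfl⟩, fun h => hne (hinj hy hx h).symm, (hcomm x hx y hy hne).1 hxy⟩

theorem adj_ncard (a : Φ) : (N a).ncard = 3510 := by
  obtain ⟨π, hi, hm, -⟩ := S.model a
  rw [← hi.ncard_image, hm, FischerM22.class_ncard S.setup]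

theorem common_ncard {a x : Φ} (hx : x ∈ N a) : (N a ∩ N x).ncard = 693 := by
  obtain ⟨π, hi, hm, hc⟩ := S.model a
  rw [← (hi.mono Set.inter_subset_left).ncard_image, ← S.map_adj hi hm hc hx,
    FischerM22.adj_ncard S.setup (hm ▸ ⟨x, hx, rfl⟩)]

theorem map_common {a x y : Φ} {π : Φ → X} (hi : Set.InjOn π (N a)) (hm : π '' N a = E)
    (hc : ∀ x ∈ N a, ∀ y ∈ N a, x ≠ y → (y ∈ N x ↔ Commute (π x) (π y))) (hx : x ∈ N a) (hy : y ∈ N a) :
    adj E (π x) ∩ adj E (π y) = π '' (N a ∩ N x ∩ N y) := by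
  rw [S.map_adj hi hm hc hx, S.map_adj hi hm hc hy,
    ← hi.image_inter Set.inter_subset_left Set.inter_subset_left,
    ← Set.inter_inter_distrib_left, Set.inter_assoc]

theorem triple_ncard {a x y : Φ} (hx : x ∈ N a) (hy : y ∈ N a) (hxy : y ∈ N x) :
    (N a ∩ N x ∩ N y).ncard = 180 := by
  obtain ⟨π, hi, hm, hc⟩ := S.model a
  have hne : x ≠ y := fun h => S.irrefl x (by rw [← h] at hxy; exact hxy)
  rw [← (hi.mono (Set.inter_subset_left.trans Set.inter_subset_left)).ncard_image, ← S.map_common hi hm hc hx hy,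
    FischerM22.common_ncard S.setup (hm ▸ ⟨x, hx, rfl⟩)
      ⟨hm ▸ ⟨y, hy, rfl⟩, fun h => hne (hi hy hx h).symm, (hc x hx y hy hne).1 hxy⟩]

theorem far_triple_ncard {a x y : Φ} (hx : x ∈ N a) (hy : y ∈ N a) (hne : y ≠ x) (hxy : y ∉ N x) :
    (N a ∩ N x ∩ N y).ncard = 126 := by
  obtain ⟨π, hi, hm, hc⟩ := S.model a
  rw [← (hi.mono (Set.inter_subset_left.trans Set.inter_subset_left)).ncard_image, ← S.map_common hi hm hc hx hy]
  exact FischerM22.common_card S.setup (hm ▸ ⟨x, hx, rfl⟩) (hm ▸ ⟨y, hy, rfl⟩)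
    fun h => hxy ((hc x hx y hy hne.symm).2 h)

theorem common_deg {a e q : Φ} (hne : e ≠ a) (hae : e ∉ N a) (hq : q ∈ N a ∩ N e) :
    (N a ∩ N e ∩ N q).ncard = 126 := by
  rw [← S.far_triple_ncard (S.symm hq.1) (S.symm hq.2) hne hae]
  congr 1
  ext z
  simp only [Set.mem_inter_iff]
  tauto

/-- The basic inequality for a part of the common neighbours closed under commuting. -/
theorem closed_bound {a e : Φ} (hne0 : e ≠ a) (hae : e ∉ N a)
    {C : Set Φ} (hC : C ⊆ N a ∩ N e) (hne : C.Nonempty)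
    (hcl : ∀ q ∈ C, ∀ r ∈ N a ∩ N e, r ∈ N q → r ∈ C)
    (K : Set Φ) (hK : K ⊆ N a) (hK0 : ∀ p ∈ K, p ∉ C ∧ ∀ q ∈ C, q ∉ N p) :
    68 ≤ C.ncard ∧ 5103 * (C.ncard : ℤ) ≤ (3510 - C.ncard - K.ncard) * (2 * C.ncard - 135) := by
  classical
  have := Fintype.ofFinite Φ
  set A : Finset Φ := (N a).toFinset with hA
  set c : Finset Φ := C.toFinset with hc
  set R : Φ → Φ → Prop := fun p q => q ∈ N p with hR
  have hAc : A.card = 3510 := by rw [hA, ← Set.ncard_eq_toFinset_card']; exact S.adj_ncard a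
  have hcA : c ⊆ A := fun x hx => by
    simp only [hc, hA, Set.mem_toFinset] at hx ⊢
    exact (hC hx).1
  have hcn : c.card = C.ncard := by rw [hc, ← Set.ncard_eq_toFinset_card']
  -- the neighbours inside C
  have hin : ∀ p ∈ c, (c.filter (R p)).card = 126 := by
    intro p hp
    simp only [hc, Set.mem_toFinset] at hp
    rw [← Set.ncard_coe_finset, ← S.common_deg hne0 hae (hC hp)]
    congr 1
    ext r
    simp only [hc, hR, Finset.coe_filter, Set.mem_toFinset, Set.mem_ofPred_eq, Set.mem_inter_iff]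
    exact ⟨fun h => ⟨hC h.1, h.2⟩, fun h => ⟨hcl p hp r h.1 h.2, h.2⟩⟩
  have h180 : ∀ q ∈ c, (A.filter fun p => R p q).card = 693 := by
    intro q hq
    simp only [hc, Set.mem_toFinset] at hq
    rw [← Set.ncard_coe_finset, ← S.common_ncard (hC hq).1]
    congr 1
    ext p
    simp only [hA, hR, Finset.coe_filter, Set.mem_toFinset, Set.mem_ofPred_eq, Set.mem_inter_iff]
    exact and_congr_right fun hp => ⟨S.symm, S.symm⟩
  have htot : ∑ p ∈ A, (c.filter (R p)).card = 693 * c.card := by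
    rw [sum_card_filter, Finset.sum_congr rfl h180, Finset.sum_const, smul_eq_mul, mul_comm]
  have hpair : ∀ q ∈ c, ∀ r ∈ c, (A.filter fun p => R p q ∧ R p r).card
      = if r = q then 693 else if R q r then 180 else 126 := by
    intro q hq r hr
    by_cases h1 : r = q
    · subst h1
      rw [if_pos rfl, ← h180 r hr]
      congr 1
      exact Finset.filter_congr fun p _ => and_self_iff
    rw [if_neg h1]
    simp only [hc, Set.mem_toFinset] at hq hr
    have hset : (↑(A.filter fun p => R p q ∧ R p r) : Set Φ) = N a ∩ N q ∩ N r := by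
      ext p
      simp only [hA, hR, Finset.coe_filter, Set.mem_toFinset, Set.mem_ofPred_eq, Set.mem_inter_iff]
      refine ⟨fun h => ⟨⟨h.1, S.symm h.2.1⟩, S.symm h.2.2⟩, fun h => ⟨h.1.1, S.symm h.1.2, S.symm h.2⟩⟩
    by_cases h2 : R q r
    · rw [if_pos h2, ← Set.ncard_coe_finset, hset]
      exact S.triple_ncard (hC hq).1 (hC hr).1 h2
    · rw [if_neg h2, ← Set.ncard_coe_finset, hset]
      exact S.far_triple_ncard (hC hq).1 (hC hr).1 h1 h2
  have hsq : (∑ p ∈ A, (c.filter (R p)).card ^ 2 : ℕ) = c.card * (7371 + 126 * c.card) := by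
    rw [sum_card_filter_sq, Finset.sum_congr rfl fun q hq => Finset.sum_congr rfl (hpair q hq)]
    refine (Finset.sum_const_nat fun q hq => ?_)
    have h126 := hin q hq
    have e1 : ∀ r ∈ c, (if r = q then 693 else if R q r then 180 else 126 : ℕ)
        = 126 + (if r = q then 567 else 0) + (if R q r then 54 else 0) := by
      intro r _
      by_cases h : r = q
      · subst h
        rw [if_pos rfl, if_pos rfl, if_neg (S.irrefl r)]
      · by_cases h' : R q r <;> simp [h, h']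
    rw [Finset.sum_congr rfl e1, Finset.sum_add_distrib, Finset.sum_add_distrib, Finset.sum_const,
      Finset.sum_ite_eq' c q, if_pos hq, ← Finset.sum_filter, Finset.sum_const, h126]
    simp only [smul_eq_mul]
    ring
  have hc1 : ∑ p ∈ c, (c.filter (R p)).card = 126 * c.card := by
    rw [Finset.sum_congr rfl hin, Finset.sum_const, smul_eq_mul, mul_comm]
  have hc2 : ∑ p ∈ c, (c.filter (R p)).card ^ 2 = 15876 * c.card := by
    rw [Finset.sum_congr rfl fun p hp => by rw [hin p hp], Finset.sum_const, smul_eq_mul, mul_comm]; rfl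
  -- the others
  set k : Finset Φ := K.toFinset with hk
  have hkc : k ⊆ A \ c := fun p hp => by
    simp only [hk, Set.mem_toFinset] at hp
    simp only [hA, hc, Finset.mem_sdiff, Set.mem_toFinset]
    exact ⟨hK hp, (hK0 p hp).1⟩
  have hk0 : ∀ p ∈ k, (c.filter (R p)).card = 0 := fun p hp => by
    simp only [hk, Set.mem_toFinset] at hp
    rw [Finset.card_eq_zero, Finset.filter_eq_empty_iff]
    intro q hq h
    simp only [hc, Set.mem_toFinset] at hq
    exact (hK0 p hp).2 q hq h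
  set B := (A \ c) \ k with hB
  have hB1 : ∑ p ∈ B, (c.filter (R p)).card + 126 * c.card = 693 * c.card := by
    rw [← htot, ← Finset.sum_sdiff hcA, hc1, ← Finset.sum_sdiff hkc, Finset.sum_eq_zero hk0, add_zero]
  have hB2 : (∑ p ∈ B, (c.filter (R p)).card ^ 2) + 15876 * c.card = c.card * (7371 + 126 * c.card) := by
    rw [← hsq, ← Finset.sum_sdiff hcA, hc2, ← Finset.sum_sdiff hkc,
      Finset.sum_eq_zero (s := k) (fun p hp => by rw [hk0 p hp]; rfl), add_zero]
  have hBc : B.card + k.card + c.card = 3510 := by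
    rw [← hAc, ← Finset.card_sdiff_add_card_eq_card hcA, ← Finset.card_sdiff_add_card_eq_card hkc]
  have hcs : (∑ p ∈ B, (c.filter (R p)).card) ^ 2 ≤ B.card * ∑ p ∈ B, (c.filter (R p)).card ^ 2 :=
    sq_sum_le_card_mul_sum_sq
  have hkn : k.card = K.ncard := by rw [hk, ← Set.ncard_eq_toFinset_card']
  have hpos : 0 < c.card := by rw [hcn]; exact (Set.ncard_pos (Set.toFinite _)).2 hne
  rw [← hcn, ← hkn]
  generalize ∑ p ∈ B, (c.filter (R p)).card = s1 at hB1 hcs
  generalize ∑ p ∈ B, (c.filter (R p)).card ^ 2 = s2 at hB2 hcs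
  zify at hcs hB1 hB2 hBc hpos
  obtain ⟨n, hn⟩ : ∃ n, (c.card : ℤ) = n := ⟨_, rfl⟩
  rw [hn] at hB1 hB2 hBc hpos ⊢
  generalize (B.card : ℤ) = m at *
  have h1 : (s1 : ℤ) = 567 * n := by linarith
  rw [h1] at hcs
  have h2 : (s2 : ℤ) = 63 * n * (2 * n - 135) := by linarith
  rw [h2] at hcs
  have h3 : 321489 * n ≤ m * (63 * (2 * n - 135)) :=
    le_of_mul_le_mul_left (by linarith : n * (321489 * n) ≤ n * (m * (63 * (2 * n - 135)))) hpos
  have h68 : 68 ≤ n := by
    have : (0 : ℤ) ≤ s2 := Int.natCast_nonneg _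
    rw [h2] at this
    by_contra hlt
    nlinarith
  refine ⟨by rw [← hn] at h68; exact_mod_cast h68, ?_⟩
  rw [show (3510 : ℤ) - n - k.card = m by linarith]
  linarith


/-- Every neighbour of `a` is joined to a common neighbour of `a` and `e`. -/
theorem exists_common_commute {a e p : Φ} (hne0 : e ≠ a) (hae : e ∉ N a)
    (hne : (N a ∩ N e).Nonempty) (hp : p ∈ N a) : p ∈ N a ∩ N e ∨ ∃ y ∈ N a ∩ N e, p ∈ N y := by
  by_contra hc
  push Not at hc
  obtain ⟨hp0, hc'⟩ := hc
  have hpq : ∀ q ∈ N a ∩ N e, p ≠ q ∧ q ∉ N p := fun q hq =>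
    ⟨fun h => hp0 (by rw [h]; exact hq), fun h => hc' q hq (S.symm h)⟩
  have hinj : Set.InjOn (fun q => el q • p) (N a ∩ N e) := by
    intro q hq r hr h
    have h1 := congrArg el h
    simp only [S.el_conj, inv_eq_of_mul_eq_one_right (S.el_sq _)] at h1
    rw [← S.braid hp hq.1 (hpq q hq).1 (hpq q hq).2, ← S.braid hp hr.1 (hpq r hr).1 (hpq r hr).2] at h1
    exact S.el_inj a hq.1 hr.1 (mul_left_cancel (mul_right_cancel h1))
  have hmove : ∀ {q x y : Φ}, el q • x = x → y ∈ N x → el q • y ∈ N x := fun {q x y} hf hy => by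
    rw [← hf, S.equiv]; exact ⟨y, hy, rfl⟩
  have hback : ∀ {q : Φ} (x : Φ), el q • el q • x = x := fun {q} x => by rw [← mul_smul, S.el_sq, one_smul]
  have hkey : ∀ q ∈ N a ∩ N e, el q • p ∈ N a ∧
      el q • p ∉ N a ∩ N e ∧ ∀ r ∈ N a ∩ N e, r ∉ N (el q • p) := by
    intro q hq
    have fa := S.fixes hq.1
    have fe := S.fixes hq.2
    have stab : ∀ {r}, r ∈ N a ∩ N e → el q • r ∈ N a ∩ N e := fun hr => ⟨hmove fa hr.1, hmove fe hr.2⟩
    refine ⟨hmove fa hp, fun h => hp0 ?_, fun r hr h => ?_⟩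
    · have := stab h
      rwa [hback] at this
    · have h1 : el q • r ∈ N p := by
        rw [S.equiv] at h
        obtain ⟨w, hw, e'⟩ := h
        have e' : el q • w = r := e'
        rw [← e', hback]; exact hw
      exact (hpq _ (stab hr)).2 h1
  obtain ⟨-, h⟩ := S.closed_bound hne0 hae subset_rfl hne (fun _ _ _ hr _ => hr) ((fun q => el q • p) '' (N a ∩ N e))
    (by rintro _ ⟨q, hq, rfl⟩; exact (hkey q hq).1)
    (by rintro _ ⟨q, hq, rfl⟩; exact (hkey q hq).2)
  rw [Set.InjOn.ncard_image hinj] at h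
  generalize ((N a ∩ N e).ncard : ℤ) = s at h
  nlinarith [sq_nonneg (8 * s - 2187)]

/-- A component has diameter two. -/
theorem reach_cases {a x : Φ} (h : ReflTransGen (fun p q => q ∈ N p) a x) :
    x = a ∨ x ∈ N a ∨ (x ∉ N a ∧ x ≠ a ∧ (N a ∩ N x).Nonempty) := by
  induction h with
  | refl => exact Or.inl rfl
  | @tail u v _ huv ih =>
    by_cases hva : v = a
    · exact Or.inl hva
    by_cases hc : v ∈ N a
    · exact Or.inr (Or.inl hc)
    refine Or.inr (Or.inr ⟨hc, hva, ?_⟩)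
    rcases ih with rfl | h | ⟨h, hne0, hne⟩
    · exact absurd huv hc
    · exact ⟨u, h, S.symm huv⟩
    · obtain ⟨q, hq⟩ := hne
      rcases S.exists_common_commute (fun e => hne0 e.symm) (fun h' => h (S.symm h')) ⟨q, hq.2, hq.1⟩ huv with
        h' | ⟨y, hy, hyv⟩
      · exact absurd (S.symm h'.2) (fun h'' => hc (S.symm h''))
      · exact ⟨y, hy.2, S.symm hyv⟩

/-- Two members of a component have different elements. -/
theorem el_ne_of_reach {a x : Φ} (h : ReflTransGen (fun p q => q ∈ N p) a x)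
    (hne : x ≠ a) : el x ≠ el a := by
  rcases S.reach_cases h with rfl | h | ⟨-, -, q, hq⟩
  · exact absurd rfl hne
  · exact S.el_ne h
  · exact fun e => hne (S.el_inj q (S.symm hq.2) (S.symm hq.1) e)

end LGraph

end Cfsg.Agent.Fi24Char
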