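/-
The data of a group of large Fischer type at a four group t, u: the centraliser of t, its half Y0 as a double
cover of a group of type M(22) with u over a member, and the subgroup of order 2^11.

* `quot_class`, `Quot`, `Frame`, `exists_base`
-/
import Cfsg.Agent.Lib.U62Fischer.Cent
import Cfsg.Agent.Lib.TransCentFi23.Fusion
import Cfsg.Agent.Lib.ThreeTrans.RankThree

set_option autoImplicit false
set_option maxRecDepth 100000

namespace Cfsg.Agent.Fi24Char

open Subgroup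
open Cfsg.Agent.U62Fischer (mem_zpowers_two' selfC)
open Cfsg.Agent.LargeFischer LargeExtraspecial Golay

universe u

section

variable {Y : Type u} [Group Y] [Finite Y]

set_option maxHeartbeats 1000000 in
theorem quot_class (t u : Y) (htc : t ∈ center Y) (ht2 : t * t = 1) (hu2 : u * u = 1)
    (hu : u ∉ zpowers t) (Y0 : Subgroup Y)
    (hle : centralizer ({u} : Set Y) ≤ Y0) (hq : Cfsg.IsQuasisimple ↥(centralizer ({u} : Set Y)))
    (K : Type) [Field K] [Fintype K] (hK : Fintype.card K = 4)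
    (ψ : ↥(centralizer ({u} : Set Y)) →* Cfsg.PSU 6 K 2) (hψ : Function.Surjective ψ)
    (hker : ∀ g : ↥(centralizer ({u} : Set Y)), ψ g = 1 ↔
      ((g : Y) = 1 ∨ (g : Y) = t ∨ (g : Y) = u ∨ (g : Y) = t * u))
    (hno : ∀ g ∈ Y0, g * u * g⁻¹ ≠ t * u)
    (hnwc : ∃ g ∈ Y0, Commute (g * u * g⁻¹) u ∧ g * u * g⁻¹ ≠ u ∧ g * u * g⁻¹ ≠ t * u)
    [hT : ((zpowers t).subgroupOf Y0).Normal] :
    Cfsg.IsThreeTranspositionClass (conjugatesOf (QuotientGroup.mk' ((zpowers t).subgroupOf Y0)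
      ⟨u, hle (mem_centralizer_singleton_iff.2 rfl)⟩)) ∧
      Cfsg.IsOfTypeM22 (↥Y0 ⧸ (zpowers t).subgroupOf Y0) (conjugatesOf (QuotientGroup.mk'
        ((zpowers t).subgroupOf Y0) ⟨u, hle (mem_centralizer_singleton_iff.2 rfl)⟩)) := by
  classical
  have htu : t * u = u * t := (mem_center_iff.1 htc u).symm
  have huC : u ∈ centralizer ({u} : Set Y) := mem_centralizer_singleton_iff.2 rfl
  have htC : t ∈ centralizer ({u} : Set Y) := mem_centralizer_singleton_iff.2 htu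
  have htY : t ∈ Y0 := hle htC
  set T0 : Subgroup ↥Y0 := (zpowers t).subgroupOf Y0 with hT0
  have hTc : ∀ g : ↥Y0, (g : Y) ∈ zpowers t → g ∈ center ↥Y0 := fun g hg => mem_center_iff.2 fun k =>
    Subtype.ext (mem_center_iff.1 (zpowers_le.2 htc hg) k)
  haveI : T0.Normal := ⟨fun n hn g => by rwa [mem_center_iff.1 (hTc n hn) g, mul_inv_cancel_right]⟩
  set π := QuotientGroup.mk' T0
  have hπ : Function.Surjective π := QuotientGroup.mk'_surjective T0
  have hπ1 : ∀ g : ↥Y0, π g = 1 ↔ ((g : Y) = 1 ∨ (g : Y) = t) := fun g => by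
    rw [← MonoidHom.mem_ker, QuotientGroup.ker_mk', mem_subgroupOf]
    exact ⟨mem_zpowers_two' ht2, by rintro (h | h) <;> rw [h]; exacts [one_mem _, mem_zpowers t]⟩
  set uY : ↥Y0 := ⟨u, hle huC⟩
  set d := π uY with hd
  have hd1 : d ≠ 1 := fun h => by
    rcases (hπ1 uY).1 h with e | e
    exacts [hu (by rw [show u = 1 from e]; exact one_mem _), hu (by rw [show u = t from e]; exact mem_zpowers t)]
  have hd2 : orderOf d = 2 := orderOf_eq_prime (by
    rw [pow_two, hd, ← map_mul, show uY * uY = 1 from Subtype.ext hu2, map_one]) hd1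
  have hsame : ∀ g : ↥Y0, π g = d → (g : Y) = u ∨ (g : Y) = t * u := by
    intro g h
    have h1 : π (g * uY⁻¹) = 1 := by rw [map_mul, map_inv, h, mul_inv_cancel]
    rcases (hπ1 _).1 h1 with e | e
    · exact Or.inl (mul_inv_eq_one.1 e)
    · exact Or.inr (mul_inv_eq_iff_eq_mul.1 e)
  -- the centraliser of d
  let φ : ↥(centralizer ({u} : Set Y)) →* ↥(centralizer ({d} : Set (↥Y0 ⧸ T0))) :=
    (π.comp (inclusion hle)).codRestrict _ fun g => mem_centralizer_singleton_iff.2 (by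
      show π _ * d = d * π _
      rw [hd, ← map_mul, ← map_mul]
      exact congrArg π (Subtype.ext (mem_centralizer_singleton_iff.1 g.2)))
  have hφ : Function.Surjective φ := by
    rintro ⟨q, hq⟩
    obtain ⟨g, rfl⟩ := hπ q
    have h : π (g * uY * g⁻¹) = d := by
      rw [map_mul, map_mul, map_inv]
      exact mul_inv_eq_iff_eq_mul.2 (mem_centralizer_singleton_iff.1 hq)
    have hgu : (g : Y) * u * (g : Y)⁻¹ = u := (hsame _ h).resolve_right (hno g g.2)
    exact ⟨⟨g, mem_centralizer_singleton_iff.2 (mul_inv_eq_iff_eq_mul.1 hgu)⟩, Subtype.ext rfl⟩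
  haveI : Nontrivial ↥(centralizer ({d} : Set (↥Y0 ⧸ T0))) :=
    ⟨⟨⟨d, mem_centralizer_singleton_iff.2 rfl⟩, 1, fun e => hd1 (congrArg Subtype.val e)⟩⟩
  have hqd : Cfsg.IsQuasisimple ↥(centralizer ({d} : Set (↥Y0 ⧸ T0))) :=
    Components.IsQuasisimple.of_surjective hq φ hφ
  haveI : ((zpowers d).subgroupOf (centralizer ({d} : Set (↥Y0 ⧸ T0)))).Normal := ⟨fun n hn g => by
    obtain ⟨i, hi⟩ := mem_zpowers_iff.1 (mem_subgroupOf.1 hn)
    have hc : Commute (g : ↥Y0 ⧸ T0) (n : ↥Y0 ⧸ T0) := by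
      rw [← hi]; exact Commute.zpow_right (mem_centralizer_singleton_iff.1 g.2) i
    rwa [show g * n * g⁻¹ = n from Subtype.ext (mul_inv_eq_iff_eq_mul.2 hc.eq)]⟩
  have hφ1 : φ.ker ≤ ψ.ker := fun g hg => by
    rw [MonoidHom.mem_ker, hker]
    rcases (hπ1 _).1 (congrArg Subtype.val (MonoidHom.mem_ker.1 hg)) with e | e
    exacts [Or.inl e, Or.inr (Or.inl e)]
  let ψ' : ↥(centralizer ({d} : Set (↥Y0 ⧸ T0))) →* Cfsg.PSU 6 K 2 := φ.liftOfSurjective hφ ⟨ψ, hφ1⟩
  have hψ' : ∀ g, ψ' (φ g) = ψ g := fun g =>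
    MonoidHom.liftOfRightInverse_comp_apply φ _ (Function.rightInverse_surjInv hφ) ⟨ψ, hφ1⟩ g
  have hker' : ψ'.ker = (zpowers d).subgroupOf (centralizer ({d} : Set (↥Y0 ⧸ T0))) := by
    ext c
    obtain ⟨g, rfl⟩ := hφ c
    rw [MonoidHom.mem_ker, hψ', hker, mem_subgroupOf]
    have hd2' : d * d = 1 := by rw [← pow_two, ← hd2, pow_orderOf_eq_one]
    constructor
    · intro h
      rcases h with e | e | e | e
      · rw [show ((φ g : ↥(centralizer ({d} : Set (↥Y0 ⧸ T0)))) : ↥Y0 ⧸ T0) = 1 from (hπ1 _).2 (Or.inl e)]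
        exact one_mem _
      · rw [show ((φ g : ↥(centralizer ({d} : Set (↥Y0 ⧸ T0)))) : ↥Y0 ⧸ T0) = 1 from (hπ1 _).2 (Or.inr e)]
        exact one_mem _
      · rw [show ((φ g : ↥(centralizer ({d} : Set (↥Y0 ⧸ T0)))) : ↥Y0 ⧸ T0) = d from
          congrArg π (Subtype.ext e)]
        exact mem_zpowers d
      · rw [show ((φ g : ↥(centralizer ({d} : Set (↥Y0 ⧸ T0)))) : ↥Y0 ⧸ T0) = π (⟨t, htY⟩ * uY) from
          congrArg π (Subtype.ext e), map_mul, (hπ1 ⟨t, htY⟩).2 (Or.inr rfl), one_mul]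
        exact mem_zpowers d
    · intro h
      rcases mem_zpowers_two' hd2' h with e | e
      · rcases (hπ1 _).1 e with k | k
        exacts [Or.inl k, Or.inr (Or.inl k)]
      · rcases hsame _ e with k | k
        exacts [Or.inr (Or.inr (Or.inl k)), Or.inr (Or.inr (Or.inr k))]
  have hψ'surj : Function.Surjective ψ' := fun x => by
    obtain ⟨g, rfl⟩ := hψ x
    exact ⟨φ g, hψ' g⟩
  let e := (QuotientGroup.quotientMulEquivOfEq hker'.symm).trans
    (QuotientGroup.quotientKerEquivOfSurjective ψ' hψ'surj)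
  obtain ⟨g, hg, hc, hn1, hn2⟩ := hnwc
  obtain ⟨T, hdD⟩ := Cfsg.Agent.TransCentFi22.start d hd2 hqd K hK e (by
    refine ⟨π ⟨g, hg⟩, ?_, fun h => ?_⟩
    · rw [mem_centralizer_singleton_iff, hd, ← map_inv, ← map_mul, ← map_mul, ← map_mul, ← map_mul]
      exact congrArg π (Subtype.ext hc.eq)
    · rw [hd, ← map_inv, ← map_mul, ← map_mul] at h
      rcases hsame _ h with e | e
      exacts [hn1 e, hn2 e])
  exact T.class_top T.far_refl hdD

end

variable {G : Type u} [Group G]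

/-- The half of the centraliser of t as a double cover of a group of type M(22). -/
structure Quot (t u : G) (Y0 : Subgroup G) : Prop where
  t_sq : t * t = 1
  u_sq : u * u = 1
  t_ne : t ≠ 1
  tu : Commute t u
  le : Y0 ≤ centralizer ({t} : Set G)
  t_mem : t ∈ Y0
  two : ∀ g h : G, Commute g t → Commute h t → g ∉ Y0 → h ∉ Y0 → g * h ∈ Y0
  normal : ∀ g : G, Commute g t → ∀ y ∈ Y0, g * y * g⁻¹ ∈ Y0
  cent : ∀ g : G, Commute g t → Commute g u → g ∈ Y0
  hno : ∀ g ∈ Y0, g * u * g⁻¹ ≠ t * u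
  qsimple : Cfsg.IsQuasisimple ↥Y0
  cover : ∃ (X : Type u) (_ : Group X) (_ : Finite X) (E : Set X) (ψ : ↥Y0 →* X) (τ υ : ↥Y0),
    FischerM22.Fi22Setup E ∧ M22Cover.Ext ψ τ ∧ (τ : G) = t ∧ (υ : G) = u ∧ E = conjugatesOf (ψ υ) ∧ IsSimpleGroup X

/-- Three points in a subgroup of order 2^11. -/
structure Frame (z t u : G) (A : Subgroup G) (D : AData z A) (a b c : Cfsg.GolayPt) : Prop where
  ab : a ≠ b
  ac : a ≠ c
  bc : b ≠ c
  zA : z ∈ A
  et : t = D.pairEl a b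
  eu : u = D.pairEl a c
  etu : t * u = D.pairEl b c

variable [Finite G] {z : G} {Q : Subgroup (Subgroup.centralizer ({z} : Set G))}
  [Q.Normal] [hE : Fact (Cfsg.IsExtraspecial 2 Q)] {S : LargeFischer.Setting z Q} {t u : G}

open Cfsg.Agent.U62Fischer in
theorem exists_base (F : Four S t u) :
    ∃ (Y0 A : Subgroup G) (D : AData z A) (a b c : Cfsg.GolayPt),
      Quot t u Y0 ∧ Frame z t u A D a b c ∧ QG Q ≤ Subgroup.normalizer (A : Set G) := by
  classical
  obtain ⟨e⟩ := F.exists_quot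
  set C := Subgroup.centralizer ({t} : Set G) with hC
  obtain ⟨W, hidx, hle, hno, g, hg, hc, hne1, hne2⟩ := F.exists_half
  haveI hYn : W.Normal := normal_of_index_eq_two hidx
  set uY : ↥C := ⟨u, Subgroup.mem_centralizer_singleton_iff.2 F.tu_comm.symm⟩
  have hmem : ∀ g : ↥(Subgroup.centralizer ({uY} : Set ↥C)), ((g : ↥C) : G) ∈ Subgroup.centralizer (F.E : Set G) :=
    fun g => F.mem_cent (Subgroup.mem_centralizer_singleton_iff.1 g.1.2)
      (congrArg Subtype.val (Subgroup.mem_centralizer_singleton_iff.1 g.2))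
  let ι : ↥(Subgroup.centralizer ({uY} : Set ↥C)) ≃* ↥(Subgroup.centralizer (F.E : Set G)) :=
    { toFun := fun g => ⟨_, hmem g⟩
      invFun := fun g => ⟨⟨g, F.cent_le g.2⟩, Subgroup.mem_centralizer_singleton_iff.2 (Subtype.ext
        (Subgroup.mem_centralizer_iff.1 g.2 u (F.mem_E.2 (Or.inr (Or.inr (Or.inl rfl))))).symm)⟩
      left_inv := fun g => rfl
      right_inv := fun g => rfl
      map_mul' := fun a b => rfl }
  let θ : ↥(Subgroup.centralizer ({uY} : Set ↥C)) →* Cfsg.PSU 6 U62Rec.K 2 :=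
    e.toMonoidHom.comp ((QuotientGroup.mk' F.EC).comp ι.toMonoidHom)
  have hker : ∀ g, θ g = 1 ↔ ((g : ↥C) = 1 ∨ (g : ↥C) = selfC t ∨ (g : ↥C) = uY ∨ (g : ↥C) = selfC t * uY) := fun g => by
    show e (QuotientGroup.mk' F.EC (ι g)) = 1 ↔ _
    rw [map_eq_one_iff e e.injective, ← MonoidHom.mem_ker, QuotientGroup.ker_mk']
    show ((g : ↥C) : G) ∈ F.E ↔ _
    rw [F.mem_E]
    refine ⟨?_, ?_⟩
    · rintro (h | h | h | h)
      exacts [Or.inl (Subtype.ext h), Or.inr (Or.inl (Subtype.ext h)), Or.inr (Or.inr (Or.inl (Subtype.ext h))),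
        Or.inr (Or.inr (Or.inr (Subtype.ext h)))]
    · rintro (h | h | h | h) <;> rw [h]
      exacts [Or.inl rfl, Or.inr (Or.inl rfl), Or.inr (Or.inr (Or.inl rfl)), Or.inr (Or.inr (Or.inr rfl))]
  have hθ : Function.Surjective θ := e.surjective.comp ((QuotientGroup.mk'_surjective _).comp ι.surjective)
  have ht2 : selfC t * selfC t = 1 := Subtype.ext F.t_sq
  have htc : selfC t ∈ center ↥C :=
    Subgroup.mem_center_iff.2 fun k => Subtype.ext (Subgroup.mem_centralizer_singleton_iff.1 k.2)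
  haveI : (zpowers (selfC t)).Normal := ⟨fun n hn k => by
    rwa [mem_center_iff.1 (zpowers_le.2 htc hn) k, mul_inv_cancel_right]⟩
  haveI : ((zpowers (selfC t)).subgroupOf W).Normal := ⟨fun n hn k => by
    rwa [mem_center_iff.1 (show n ∈ center ↥W from mem_center_iff.2 fun m =>
      Subtype.ext (mem_center_iff.1 (zpowers_le.2 htc hn) m)) k, mul_inv_cancel_right]⟩
  have hle' : centralizer ({uY} : Set ↥C) ≤ W := fun g hg => hle g (hmem ⟨g, hg⟩)
  have hqu : Cfsg.IsQuasisimple ↥(centralizer ({uY} : Set ↥C)) := (Components.isQuasisimple_congr ι).2 F.quasisimple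
  have ht1 : selfC t ≠ 1 := fun h => F.t_ne (congrArg Subtype.val h)
  have hu2 : uY * uY = 1 := Subtype.ext F.u_sq
  have hu : uY ∉ zpowers (selfC t) := fun h => by
    rcases mem_zpowers_two' ht2 h with e | e
    exacts [F.u_ne (congrArg Subtype.val e), F.t_ne_u (congrArg Subtype.val e).symm]
  have hno' : ∀ g ∈ W, g * uY * g⁻¹ ≠ selfC t * uY := fun g hg h => hno g hg (congrArg Subtype.val h)
  have hnwc : ∃ g ∈ W, Commute (g * uY * g⁻¹) uY ∧ g * uY * g⁻¹ ≠ uY ∧ g * uY * g⁻¹ ≠ selfC t * uY :=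
    ⟨g, hg, Subtype.ext hc.eq, fun h => hne1 (congrArg Subtype.val h), fun h => hne2 (congrArg Subtype.val h)⟩
  obtain ⟨hcls, h22⟩ := quot_class (selfC t) uY htc ht2 hu2 hu W hle' hqu U62Rec.K U62Rec.cardK θ hθ hker
    hno' hnwc
  obtain ⟨-, hq, htY, -⟩ := U62Fischer.fi22_main (selfC t) uY htc ht2 ht1 hu2 hu W hidx hle' hqu U62Rec.K
    U62Rec.cardK θ hθ hker hno' hnwc
  set T0 := (zpowers (selfC t)).subgroupOf W
  set π := QuotientGroup.mk' T0
  have hperf : commutator (↥W ⧸ T0) = ⊤ := by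
    have := congrArg (Subgroup.map π) hq.1.commutator_eq_top
    rwa [_root_.commutator_def, Subgroup.map_commutator,
      Subgroup.map_top_of_surjective _ (QuotientGroup.mk'_surjective T0)] at this
  have hcen : T0 = center ↥W := by
    refine le_antisymm ?_ fun n hn => ?_
    · intro n hn
      exact mem_center_iff.2 fun m => Subtype.ext (mem_center_iff.1 (zpowers_le.2 htc hn) (m : ↥C))
    rw [← QuotientGroup.eq_one_iff, ← mem_bot, ← h22.1, mem_center_iff]
    intro q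
    induction q using QuotientGroup.induction_on with
    | _ m => exact congrArg QuotientGroup.mk (mem_center_iff.1 hn m)
  have hsimp : IsSimpleGroup (↥W ⧸ T0) := by
    haveI := hq.2
    exact MulEquiv.isSimpleGroup (QuotientGroup.quotientMulEquivOfEq hcen)
  have hsimp' : IsSimpleGroup ↥(commutator (↥W ⧸ T0)) :=
    MulEquiv.isSimpleGroup ((MulEquiv.subgroupCongr hperf).trans Subgroup.topEquiv)
  have hnonab : ∃ x y : ↥(commutator (↥W ⧸ T0)), x * y ≠ y * x := by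
    by_contra hall
    push Not at hall
    obtain ⟨x, hx⟩ := exists_ne (1 : ↥W ⧸ T0)
    apply hx
    rw [← mem_bot, ← h22.1, mem_center_iff]
    intro y
    exact congrArg Subtype.val (hall ⟨y, hperf ▸ mem_top y⟩ ⟨x, hperf ▸ mem_top x⟩)
  set Y0 : Subgroup G := W.map C.subtype with hY0
  let ε : ↥W ≃* ↥Y0 := W.equivMapOfInjective C.subtype C.subtype_injective
  let ψ : ↥Y0 →* ↥W ⧸ T0 := π.comp ε.symm.toMonoidHom
  have hψε : ∀ y : ↥W, ψ (ε y) = π y := fun y => congrArg π (ε.symm_apply_apply y)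
  have hmemY : ∀ {x : G} (hx : Commute x t),
      x ∈ Y0 ↔ (⟨x, mem_centralizer_singleton_iff.2 hx.eq⟩ : ↥C) ∈ W := fun {x} hx => by
    refine ⟨?_, fun h => ⟨_, h, rfl⟩⟩
    rintro ⟨y, hy, e⟩
    rwa [show (⟨x, _⟩ : ↥C) = y from Subtype.ext e.symm]
  have hleC : Y0 ≤ C := by rintro _ ⟨y, -, rfl⟩; exact y.2
  obtain ⟨A, ⟨D⟩, hzA, htA, huA, hQA⟩ := F.exists_adata
  obtain ⟨a, b, c, hab, hac, hbc, et, eu⟩ : ∃ a b c, a ≠ b ∧ a ≠ c ∧ b ≠ c ∧ t = D.pairEl a b ∧
      u = D.pairEl a c := by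
    obtain ⟨p, q, hpq, et⟩ := D.exists_pair htA F.t_ne (F.E_nonconj (F.mem_E.2 (by simp)) F.t_ne)
    obtain ⟨x, y, hxy, eu⟩ := D.exists_pair huA F.u_ne (F.E_nonconj (F.mem_E.2 (by simp)) F.u_ne)
    have htu1 : t * u ≠ 1 := fun e => F.e_ne (x := 10) (by simp) (by rw [← F.tu_vec, e, vec_one])
    obtain ⟨hcom, hns⟩ := (D.meet_iff hpq hxy).2
      (by rw [et, eu]; exact ⟨htu1, F.E_nonconj (F.mem_E.2 (by simp)) htu1⟩)
    rcases hcom with e | e | e | e <;> subst e
    · exact ⟨p, q, y, hpq, hxy, fun e => hns (Or.inl ⟨rfl, e⟩), et.symm, eu.symm⟩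
    · exact ⟨p, q, x, hpq, hxy.symm, fun e => hns (Or.inr ⟨rfl, e⟩), et.symm, eu.symm.trans (D.pairEl_comm _ _)⟩
    · exact ⟨q, p, y, hpq.symm, hxy, fun e => hns (Or.inr ⟨e, rfl⟩), et.symm.trans (D.pairEl_comm _ _), eu.symm⟩
    · exact ⟨q, p, x, hpq.symm, hxy.symm, fun e => hns (Or.inl ⟨e, rfl⟩), et.symm.trans (D.pairEl_comm _ _),
        eu.symm.trans (D.pairEl_comm _ _)⟩
  have etu : t * u = D.pairEl b c := by
    rw [et, eu, D.mul_pairEl]
    unfold AData.pairEl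
    congr 1
    show (tauI (idx a) ^^^ tauI (idx b)) ^^^ (tauI (idx a) ^^^ tauI (idx c))
      = tauI (idx b) ^^^ tauI (idx c)
    rw [Nat.xor_comm (tauI (idx a)) (tauI (idx b)), Nat.xor_assoc,
      ← Nat.xor_assoc (tauI (idx a)), Nat.xor_self, Nat.zero_xor]
  have huY : uY ∈ W := hle' (mem_centralizer_singleton_iff.2 rfl)
  refine ⟨Y0, A, D, a, b, c, ⟨F.t_sq, F.u_sq, F.t_ne, F.tu_comm, hleC, ⟨selfC t, htY, rfl⟩, ?_, ?_, ?_, ?_, ?_,
    ⟨↥W ⧸ T0, inferInstance, inferInstance, conjugatesOf (π ⟨uY, huY⟩), ψ, ε ⟨selfC t, htY⟩, ε ⟨uY, huY⟩, ?_, ?_,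
      rfl, rfl, by rw [hψε], hsimp⟩⟩, ⟨hab, hac, hbc, hzA, et, eu, etu⟩, hQA⟩
  · intro g h hgt hht hg hh
    rw [hmemY (hgt.mul_left hht)]
    exact (Subgroup.mul_mem_iff_of_index_two hidx
      (a := ⟨g, mem_centralizer_singleton_iff.2 hgt.eq⟩) (b := ⟨h, mem_centralizer_singleton_iff.2 hht.eq⟩)).2
      (iff_of_false (fun k => hg ((hmemY hgt).2 k)) (fun k => hh ((hmemY hht).2 k)))
  · intro g hgt y hy
    obtain ⟨y', hy', rfl⟩ := hy
    exact ⟨_, hYn.conj_mem y' hy' ⟨g, mem_centralizer_singleton_iff.2 hgt.eq⟩, rfl⟩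
  · intro g hgt hgu
    exact ⟨_, hle ⟨g, mem_centralizer_singleton_iff.2 hgt.eq⟩ (F.mem_cent hgt hgu), rfl⟩
  · rintro _ ⟨y, hy, rfl⟩
    exact hno y hy
  · exact (Components.isQuasisimple_congr ε).1 hq
  · exact ⟨hcls, ThreeTrans.centralCores_of_simple_derived hsimp' hnonab,
      ThreeTrans.connected_of_simple_derived hcls hsimp' hnonab, h22⟩
  · refine ⟨fun q => ?_, fun h => ht1 ?_, ?_, fun h => ?_, fun h => ?_⟩
    · obtain ⟨y, rfl⟩ := QuotientGroup.mk'_surjective T0 q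
      exact ⟨ε y, hψε y⟩
    · exact congrArg Subtype.val (show (⟨selfC t, htY⟩ : ↥W) = 1 from ε.injective (h.trans (map_one ε).symm))
    · rw [← map_mul, show (⟨selfC t, htY⟩ : ↥W) * ⟨selfC t, htY⟩ = 1 from Subtype.ext ht2, map_one]
    · exact Subtype.ext (mem_centralizer_singleton_iff.1 (hleC h.2)).symm
    · obtain ⟨y, rfl⟩ := ε.surjective h
      rw [hψε, ← MonoidHom.mem_ker, QuotientGroup.ker_mk', mem_subgroupOf, map_eq_one_iff ε ε.injective,
        ε.injective.eq_iff]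
      exact ⟨fun hy => (mem_zpowers_two' ht2 hy).imp (fun e => Subtype.ext e) (fun e => Subtype.ext e),
        by rintro (rfl | rfl); exacts [one_mem _, mem_zpowers _]⟩

end Cfsg.Agent.Fi24Char
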