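/-
The subgroup of type M(23) over the half of the centraliser of t: flags are the cosets of Y0, and the
stabiliser of the component of the base flag is a copy of Fi23 meeting the centraliser of t in Y0.

* `Net`, `Frame.fix_mem`, `exists_net`
-/
import Cfsg.Agent.Lib.Fi24Char.Graph
import Cfsg.Agent.Lib.Fi24Char.Setup
import Cfsg.Agent.Lib.TransCentFi23.Presented
import Cfsg.Agent.Lib.TransCentFi23.Model
import Cfsg.Agent.Lib.FischerM23.Involutions
import Cfsg.Agent.Lib.FischerM24.Connected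

set_option autoImplicit false
set_option linter.unusedSectionVars false
set_option linter.style.haveILetI false

namespace Cfsg.Agent.Fi24Char

open Cfsg.Agent.LargeFischer Relation Golay
open Cfsg.Agent.ThreeTrans (adj common class_conj)

universe u

variable {G : Type u} [Group G] [Finite G] {z t u : G} {Y0 A : Subgroup G}

namespace Quot

theorem normal_iff (q : Quot t u Y0) {g : G} (hg : Commute g t) {y : G} : g * y * g⁻¹ ∈ Y0 ↔ y ∈ Y0 :=
  ⟨fun h => by have := q.normal g⁻¹ hg.inv_left _ h; simpa [mul_assoc] using this, q.normal g hg y⟩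

theorem comm_t (q : Quot t u Y0) {y : G} (hy : y ∈ Y0) : Commute y t :=
  Subgroup.mem_centralizer_singleton_iff.1 (q.le hy)

theorem u_mem (q : Quot t u Y0) : u ∈ Y0 := q.cent u q.tu.symm (Commute.refl u)

theorem u_ne (q : Quot t u Y0) : u ≠ t := fun h => by
  obtain ⟨X, _, _, E, ψ, τ, υ, S, Xt, hτ, hυ, hE, -⟩ := q.cover
  have : υ = τ := Subtype.ext (hυ.trans (h.trans hτ.symm))
  exact ThreeTrans.ne_one S.cls.1 (show ψ υ ∈ E by rw [hE]; exact mem_conjugatesOf_self)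
    (by rw [this]; exact (Xt.ker τ).2 (Or.inr rfl))

theorem conj_inj (q : Quot t u Y0) {X : Type*} [Group X] (ψ : ↥Y0 →* X) {τ υ : ↥Y0}
    (hX : M22Cover.Ext ψ τ) (hτ : (τ : G) = t) (hυ : (υ : G) = u) {y y' : ↥Y0}
    (h : ψ (y * υ * y⁻¹) = ψ (y' * υ * y'⁻¹)) : y * υ * y⁻¹ = y' * υ * y'⁻¹ := by
  rcases hX.fibre h with e | e
  · exact e.symm
  · exfalso
    have h1 : y⁻¹ * y' * υ * (y⁻¹ * y')⁻¹ = υ * τ := by
      calc y⁻¹ * y' * υ * (y⁻¹ * y')⁻¹ = y⁻¹ * (y' * υ * y'⁻¹) * y := by group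
        _ = υ * (y⁻¹ * τ * y) := by rw [e]; group
        _ = υ * τ := by rw [mul_assoc y⁻¹, (hX.central y).eq, inv_mul_cancel_left]
    refine q.hno _ (y⁻¹ * y').2 ?_
    have h2 := congrArg Subtype.val h1
    simp only [Subgroup.coe_mul, Subgroup.coe_inv, hτ, hυ] at h2 ⊢
    rw [h2, q.tu.eq]

end Quot

/-- The subgroup of type M(23) through Y0 and an exchange of the two ends. -/
structure Net (t g0 r : G) (H Y0 : Subgroup G) : Prop where
  t_sq : t * t = 1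
  t_ne : t ≠ 1
  t_mem : t ∈ Y0
  g0t : Commute g0 t
  g0_not : g0 ∉ H
  Y0_eq : ∀ g : G, g ∈ Y0 ↔ g ∈ H ∧ Commute g t
  cases : ∀ g : G, Commute g t → g ∈ Y0 ∨ g0⁻¹ * g ∈ Y0
  g0_sq : g0 * g0 ∈ Y0
  back : ∀ g ∈ Y0, g0⁻¹ * g * g0 ∈ Y0
  inter : ∀ g ∈ H, g0⁻¹ * g * g0 ∈ H → g ∈ Y0
  rH : r ∈ H
  r_comm : Commute (r * t * r⁻¹) t
  r_ne : r * t * r⁻¹ ≠ t
  tri : ∃ k, g0⁻¹ * k ∈ H ∧ g0⁻¹ * r⁻¹ * k * g0 ∈ H ∧ k * t * k⁻¹ = t * (r * t * r⁻¹)
  setup : ∀ tH : ↥H, (tH : G) = t → FischerM23.Fi23Setup (conjugatesOf tH)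
  half : Cfsg.IsQuasisimple ↥Y0 ∧ Cfsg.Spor.IsoFi22 (↥Y0 ⧸ Subgroup.center ↥Y0)
  triple : ∀ tH : ↥H, (tH : G) = t → ∀ a b c : ↥H, FischerM22.IsTriple (conjugatesOf tH) a b c →
    ¬ IsConj t ((a * b * c : ↥H) : G)

variable {D : AData z A} {a b c : Cfsg.GolayPt}

local notation "NN" => Subgroup.normalizer (A : Set G)

theorem exists_pt_map (D : AData z A) {n : ℕ} (hn : n ≤ 5) (x y : Fin n → Cfsg.GolayPt) (hx : Function.Injective x)
    (hy : Function.Injective y) : ∃ g : ↥NN, ∀ i, D.pointHom g (x i) = y i := by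
  obtain ⟨π, hπ, h⟩ := Golay.exists_map_of_le_five hn ⟨x, hx⟩ ⟨y, hy⟩
  obtain ⟨g, hg⟩ := D.exists_pointHom hπ
  exact ⟨g, fun i => by rw [hg]; exact h i⟩

theorem inj3 {α : Type*} {x y w : α} (h1 : x ≠ y) (h2 : x ≠ w) (h3 : y ≠ w) :
    Function.Injective ![x, y, w] := (U62Fischer.three h1 h2 h3).injective

theorem inj4 {α : Type*} {x y w v : α} (h1 : x ≠ y) (h2 : x ≠ w) (h3 : x ≠ v) (h4 : y ≠ w) (h5 : y ≠ v)
    (h6 : w ≠ v) : Function.Injective ![x, y, w, v] := by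
  intro i j h
  fin_cases i <;> fin_cases j <;> simp_all [eq_comm]

theorem inj2 {α : Type*} {x y : α} (h : x ≠ y) : Function.Injective ![x, y] := by
  intro i j e
  fin_cases i <;> fin_cases j
  exacts [rfl, absurd e h, absurd e h.symm, rfl]

theorem exists_fresh (p q s r : Cfsg.GolayPt) : ∃ d, d ≠ p ∧ d ≠ q ∧ d ≠ s ∧ d ≠ r := by
  classical
  by_contra! h
  have hsub : (Finset.univ : Finset Cfsg.GolayPt) ⊆ {p, q, s, r} := fun x _ => by
    simp only [Finset.mem_insert, Finset.mem_singleton]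
    by_contra! hx
    exact hx.2.2.2 (h x hx.1 hx.2.1 hx.2.2.1)
  have := (Finset.card_le_card hsub).trans Finset.card_le_four
  rw [Finset.card_univ] at this
  exact absurd this (by decide)

namespace Frame

variable (F : Frame z t u A D a b c)
include F

theorem move_t (g : ↥NN) : (g : G) * t * (g : G)⁻¹ = D.pairEl (D.pointHom g a) (D.pointHom g b) := by
  rw [F.et]; exact D.pointHom_spec g F.ab

theorem move_u (g : ↥NN) : (g : G) * u * (g : G)⁻¹ = D.pairEl (D.pointHom g a) (D.pointHom g c) := by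
  rw [F.eu]; exact D.pointHom_spec g F.ac

theorem comm_of (g : ↥NN) (h : D.pointHom g a = a ∧ D.pointHom g b = b ∨ D.pointHom g a = b ∧ D.pointHom g b = a) :
    Commute (g : G) t := by
  refine mul_inv_eq_iff_eq_mul.1 ?_
  rw [F.move_t]
  rcases h with ⟨h1, h2⟩ | ⟨h1, h2⟩ <;> rw [h1, h2, F.et]
  exact D.pairEl_comm _ _

theorem fix_three (q : Quot t u Y0) {g : ↥NN} (h1 : D.pointHom g a = a) (h2 : D.pointHom g b = b)
    (h3 : D.pointHom g c = c) : (g : G) ∈ Y0 :=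
  q.cent _ (F.comm_of g (Or.inl ⟨h1, h2⟩)) (mul_inv_eq_iff_eq_mul.1 (by rw [F.move_u, h1, h3, F.eu]))

/-- Fixing both ends. -/
theorem fix_mem (q : Quot t u Y0) {g : ↥NN} (h1 : D.pointHom g a = a) (h2 : D.pointHom g b = b) :
    (g : G) ∈ Y0 := by
  by_cases h3 : D.pointHom g c = c
  · exact F.fix_three q h1 h2 h3
  set c' := D.pointHom g c with hc'
  have hca : c' ≠ a := fun e => F.ac ((D.pointHom g).injective (h1.trans e.symm))
  have hcb : c' ≠ b := fun e => F.bc ((D.pointHom g).injective (h2.trans e.symm))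
  obtain ⟨d, hda, hdb, hdc, hdc'⟩ := exists_fresh a b c c'
  obtain ⟨m, hm⟩ := exists_pt_map D (by norm_num) ![a, b, c, d] ![a, b, d, c']
    (inj4 F.ab F.ac hda.symm F.bc hdb.symm hdc.symm) (inj4 F.ab hda.symm hca.symm hdb.symm hcb.symm hdc')
  have m0 : D.pointHom m a = a := hm 0
  have m1 : D.pointHom m b = b := hm 1
  have m2 : D.pointHom m c = d := hm 2
  have m3 : D.pointHom m d = c' := hm 3
  have hmt := F.comm_of m (Or.inl ⟨m0, m1⟩)
  have hmm : ((m * m : ↥NN) : G) ∈ Y0 := by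
    by_cases h : (m : G) ∈ Y0
    · exact mul_mem h h
    · exact q.two _ _ hmt hmt h h
  have e : ∀ x y, D.pointHom (m * m) x = y → D.pointHom g x = y → D.pointHom ((m * m)⁻¹ * g) x = x := by
    intro x y e1 e2
    rw [map_mul, Equiv.Perm.mul_apply, e2, map_inv, Equiv.Perm.inv_eq_iff_eq, e1]
  have := F.fix_three q (g := (m * m)⁻¹ * g) (e a a (by rw [map_mul, Equiv.Perm.mul_apply, m0, m0]) h1)
    (e b b (by rw [map_mul, Equiv.Perm.mul_apply, m1, m1]) h2)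
    (e c c' (by rw [map_mul, Equiv.Perm.mul_apply, m2, m3]) rfl)
  have := mul_mem hmm this
  rwa [← Subgroup.coe_mul, mul_inv_cancel_left] at this

theorem swap_not_mem (q : Quot t u Y0) {g : ↥NN} (h1 : D.pointHom g a = b) (h2 : D.pointHom g b = a) :
    (g : G) ∉ Y0 := by
  obtain ⟨g0, hg0⟩ := exists_pt_map D (by norm_num) ![a, b, c] ![b, a, c] (inj3 F.ab F.ac F.bc)
    (inj3 F.ab.symm F.bc F.ac)
  intro hg
  have h0 : D.pointHom g0 a = b := hg0 0
  have h1' : D.pointHom g0 b = a := hg0 1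
  have h2' : D.pointHom g0 c = c := hg0 2
  have := F.fix_mem q (g := g⁻¹ * g0)
    (by rw [map_mul, Equiv.Perm.mul_apply, h0, map_inv, Equiv.Perm.inv_eq_iff_eq, h1])
    (by rw [map_mul, Equiv.Perm.mul_apply, h1', map_inv, Equiv.Perm.inv_eq_iff_eq, h2])
  refine q.hno _ (show (g0 : G) ∈ Y0 by have := mul_mem hg this; rwa [← Subgroup.coe_mul, mul_inv_cancel_left] at this) ?_
  rw [F.move_u, h0, h2', F.etu]

/-- The three commuting elements over four points. -/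
theorem quad_not (x : Cfsg.GolayPt) (hxa : x ≠ a) (hxb : x ≠ b) (hxc : x ≠ c) :
    IsConj z (t * u * D.pairEl a x) := by
  rw [F.etu]
  by_contra hz
  by_cases h1 : D.pairEl b c * D.pairEl a x = 1
  · have e : D.pairEl b c = D.pairEl a x :=
      (mul_eq_one_iff_eq_inv.1 h1).trans (inv_eq_of_mul_eq_one_right (D.sq_one (D.pairEl_mem a x)))
    rcases D.pairEl_inj F.bc hxa.symm e with ⟨h, -⟩ | ⟨-, h⟩
    · exact F.ab h.symm
    · exact F.ac h.symm
  · obtain ⟨hcom, -⟩ := (D.meet_iff F.bc hxa.symm).2 ⟨h1, hz⟩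
    rcases hcom with e | e | e | e
    · exact F.ab e.symm
    · exact hxb e.symm
    · exact F.ac e.symm
    · exact hxc e.symm

end Frame

/-! ### flags -/

section Flags

variable (Y0 : Subgroup G) (t r : G)

/-- The base flag. -/
abbrev base0 : G ⧸ Y0 := ((1 : G) : G ⧸ Y0)

/-- The flags next to the base. -/
def star0 : Set (G ⧸ Y0) := {f | ∃ y ∈ Y0, (y * r) • base0 Y0 = f}

/-- Adjacent flags. -/
noncomputable def nbr (f : G ⧸ Y0) : Set (G ⧸ Y0) := (f.out • ·) '' star0 Y0 r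

/-- The element of a flag. -/
noncomputable def flagEl (f : G ⧸ Y0) : G := f.out * t * f.out⁻¹

/-- The stabiliser of the component of the base flag. -/
noncomputable def sideGroup (r : G) : Set G :=
  {g | ReflTransGen (fun p q => q ∈ nbr Y0 r p) (base0 Y0) (g • base0 Y0)}

variable {Y0} {t r}

omit [Finite G] in
theorem smul_base (g : G) : g • base0 Y0 = (g : G ⧸ Y0) := by
  show ((g * 1 : G) : G ⧸ Y0) = _
  rw [mul_one]

omit [Finite G] in
theorem out_base (g : G) : ∃ y ∈ Y0, (g • base0 Y0).out = g * y := by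
  refine ⟨g⁻¹ * (g • base0 Y0).out, ?_, by rw [mul_inv_cancel_left]⟩
  rw [← QuotientGroup.eq, QuotientGroup.out_eq', smul_base]

omit [Finite G] in
theorem base_eq_iff {g h : G} : g • base0 Y0 = h • base0 Y0 ↔ g⁻¹ * h ∈ Y0 := by
  rw [smul_base, smul_base, QuotientGroup.eq]

omit [Finite G] in
theorem exists_rep (f : G ⧸ Y0) : ∃ g : G, g • base0 Y0 = f := ⟨f.out, by rw [smul_base, QuotientGroup.out_eq']⟩

omit [Finite G] in
theorem nbr_eq (g : G) : nbr Y0 r (g • base0 Y0) = (g • ·) '' star0 Y0 r := by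
  obtain ⟨y, hy, e⟩ := out_base (Y0 := Y0) g
  unfold nbr
  rw [e]
  ext f
  constructor
  · rintro ⟨_, ⟨y', hy', rfl⟩, rfl⟩
    refine ⟨_, ⟨y * y', mul_mem hy hy', rfl⟩, ?_⟩
    simp only [← mul_smul, mul_assoc]
  · rintro ⟨_, ⟨y', hy', rfl⟩, rfl⟩
    refine ⟨_, ⟨y⁻¹ * y', mul_mem (inv_mem hy) hy', rfl⟩, ?_⟩
    simp only [← mul_smul]
    congr 1
    group

omit [Finite G] in
theorem nbr_base : nbr Y0 r (base0 Y0) = star0 Y0 r := by
  rw [← one_smul G (base0 Y0), nbr_eq]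
  simp

omit [Finite G] in
theorem nbr_equiv (g : G) (f : G ⧸ Y0) : nbr Y0 r (g • f) = (g • ·) '' nbr Y0 r f := by
  obtain ⟨h, rfl⟩ := exists_rep f
  rw [← mul_smul, nbr_eq, nbr_eq, Set.image_image]
  simp only [mul_smul]

omit [Finite G] in
theorem mem_nbr_smul {g : G} {p f : G ⧸ Y0} : g • f ∈ nbr Y0 r (g • p) ↔ f ∈ nbr Y0 r p := by
  rw [nbr_equiv]
  exact (MulAction.injective g).mem_set_image

variable (q : Quot t u Y0) (F : Frame z t u A D a b c) {rN : ↥(Subgroup.normalizer (A : Set G))} (hr : (rN : G) = r)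
  (ra : D.pointHom rN a = a) (rb : D.pointHom rN b = c) (rc : D.pointHom rN c = b)

include q

theorem el_rep (g : G) : flagEl Y0 t (g • base0 Y0) = g * t * g⁻¹ := by
  obtain ⟨y, hy, e⟩ := out_base (Y0 := Y0) g
  unfold flagEl
  rw [e, show g * y * t * (g * y)⁻¹ = g * (y * t * y⁻¹) * g⁻¹ by group, (q.comm_t hy).eq, mul_inv_cancel_right]

theorem el_smul (g : G) (f : G ⧸ Y0) : flagEl Y0 t (g • f) = g * flagEl Y0 t f * g⁻¹ := by
  obtain ⟨h, rfl⟩ := exists_rep f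
  rw [← mul_smul, el_rep q, el_rep q]
  group

include F hr ra rb rc

theorem r_swaps : r * t * r⁻¹ = u ∧ r * u * r⁻¹ = t := by
  rw [← hr]
  exact ⟨by rw [F.move_t, ra, rb, F.eu], by rw [F.move_u, ra, rc, F.et]⟩

theorem el_star {y : G} : flagEl Y0 t ((y * r) • base0 Y0) = y * u * y⁻¹ := by
  rw [el_rep q, ← (r_swaps q F hr ra rb rc).1]
  group

theorem r_sq_mem : r * r ∈ Y0 := by
  obtain ⟨e1, e2⟩ := r_swaps q F hr ra rb rc
  refine q.cent _ (mul_inv_eq_iff_eq_mul.1 ?_) (mul_inv_eq_iff_eq_mul.1 ?_)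
  · rw [show r * r * t * (r * r)⁻¹ = r * (r * t * r⁻¹) * r⁻¹ by group, e1, e2]
  · rw [show r * r * u * (r * r)⁻¹ = r * (r * u * r⁻¹) * r⁻¹ by group, e2, e1]

/-- Fixing the first point. -/
theorem star_of_point {g : ↥NN} (h1 : D.pointHom g a = a) :
    (g : G) • base0 Y0 = base0 Y0 ∨ (g : G) • base0 Y0 ∈ star0 Y0 r := by
  set x := D.pointHom g b with hx
  have hxa : x ≠ a := fun e => F.ab ((D.pointHom g).injective (h1.trans e.symm))
  by_cases h2 : x = b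
  · exact Or.inl ((smul_base (g : G)).trans (QuotientGroup.eq.2 (by
      rw [mul_one]; exact inv_mem (F.fix_mem q h1 h2))))
  obtain ⟨k, hk⟩ := exists_pt_map D (by norm_num) ![a, b, c] ![a, b, x] (inj3 F.ab F.ac F.bc)
    (inj3 F.ab hxa.symm (Ne.symm h2))
  have k0 : D.pointHom k a = a := hk 0
  have k2 : D.pointHom k c = x := hk 2
  refine Or.inr ⟨(k : G), F.fix_mem q k0 (hk 1), base_eq_iff.2 ?_⟩
  rw [← hr]
  refine F.fix_mem q (g := (k * rN)⁻¹ * g) ?_ ?_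
  · rw [map_mul, Equiv.Perm.mul_apply, h1, map_inv, Equiv.Perm.inv_eq_iff_eq, map_mul, Equiv.Perm.mul_apply, ra, k0]
  · rw [map_mul, Equiv.Perm.mul_apply, map_inv, Equiv.Perm.inv_eq_iff_eq, map_mul, Equiv.Perm.mul_apply, rb, k2]

theorem graph : ∃ (X : Type u) (_ : Group X) (_ : Finite X) (E : Set X),
    LGraph (nbr Y0 r) (flagEl Y0 t) E := by
  classical
  obtain ⟨X, iX, iF, E, ψ, τ, υ, S, hX, hτ, hυ, hE, -⟩ := q.cover
  refine ⟨X, iX, iF, E, ?_⟩
  obtain ⟨e1, e2⟩ := r_swaps q F hr ra rb rc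
  have hr2 := r_sq_mem q F hr ra rb rc
  have elS : ∀ y : G, flagEl Y0 t ((y * r) • base0 Y0) = y * u * y⁻¹ := fun y => el_star q F hr ra rb rc
  have elG : ∀ g y : G, flagEl Y0 t (g • (y * r) • base0 Y0) = g * (y * u * y⁻¹) * g⁻¹ := fun g y => by
    rw [el_smul q, elS]
  have memY : ∀ y ∈ Y0, y * u * y⁻¹ ∈ Y0 := fun y hy => mul_mem (mul_mem hy q.u_mem) (inv_mem hy)
  let ext : G → X := fun x => if h : x ∈ Y0 then ψ ⟨x, h⟩ else 1
  have hext : ∀ y : ↥Y0, ext ((y : G) * u * (y : G)⁻¹) = ψ (y * υ * y⁻¹) := fun y => by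
    show dite _ _ _ = _
    rw [dif_pos (memY _ y.2)]
    exact congrArg ψ (Subtype.ext (by simp [hυ]))
  have hmemE : ∀ y : ↥Y0, ψ (y * υ * y⁻¹) ∈ E := fun y => by
    rw [map_mul, map_mul, map_inv]
    exact S.grp.2.1 _ _ (by rw [hE]; exact mem_conjugatesOf_self)
  have star_inj : ∀ y y' : ↥Y0, (y : G) * u * (y : G)⁻¹ = (y' : G) * u * (y' : G)⁻¹ →
      ((y : G) * r) • base0 Y0 = ((y' : G) * r) • base0 Y0 := by
    intro y y' h
    rw [base_eq_iff]
    have hu : Commute ((y : G)⁻¹ * y') u := mul_inv_eq_iff_eq_mul.1 (by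
      rw [show (y : G)⁻¹ * y' * u * ((y : G)⁻¹ * y')⁻¹ = (y : G)⁻¹ * ((y' : G) * u * (y' : G)⁻¹) * y by group, ← h]
      group)
    have ht := q.comm_t (mul_mem (inv_mem y.2) y'.2)
    have h' : ∀ {p : G}, Commute ((y : G)⁻¹ * y') (r * p * r⁻¹) → Commute (((y : G) * r)⁻¹ * (y' * r)) p := fun hp => by
      have := hp.map (MulAut.conj r⁻¹).toMonoidHom
      simpa [mul_assoc] using this
    exact q.cent _ (h' (by rw [e1]; exact hu)) (h' (by rw [e2]; exact ht))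
  have ψ_inj : ∀ y y' : ↥Y0, ψ (y * υ * y⁻¹) = ψ (y' * υ * y'⁻¹) →
      (y : G) * u * (y : G)⁻¹ = (y' : G) * u * (y' : G)⁻¹ := fun y y' h => by
    have := congrArg Subtype.val (q.conj_inj ψ hX hτ hυ h)
    simpa [hυ] using this
  have ψ_comm : ∀ y y' : ↥Y0, Commute ((y : G) * u * (y : G)⁻¹) ((y' : G) * u * (y' : G)⁻¹) ↔
      Commute (ψ (y * υ * y⁻¹)) (ψ (y' * υ * y'⁻¹)) := fun y y' => by
    refine ⟨fun h => (show Commute (y * υ * y⁻¹) (y' * υ * y'⁻¹) from Subtype.ext (by simpa [hυ] using h.eq)).map ψ,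
      fun h => ?_⟩
    have := congrArg Subtype.val (M22Cover.commute_lift hX S (hmemE y) h.symm).eq
    simp only [Subgroup.coe_mul, Subgroup.coe_inv, hυ] at this
    exact this
  -- adjacency of two neighbours
  have adj_to_comm : ∀ {p f : G ⧸ Y0}, f ∈ nbr Y0 r p → Commute (flagEl Y0 t f) (flagEl Y0 t p) := by
    intro p f hf
    obtain ⟨g, rfl⟩ := exists_rep p
    rw [nbr_eq] at hf
    obtain ⟨_, ⟨y, hy, rfl⟩, rfl⟩ := hf
    show Commute (flagEl Y0 t (g • (y * r) • base0 Y0)) _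
    rw [el_smul q g, elS, el_rep q]
    exact (q.comm_t (memY y hy)).map (MulAut.conj g).toMonoidHom
  obtain ⟨dd, hda, hdb, hdc, -⟩ := exists_fresh a b c a
  obtain ⟨k, hk⟩ := exists_pt_map D (by norm_num) ![a, b, c] ![a, b, dd] (inj3 F.ab F.ac F.bc)
    (inj3 F.ab hda.symm hdb.symm)
  have k0 : D.pointHom k a = a := hk 0
  have k2 : D.pointHom k c = dd := hk 2
  have hkY : (k : G) ∈ Y0 := F.fix_mem q k0 (hk 1)
  have hku : (k : G) * u * (k : G)⁻¹ = D.pairEl a dd := by rw [F.move_u, k0, k2]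
  have hex : ((k : G) * r) • base0 Y0 ∈ nbr Y0 r (((1 : G) * r) • base0 Y0) := by
    rw [one_mul, nbr_eq]
    have hg : D.pointHom (rN⁻¹ * (k * rN)) a = a := by
      rw [map_mul, map_mul, Equiv.Perm.mul_apply, Equiv.Perm.mul_apply, ra, k0, map_inv, Equiv.Perm.inv_eq_iff_eq, ra]
    have e : (((rN⁻¹ * (k * rN) : ↥NN)) : G) = r⁻¹ * ((k : G) * r) := by simp [hr]
    rcases star_of_point q F hr ra rb rc hg with h | h <;> rw [e] at h
    · exfalso
      have e' : ((k : G) * r) • base0 Y0 = ((1 : G) * r) • base0 Y0 := by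
        rw [base_eq_iff]
        rw [← one_smul G (base0 Y0), ← mul_smul, mul_one, base_eq_iff, mul_one] at h
        rw [one_mul, show ((k : G) * r)⁻¹ * r = (r⁻¹ * ((k : G) * r))⁻¹ by group]
        exact h
      have := congrArg (flagEl Y0 t) e'
      rw [elS, elS, hku, one_mul, inv_one, mul_one, F.eu] at this
      rcases D.pairEl_inj hda.symm F.ac this with ⟨-, h⟩ | ⟨h, -⟩
      exacts [hdc h, F.ac h]
    · refine ⟨_, h, ?_⟩
      show r • (r⁻¹ * ((k : G) * r)) • base0 Y0 = _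
      rw [← mul_smul, mul_inv_cancel_left]
  have comm_to_adj : ∀ y y' : ↥Y0, (y : G) * u * (y : G)⁻¹ ≠ (y' : G) * u * (y' : G)⁻¹ →
      Commute ((y : G) * u * (y : G)⁻¹) ((y' : G) * u * (y' : G)⁻¹) →
      ((y' : G) * r) • base0 Y0 ∈ nbr Y0 r (((y : G) * r) • base0 Y0) := by
    intro y y' hne hc
    set kY : ↥Y0 := ⟨k, hkY⟩
    have hku' : (kY : G) * u * (kY : G)⁻¹ ≠ ((1 : ↥Y0) : G) * u * ((1 : ↥Y0) : G)⁻¹ := fun e => by
      rw [show (kY : G) * u * (kY : G)⁻¹ = _ from hku, Subgroup.coe_one, one_mul, inv_one, mul_one, F.eu] at e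
      rcases D.pairEl_inj hda.symm F.ac e with ⟨-, h⟩ | ⟨h, -⟩
      exacts [hdc h, F.ac h]
    have hkc : Commute (((1 : ↥Y0) : G) * u * ((1 : ↥Y0) : G)⁻¹) ((kY : G) * u * (kY : G)⁻¹) := by
      rw [show (kY : G) * u * (kY : G)⁻¹ = _ from hku, Subgroup.coe_one, one_mul, inv_one, mul_one, F.eu]
      exact D.comm (D.pairEl_mem _ _) (D.pairEl_mem _ _)
    obtain ⟨g, g1, g2⟩ := FischerM22.pair_conj S (hmemE 1)
      (b := ψ (kY * υ * kY⁻¹)) ⟨hmemE kY, fun e => hku' (ψ_inj _ _ e), (ψ_comm _ _).1 hkc⟩ (hmemE y)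
      (b' := ψ (y' * υ * y'⁻¹)) ⟨hmemE y', fun e => hne (ψ_inj _ _ e).symm, (ψ_comm _ _).1 hc⟩
    obtain ⟨w, rfl⟩ := hX.surj g
    have f1 := star_inj (w * 1) y (ψ_inj _ _ (by rw [← g1]; simp [mul_assoc]))
    have f2 := star_inj (w * kY) y' (ψ_inj _ _ (by rw [← g2]; simp [mul_assoc]))
    rw [← f1, ← f2]
    simp only [Subgroup.coe_mul, mul_one]
    rw [mul_assoc, mul_smul, mul_smul]
    exact mem_nbr_smul.2 (by rw [one_mul] at hex; exact hex)
  have baseModel : Set.InjOn (fun f => ext (flagEl Y0 t f)) (star0 Y0 r) ∧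
      (fun f => ext (flagEl Y0 t f)) '' star0 Y0 r = E ∧
      ∀ x ∈ star0 Y0 r, ∀ y ∈ star0 Y0 r, x ≠ y →
        (y ∈ nbr Y0 r x ↔ Commute (ext (flagEl Y0 t x)) (ext (flagEl Y0 t y))) := by
    refine ⟨?_, ?_, ?_⟩
    · rintro _ ⟨y, hy, rfl⟩ _ ⟨y', hy', rfl⟩ h
      simp only [elS] at h
      rw [hext ⟨y, hy⟩, hext ⟨y', hy'⟩] at h
      exact star_inj ⟨y, hy⟩ ⟨y', hy'⟩ (ψ_inj _ _ h)
    · ext e
      constructor
      · rintro ⟨_, ⟨y, hy, rfl⟩, rfl⟩
        simp only [elS]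
        rw [hext ⟨y, hy⟩]
        exact hmemE _
      · intro he
        obtain ⟨g, hg⟩ := class_conj S.cls (show ψ υ ∈ E by rw [hE]; exact mem_conjugatesOf_self) he
        obtain ⟨y, rfl⟩ := hX.surj g
        refine ⟨_, ⟨y, y.2, rfl⟩, ?_⟩
        simp only [elS]
        rw [hext y, map_mul, map_mul, map_inv, hg]
    · rintro _ ⟨y, hy, rfl⟩ _ ⟨y', hy', rfl⟩ hne
      rw [elS, elS, hext ⟨y, hy⟩, hext ⟨y', hy'⟩, ← ψ_comm]
      refine ⟨fun h => ?_, fun h => comm_to_adj ⟨y, hy⟩ ⟨y', hy'⟩ (fun e => hne (star_inj ⟨y, hy⟩ ⟨y', hy'⟩ e)) h⟩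
      have := adj_to_comm h
      rw [elS, elS] at this
      exact this.symm
  refine ⟨S, nbr_equiv, ?_, ?_, ?_, ?_, el_smul q, ?_, ?_, ?_, ?_⟩
  · intro p f hf
    obtain ⟨g, rfl⟩ := exists_rep p
    rw [nbr_eq] at hf
    obtain ⟨_, ⟨y, hy, rfl⟩, rfl⟩ := hf
    show g • base0 Y0 ∈ nbr Y0 r (g • (y * r) • base0 Y0)
    rw [mem_nbr_smul, nbr_eq]
    refine ⟨_, ⟨1, one_mem _, rfl⟩, ?_⟩
    show (y * r) • ((1 : G) * r) • base0 Y0 = base0 Y0
    rw [one_mul, ← mul_smul]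
    conv_rhs => rw [← one_smul G (base0 Y0)]
    rw [base_eq_iff, mul_one, inv_mem_iff, mul_assoc]
    exact mul_mem hy hr2
  · intro p h
    obtain ⟨g, rfl⟩ := exists_rep p
    rw [nbr_eq] at h
    obtain ⟨_, ⟨y, hy, rfl⟩, e⟩ := h
    have e' := congrArg (flagEl Y0 t) (MulAction.injective g (e : g • (y * r) • base0 Y0 = g • base0 Y0))
    rw [elS, ← one_smul G (base0 Y0), el_rep q, one_mul, inv_one, mul_one] at e'
    exact q.u_ne (by
      calc u = y⁻¹ * (y * u * y⁻¹) * y := by group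
        _ = t := by rw [e', mul_assoc, ← (q.comm_t hy).eq, inv_mul_cancel_left])
  · intro p
    obtain ⟨g, rfl⟩ := exists_rep p
    refine ⟨fun f => ext (flagEl Y0 t (g⁻¹ • f)), ?_, ?_, ?_⟩
    · rw [nbr_eq]
      rintro _ ⟨x, hx, rfl⟩ _ ⟨x', hx', rfl⟩ h
      simp only [inv_smul_smul] at h
      rw [baseModel.1 hx hx' h]
    · rw [nbr_eq, Set.image_image]
      simp only [inv_smul_smul]
      exact baseModel.2.1
    · rw [nbr_eq]
      rintro _ ⟨x, hx, rfl⟩ _ ⟨x', hx', rfl⟩ hne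
      simp only [inv_smul_smul]
      rw [mem_nbr_smul]
      exact baseModel.2.2 x hx x' hx' fun e => hne (by rw [e])
  · intro p f hf
    obtain ⟨g, rfl⟩ := exists_rep p
    rw [nbr_eq] at hf
    obtain ⟨_, ⟨y, hy, rfl⟩, rfl⟩ := hf
    show flagEl Y0 t (g • (y * r) • base0 Y0) • g • base0 Y0 = g • base0 Y0
    rw [el_smul q, elS, ← mul_smul, base_eq_iff]
    rw [show (g * (y * u * y⁻¹) * g⁻¹ * g)⁻¹ * g = (y * u * y⁻¹)⁻¹ by group]
    exact inv_mem (memY y hy)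
  · intro p
    obtain ⟨g, rfl⟩ := exists_rep p
    rw [nbr_eq]
    rintro _ ⟨_, ⟨y, hy, rfl⟩, rfl⟩ _ ⟨_, ⟨y', hy', rfl⟩, rfl⟩ h
    simp only [elG] at h
    have e := star_inj ⟨y, hy⟩ ⟨y', hy'⟩ (mul_left_cancel (mul_right_cancel h))
    show g • (y * r) • base0 Y0 = g • (y' * r) • base0 Y0
    rw [e]
  · intro p
    obtain ⟨g, rfl⟩ := exists_rep p
    rw [el_rep q, show g * t * g⁻¹ * (g * t * g⁻¹) = g * (t * t) * g⁻¹ by group, q.t_sq, mul_one, mul_inv_cancel]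
  · intro p f hf
    obtain ⟨g, rfl⟩ := exists_rep p
    rw [nbr_eq] at hf
    obtain ⟨_, ⟨y, hy, rfl⟩, rfl⟩ := hf
    intro h
    rw [elG, el_rep q] at h
    have h1 := mul_left_cancel (mul_right_cancel h)
    rw [← mul_left_cancel_iff (a := y⁻¹), ← mul_right_cancel_iff (a := y)] at h1
    have h2 := q.comm_t hy
    exact q.u_ne (by
      calc u = y⁻¹ * (y * u * y⁻¹) * y := by group
        _ = y⁻¹ * t * y := h1
        _ = t := by rw [mul_assoc, ← h2.eq, inv_mul_cancel_left])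
  · intro p f f' hf hf' hne hn
    obtain ⟨g, rfl⟩ := exists_rep p
    rw [nbr_eq] at hf hf'
    obtain ⟨x, hx, rfl⟩ := hf
    obtain ⟨x', hx', rfl⟩ := hf'
    have hnc : ¬ Commute (ext (flagEl Y0 t x)) (ext (flagEl Y0 t x')) := fun h =>
      hn (mem_nbr_smul.2 ((baseModel.2.2 x hx x' hx' fun e => hne (by rw [e])).2 h))
    obtain ⟨y, hy, rfl⟩ := hx
    obtain ⟨y', hy', rfl⟩ := hx'
    show flagEl Y0 t (g • (y * r) • base0 Y0) * flagEl Y0 t (g • (y' * r) • base0 Y0) * _ = _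
    rw [elG, elG]
    rw [elS, elS, hext ⟨y, hy⟩, hext ⟨y', hy'⟩] at hnc
    set p1 : ↥Y0 := ⟨y, hy⟩ * υ * (⟨y, hy⟩ : ↥Y0)⁻¹ with hp1
    set p2 : ↥Y0 := ⟨y', hy'⟩ * υ * (⟨y', hy'⟩ : ↥Y0)⁻¹ with hp2
    have hu2 : υ * υ = 1 := Subtype.ext (by simp [hυ, q.u_sq])
    have inv : ∀ w : ↥Y0, (w * υ * w⁻¹)⁻¹ = w * υ * w⁻¹ := fun w => by
      rw [mul_inv_rev, mul_inv_rev, inv_inv, inv_eq_of_mul_eq_one_right hu2, mul_assoc]
    have hb : p1 * p2 * p1 = p2 * p1 * p2 := by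
      have c1 : p1 * p2 * p1 = (p1 * ⟨y', hy'⟩) * υ * (p1 * ⟨y', hy'⟩)⁻¹ := by
        rw [mul_inv_rev, show p1⁻¹ = p1 from inv _, hp2]; group
      have c2 : p2 * p1 * p2 = (p2 * ⟨y, hy⟩) * υ * (p2 * ⟨y, hy⟩)⁻¹ := by
        rw [mul_inv_rev, show p2⁻¹ = p2 from inv _, hp1]; group
      rw [c1, c2]
      refine q.conj_inj ψ hX hτ hυ ?_
      rw [← c1, ← c2]
      simp only [map_mul]
      exact ThreeTrans.braid S.cls.1 (hmemE _) (hmemE _) hnc
    have hv := congrArg Subtype.val hb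
    simp only [hp1, hp2, Subgroup.coe_mul, Subgroup.coe_inv, hυ] at hv
    have := congrArg (fun w => g * w * g⁻¹) hv
    simpa [mul_assoc] using this

omit rc ra rb hr F in
theorem transfer_class : ∃ (X : Type u) (_ : Group X), Nonempty (↥Y0 ⧸ Subgroup.center ↥Y0 ≃* X) ∧
    Subgroup.center ↥Y0 = (Subgroup.zpowers t).subgroupOf Y0 ∧ Cfsg.Spor.IsoFi22 X := by
  obtain ⟨X, iX, iF, E, ψ, τ, υ, S, hX, hτ, hυ, hE, hs⟩ := q.cover
  have hker : ψ.ker = Subgroup.center ↥Y0 := by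
    refine le_antisymm (fun y hy => ?_) fun y hy => ?_
    · rcases (hX.ker y).1 hy with rfl | rfl
      exacts [one_mem _, Subgroup.mem_center_iff.2 fun w => (hX.central w).eq.symm]
    · rw [MonoidHom.mem_ker, ← Subgroup.mem_bot, ← S.type22.1]
      refine Subgroup.mem_center_iff.2 fun x => ?_
      obtain ⟨w, rfl⟩ := hX.surj x
      rw [← map_mul, ← map_mul, Subgroup.mem_center_iff.1 hy w]
  refine ⟨X, iX, ⟨(QuotientGroup.quotientMulEquivOfEq hker.symm).trans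
    (QuotientGroup.quotientKerEquivOfSurjective ψ hX.surj)⟩, ?_, FischerM22.iso_fi22 S⟩
  ext y
  rw [← hker, MonoidHom.mem_ker, hX.ker, Subgroup.mem_subgroupOf]
  refine ⟨?_, fun h => (U62Fischer.mem_zpowers_two' q.t_sq h).imp (fun e => Subtype.ext e)
    (fun e => Subtype.ext (e.trans hτ.symm))⟩
  rintro (rfl | rfl)
  exacts [one_mem _, hτ.symm ▸ Subgroup.mem_zpowers t]

end Flags

set_option maxHeartbeats 1000000 in
/-- The subgroup of type M(23). -/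
theorem exists_net (q : Quot t u Y0) (F : Frame z t u A D a b c) :
    ∃ (g0 r : G) (H : Subgroup G), Net t g0 r H Y0 ∧ r * t * r⁻¹ = u ∧
      Subgroup.normalizer (A : Set G) ≤ Subgroup.closure ((H : Set G) ∪ {g0}) := by
  classical
  obtain ⟨rN, hrN⟩ := exists_pt_map D (by norm_num) ![a, b, c] ![a, c, b] (inj3 F.ab F.ac F.bc)
    (inj3 F.ac F.ab F.bc.symm)
  obtain ⟨gN, hgN⟩ := exists_pt_map D (by norm_num) ![a, b, c] ![b, a, c] (inj3 F.ab F.ac F.bc)
    (inj3 F.ab.symm F.bc F.ac)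
  obtain ⟨r, hr⟩ : ∃ r, (rN : G) = r := ⟨_, rfl⟩
  have ra : D.pointHom rN a = a := hrN 0
  have rb : D.pointHom rN b = c := hrN 1
  have rc : D.pointHom rN c = b := hrN 2
  have g0a : D.pointHom gN a = b := hgN 0
  have g0b : D.pointHom gN b = a := hgN 1
  obtain ⟨e1, e2⟩ := r_swaps q F hr ra rb rc
  obtain ⟨g0, hg0⟩ : ∃ g0, (gN : G) = g0 := ⟨_, rfl⟩
  have hg0t : Commute g0 t := hg0 ▸ F.comm_of gN (Or.inr ⟨g0a, g0b⟩)
  have hg0Y : g0 ∉ Y0 := hg0 ▸ F.swap_not_mem q g0a g0b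
  obtain ⟨X, iX, iF, E, L⟩ := graph q F hr ra rb rc
  set R := fun p f : G ⧸ Y0 => f ∈ nbr Y0 r p with hR
  have hequiv : ∀ (g : G) {p f : G ⧸ Y0}, ReflTransGen R p f → ReflTransGen R (g • p) (g • f) := by
    intro g p f h
    induction h with
    | refl => exact .refl
    | tail _ h ih => exact ih.tail (mem_nbr_smul.2 h)
  have hsymm : ∀ {p f : G ⧸ Y0}, ReflTransGen R p f → ReflTransGen R f p := fun h => by
    induction h with
    | refl => exact .refl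
    | tail _ h ih => exact ReflTransGen.head (L.symm h) ih
  let H : Subgroup G :=
    { carrier := sideGroup Y0 r
      one_mem' := by show ReflTransGen R _ _; rw [one_smul]
      mul_mem' := fun {g h} hg hh => by
        show ReflTransGen R _ _
        rw [mul_smul]
        exact ReflTransGen.trans hg (hequiv g hh)
      inv_mem' := fun {g} hg => by
        show ReflTransGen R _ _
        have := hequiv g⁻¹ (hsymm hg)
        rwa [inv_smul_smul] at this }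
  have hH : ∀ {g : G}, g ∈ H ↔ ReflTransGen R (base0 Y0) (g • base0 Y0) := Iff.rfl
  have hfix : ∀ {g : G}, g ∈ Y0 → g • base0 Y0 = base0 Y0 := fun {g} hg => by
    rw [← one_smul G (base0 Y0), ← mul_smul, mul_one, base_eq_iff, mul_one]
    exact inv_mem hg
  have hYH : Y0 ≤ H := fun g hg => by rw [hH, hfix hg]
  have hYeq : ∀ g : G, g ∈ Y0 ↔ g ∈ H ∧ Commute g t := fun g => by
    refine ⟨fun h => ⟨hYH h, q.comm_t h⟩, fun ⟨h, hc⟩ => ?_⟩
    by_contra hg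
    have hne : g • base0 Y0 ≠ base0 Y0 := fun e => hg (by
      rw [← one_smul G (base0 Y0), ← mul_smul, mul_one, base_eq_iff, mul_one] at e
      exact inv_mem_iff.1 e)
    refine L.el_ne_of_reach h hne ?_
    rw [el_rep q, hc.eq, mul_inv_cancel_right, ← one_smul G (base0 Y0), el_rep q, one_mul, inv_one, mul_one]
  have hpoint : ∀ {g : ↥NN}, D.pointHom g a = a → (g : G) ∈ H := fun {g} h => by
    rcases star_of_point q F hr ra rb rc h with e | e
    · rw [hH, e]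
    · rw [hH]
      exact ReflTransGen.single (by show _ ∈ nbr Y0 r (base0 Y0); rw [nbr_base]; exact e)
  have hrH : r ∈ H := hr ▸ hpoint ra
  have hg0H : g0 ∉ H := fun h => hg0Y ((hYeq g0).2 ⟨h, hg0t⟩)
  have hcases : ∀ g : G, Commute g t → g ∈ Y0 ∨ g0⁻¹ * g ∈ Y0 := fun g hg => by
    by_cases h : g ∈ Y0
    · exact Or.inl h
    · exact Or.inr (q.two _ _ hg0t.inv_left hg (fun k => hg0Y (inv_mem_iff.1 k)) h)
  have htH : t ∈ H := hYH q.t_mem
  set tH : ↥H := ⟨t, htH⟩ with htHd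
  have hord : orderOf tH = 2 := orderOf_eq_prime (Subtype.ext (by rw [SubmonoidClass.coe_pow, pow_two]; exact q.t_sq))
    (fun e => q.t_ne (congrArg Subtype.val e))
  let ι : ↥(Subgroup.centralizer ({tH} : Set ↥H)) ≃* ↥Y0 :=
    { toFun := fun g => ⟨((g : ↥H) : G), (hYeq _).2 ⟨g.1.2, congrArg Subtype.val (Subgroup.mem_centralizer_singleton_iff.1 g.2)⟩⟩
      invFun := fun g => ⟨⟨g, hYH g.2⟩, Subgroup.mem_centralizer_singleton_iff.2 (Subtype.ext (q.comm_t g.2).eq)⟩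
      left_inv := fun g => rfl
      right_inv := fun g => rfl
      map_mul' := fun _ _ => rfl }
  set Z := (Subgroup.zpowers tH).subgroupOf (Subgroup.centralizer ({tH} : Set ↥H)) with hZd
  haveI : Z.Normal := ⟨fun n hn g => by
    obtain ⟨i, hi⟩ := Subgroup.mem_zpowers_iff.1 (Subgroup.mem_subgroupOf.1 hn)
    have hc : Commute (g : ↥H) (n : ↥H) := by
      rw [← hi]; exact Commute.zpow_right (Subgroup.mem_centralizer_singleton_iff.1 g.2) i
    rwa [show g * n * g⁻¹ = n from Subtype.ext (mul_inv_eq_iff_eq_mul.2 hc.eq)]⟩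
  obtain ⟨Xq, iXq, ⟨eX⟩, hcen, hiso⟩ := transfer_class q
  have hZ : Z.map ι.toMonoidHom = Subgroup.center ↥Y0 := by
    rw [hcen]
    ext y
    constructor
    · rintro ⟨n, hn, rfl⟩
      obtain ⟨i, hi⟩ := Subgroup.mem_zpowers_iff.1 (Subgroup.mem_subgroupOf.1 hn)
      exact Subgroup.mem_zpowers_iff.2 ⟨i, congrArg Subtype.val hi⟩
    · intro hy
      obtain ⟨i, hi⟩ := Subgroup.mem_zpowers_iff.1 (Subgroup.mem_subgroupOf.1 hy)
      exact ⟨ι.symm y, Subgroup.mem_subgroupOf.2 (Subgroup.mem_zpowers_iff.2 ⟨i, Subtype.ext hi⟩), ι.apply_symm_apply y⟩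
  obtain ⟨B, _, _, DB, SB⟩ := TransCentFi23.model
  obtain ⟨eF⟩ := hiso
  have hnwc : ∃ g : ↥H, g * tH * g⁻¹ ∈ Subgroup.centralizer ({tH} : Set ↥H) ∧ g * tH * g⁻¹ ≠ tH :=
    ⟨⟨r, hrH⟩, Subgroup.mem_centralizer_singleton_iff.2 (Subtype.ext (by
      show r * t * r⁻¹ * t = t * (r * t * r⁻¹); rw [e1, q.tu.eq])),
      fun e => q.u_ne (e1.symm.trans (congrArg Subtype.val e))⟩
  obtain ⟨hcls, h23, -⟩ := TransCentFi23.main SB tH hord ((Components.isQuasisimple_congr ι).2 q.qsimple)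
    (TransCentFi23.exists_type22 SB ((QuotientGroup.congr Z (Subgroup.center ↥Y0) ι hZ).trans (eX.trans eF)))
    hnwc
  obtain ⟨xd, yd, hd⟩ := FischerM24.data_of_type23 h23
  have S23 : FischerM23.Fi23Setup (conjugatesOf tH) := FischerM24.setup23_of_data hcls h23.1 hd
  have hmemK : ∀ {g : G}, g ∈ H.map (MulAut.conj g0).toMonoidHom ↔ g0⁻¹ * g * g0 ∈ H := fun {g} => by
    refine ⟨?_, fun h => ⟨_, h, show g0 * (g0⁻¹ * g * g0) * g0⁻¹ = g by group⟩⟩
    rintro ⟨h, hh, rfl⟩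
    show g0⁻¹ * (g0 * h * g0⁻¹) * g0 ∈ H
    rwa [show g0⁻¹ * (g0 * h * g0⁻¹) * g0 = h by group]
  set K := H ⊓ H.map (MulAut.conj g0).toMonoidHom with hK
  have hback : ∀ g ∈ Y0, g0⁻¹ * g * g0 ∈ Y0 := fun g hg => by
    have := q.normal g0⁻¹ hg0t.inv_left g hg
    rwa [inv_inv] at this
  have hYK : Y0 ≤ K := fun g hg => ⟨hYH hg, hmemK.2 (hYH (hback g hg))⟩
  obtain ⟨kN, hkN⟩ := exists_pt_map D (by norm_num) ![a, b, c] ![b, c, a] (inj3 F.ab F.ac F.bc)
    (inj3 F.bc F.ab.symm F.ac.symm)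
  have ka : D.pointHom kN a = b := hkN 0
  have kb : D.pointHom kN b = c := hkN 1
  have hk1 : g0⁻¹ * (kN : G) ∈ H := by
    rw [← hg0]
    exact hpoint (g := gN⁻¹ * kN) (by rw [map_mul, Equiv.Perm.mul_apply, ka, map_inv, Equiv.Perm.inv_eq_iff_eq, g0a])
  have hk2 : g0⁻¹ * r⁻¹ * (kN : G) * g0 ∈ H := by
    rw [← hg0, ← hr]
    refine hpoint (g := gN⁻¹ * rN⁻¹ * kN * gN) ?_
    rw [map_mul, map_mul, map_mul, Equiv.Perm.mul_apply, Equiv.Perm.mul_apply, Equiv.Perm.mul_apply, g0a, kb, map_inv,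
      map_inv, Equiv.Perm.inv_eq_iff_eq, g0a, Equiv.Perm.inv_eq_iff_eq, rb]
  have hrK : r ∉ K := fun h => by
    have h' : g0⁻¹ * r * g0 ∈ H := hmemK.1 h.2
    have h1 := mul_mem h' hk2
    rw [show g0⁻¹ * r * g0 * (g0⁻¹ * r⁻¹ * (kN : G) * g0) = g0⁻¹ * (kN : G) * g0 by group] at h1
    have h2 := mul_mem (inv_mem hk1) h1
    exact hg0H (by rwa [show (g0⁻¹ * (kN : G))⁻¹ * (g0⁻¹ * (kN : G) * g0) = g0 by group] at h2)
  have hinter : ∀ g ∈ H, g0⁻¹ * g * g0 ∈ H → g ∈ Y0 := by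
    intro g hgH hg0'
    by_contra hgY
    refine hrK ?_
    set Dh := conjugatesOf tH
    have hD : tH ∈ Dh := mem_conjugatesOf_self
    set gH : ↥H := ⟨g, hgH⟩
    have hxD : ∀ w : ↥H, w * tH * w⁻¹ ∈ Dh := fun w => isConj_iff.2 ⟨w, rfl⟩
    have hxt : gH * tH * gH⁻¹ ≠ tH := fun e => hgY ((hYeq g).2 ⟨hgH,
      mul_inv_eq_iff_eq_mul.1 (congrArg Subtype.val e)⟩)
    have hKY : ∀ w : ↥H, Commute w tH → (w : G) ∈ K := fun w hw =>
      hYK ((hYeq _).2 ⟨w.2, congrArg Subtype.val hw⟩)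
    have step : ∀ w : ↥H, (w : G) ∈ K → w * tH * w⁻¹ ∈ adj Dh tH → r ∈ K := by
      intro w hw hadj
      set rH : ↥H := ⟨r, hrH⟩
      have huadj : rH * tH * rH⁻¹ ∈ adj Dh tH := ⟨hxD _, fun e => q.u_ne (e1.symm.trans (congrArg Subtype.val e)),
        Subtype.ext (show t * (r * t * r⁻¹) = r * t * r⁻¹ * t by rw [e1, q.tu.eq])⟩
      obtain ⟨i, hi⟩ := class_conj (S23.localSetup hD).cls (FischerM23.qm_mem hadj) (FischerM23.qm_mem huadj)
      obtain ⟨c', hc', hce, -⟩ := FischerM23.lift_pair S23 hD hadj hadj huadj huadj hi hi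
      have hcK := hKY c' (ThreeTrans.commute_of_mem_Loc hc')
      have h1 : Commute ((rH⁻¹ * (c' * w)) : ↥H) tH := mul_inv_eq_iff_eq_mul.1 (by
        rw [show rH⁻¹ * (c' * w) * tH * (rH⁻¹ * (c' * w))⁻¹ = rH⁻¹ * (c' * (w * tH * w⁻¹) * c'⁻¹) * rH by group, hce]
        group)
      have h2 := mul_mem (mul_mem hcK hw) (inv_mem (hKY _ h1))
      simp only [Subgroup.coe_mul, Subgroup.coe_inv] at h2
      rwa [show (c' : G) * (w : G) * ((rH : G)⁻¹ * ((c' : G) * (w : G)))⁻¹ = (rH : G) by group] at h2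
    have hgK : (gH : G) ∈ K := ⟨hgH, hmemK.2 hg0'⟩
    by_cases hc : Commute tH (gH * tH * gH⁻¹)
    · exact step gH hgK ⟨hxD _, hxt, hc⟩
    set e := gH * tH * gH⁻¹
    obtain ⟨x1, hx1, hx1e⟩ : ∃ x1 ∈ adj Dh tH, ¬ Commute e x1 := by
      by_contra! hall
      refine hc ?_
      have h1 : tH ∈ Subgroup.centralizer ({e} : Set ↥H) :=
        (Subgroup.closure_le _).2 (fun x hx => Subgroup.mem_centralizer_singleton_iff.2 (hall x hx).symm.eq)
          (FischerM23.mem_loc_self S23 hD)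
      exact Subgroup.mem_centralizer_singleton_iff.1 h1
    obtain ⟨c', hc', hce⟩ := FischerM23.centralizer_transitive S23 (hxD gH) hD hx1.1 (fun h => hc h.symm) hx1e
    have hcK : (c' : G) ∈ K := by
      have h1 : Commute (gH⁻¹ * c' * gH) tH := by
        have := hc'.map (MulAut.conj gH⁻¹).toMonoidHom
        simpa [e, mul_assoc] using this
      have := mul_mem (mul_mem hgK (hKY _ h1)) (inv_mem hgK)
      simpa [mul_assoc] using this
    exact step c' hcK (by rw [hce]; exact hx1)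
  refine ⟨g0, r, H, ⟨q.t_sq, q.t_ne, q.t_mem, hg0t, hg0H, hYeq, hcases, q.two _ _ hg0t hg0t hg0Y hg0Y, hback, hinter, hrH,
    by rw [e1]; exact q.tu.symm, by rw [e1]; exact q.u_ne, ⟨kN, hk1, hk2, ?_⟩,
    fun w hw => by rw [show w = tH from Subtype.ext hw]; exact S23, ⟨q.qsimple, ⟨eX.trans eF⟩⟩, ?_⟩, e1, ?_⟩
  · rw [F.move_t, ka, kb, e1, F.etu]
  · intro w hw x y v hT
    rw [show w = tH from Subtype.ext hw] at hT
    obtain ⟨dd, hda, hdb, hdc, -⟩ := exists_fresh a b c a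
    obtain ⟨mN, hmN⟩ := exists_pt_map D (by norm_num) ![a, b, c] ![a, dd, b] (inj3 F.ab F.ac F.bc)
      (inj3 hda.symm F.ab hdb)
    have ma : D.pointHom mN a = a := hmN 0
    have mt : (mN : G) * t * (mN : G)⁻¹ = D.pairEl a dd := by
      rw [F.move_t, ma, show D.pointHom mN b = dd from hmN 1]
    set uH : ↥H := ⟨r, hrH⟩ * tH * (⟨r, hrH⟩ : ↥H)⁻¹
    set vH : ↥H := ⟨(mN : G), hpoint ma⟩ * tH * (⟨(mN : G), hpoint ma⟩ : ↥H)⁻¹
    have evu : (uH : G) = D.pairEl a c := e1.trans F.eu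
    have evv : (vH : G) = D.pairEl a dd := mt
    have evt : (tH : G) = D.pairEl a b := F.et
    have hT0 : FischerM22.IsTriple (conjugatesOf tH) tH uH vH := by
      refine ⟨mem_conjugatesOf_self, isConj_iff.2 ⟨_, rfl⟩, isConj_iff.2 ⟨_, rfl⟩, fun h => ?_, fun h => ?_, fun h => ?_,
        Subtype.ext ?_, Subtype.ext ?_, Subtype.ext ?_⟩
      · rcases D.pairEl_inj F.ab F.ac (by rw [← evt, ← evu, h]) with ⟨-, k⟩ | ⟨k, -⟩
        exacts [F.bc k, F.ac k]
      · rcases D.pairEl_inj F.ab hda.symm (by rw [← evt, ← evv, h]) with ⟨-, k⟩ | ⟨k, -⟩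
        exacts [hdb k.symm, hda k.symm]
      · rcases D.pairEl_inj F.ac hda.symm (by rw [← evu, ← evv, h]) with ⟨-, k⟩ | ⟨k, -⟩
        exacts [hdc k.symm, hda k.symm]
      all_goals
        simp only [Subgroup.coe_mul, evt, evu, evv]
        exact D.comm (D.pairEl_mem _ _) (D.pairEl_mem _ _)
    obtain ⟨g, h1, h2, h3⟩ := FischerM23.triple_conj S23 hT0 hT
    intro hconj
    have hz : IsConj z ((x * y * v : ↥H) : G) := by
      have : x * y * v = g * (tH * uH * vH) * g⁻¹ := by rw [← h1, ← h2, ← h3]; group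
      rw [this]
      refine IsConj.trans ?_ (isConj_iff.2 ⟨(g : G), rfl⟩)
      have hq := F.quad_not dd hda hdb hdc
      rwa [← e1, ← mt] at hq
    exact (D.pairEl_noncentral F.ab).2 (F.et ▸ hz.trans hconj.symm)
  · intro g hg
    set gA : ↥NN := ⟨g, hg⟩
    set P := Subgroup.closure ((H : Set G) ∪ {g0})
    have hHP : ∀ {x}, x ∈ H → x ∈ P := fun h => Subgroup.subset_closure (Or.inl h)
    have hg0P : g0 ∈ P := Subgroup.subset_closure (Or.inr rfl)
    have hcase : ∀ m : ↥NN, D.pointHom gA a = D.pointHom m a → (m : G) ∈ P → g ∈ P := fun m hm hmP => by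
      have h1 : ((m⁻¹ * gA : ↥NN) : G) ∈ H := hpoint (by
        rw [map_mul, Equiv.Perm.mul_apply, hm, map_inv, Equiv.Perm.inv_eq_iff_eq])
      have := mul_mem hmP (hHP h1)
      rwa [← Subgroup.coe_mul, mul_inv_cancel_left] at this
    by_cases h0 : D.pointHom gA a = a
    · exact hcase 1 (by simp [h0]) (one_mem _)
    by_cases h1 : D.pointHom gA a = b
    · exact hcase gN (by rw [h1, g0a]) (hg0 ▸ hg0P)
    · obtain ⟨m, hm⟩ := exists_pt_map D (n := 2) (by norm_num) ![a, b] ![a, D.pointHom gA a]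
        (inj2 F.ab) (inj2 (Ne.symm h0))
      refine hcase (m * gN) ?_ (mul_mem (hHP (hpoint (hm 0))) (hg0 ▸ hg0P))
      rw [map_mul, Equiv.Perm.mul_apply, g0a]
      exact (hm 1).symm

end Cfsg.Agent.Fi24Char
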