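/-
The cosets of the subgroup of type M(23) with their edges and edge elements: the stars next to one star
correspond to the class of that star, joined exactly when the elements commute.

* `Adj`, `edgeEl`, `Net.member`, `Net.triangle`, `Net.adj_iff`, `Net.fix_star`
-/
import Cfsg.Agent.Lib.Fi24Char.Side
import Cfsg.Agent.Lib.FischerM23.Total

set_option autoImplicit false
set_option linter.unusedSectionVars false

namespace Cfsg.Agent.Fi24Char

open Cfsg.Agent.ThreeTrans (adj common class_conj)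
open Cfsg.Agent.FischerM22 (IsProd isProd_cases)

universe u

variable {G : Type u} [Group G] [Finite G] {t g0 r : G} {H Y0 : Subgroup G}

/-- The base star. -/
abbrev star (H : Subgroup G) : G ⧸ H := ((1 : G) : G ⧸ H)

/-- Adjacent stars. -/
def Adj (g0 : G) (p q : G ⧸ H) : Prop := ∃ g : G, g • star H = p ∧ g • g0 • star H = q

open Classical in
/-- The element of an edge. -/
noncomputable def edgeEl (t g0 : G) (p q : G ⧸ H) : G :=
  if h : Adj g0 p q then h.choose * t * h.choose⁻¹ else 1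

omit [Finite G] in
theorem smul_star (g : G) : g • star H = (g : G ⧸ H) := by
  show ((g * 1 : G) : G ⧸ H) = _
  rw [mul_one]

omit [Finite G] in
theorem star_rep (p : G ⧸ H) : ∃ g : G, g • star H = p := ⟨p.out, by rw [smul_star, QuotientGroup.out_eq']⟩

omit [Finite G] in
theorem star_eq_iff {g h : G} : g • star H = h • star H ↔ g⁻¹ * h ∈ H := by
  rw [smul_star, smul_star, QuotientGroup.eq]

omit [Finite G] in
theorem smul_star_eq_self {g : G} : g • star H = star H ↔ g ∈ H := by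
  conv_lhs => rw [← one_smul G (star H), ← mul_smul, mul_one, star_eq_iff, mul_one, inv_mem_iff]

omit [Finite G] in
theorem Adj.smul {p q : G ⧸ H} (h : Adj g0 p q) (g : G) : Adj g0 (g • p) (g • q) := by
  obtain ⟨k, rfl, rfl⟩ := h
  exact ⟨g * k, mul_smul _ _ _, mul_smul _ _ _⟩

omit [Finite G] in
theorem adj_smul_iff {p q : G ⧸ H} (g : G) : Adj g0 (g • p) (g • q) ↔ Adj g0 p q :=
  ⟨fun h => by simpa using h.smul g⁻¹, fun h => h.smul g⟩

namespace Net

variable (W : Net t g0 r H Y0)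
include W

theorem Y0_le : Y0 ≤ H := fun g hg => ((W.Y0_eq g).1 hg).1

theorem t_memH : t ∈ H := W.Y0_le W.t_mem

theorem comm_of_mem {y : G} (hy : y ∈ Y0) : Commute y t := ((W.Y0_eq y).1 hy).2

theorem g0_star : g0 • g0 • star H = star H := by
  rw [← mul_smul, smul_star_eq_self]; exact W.Y0_le W.g0_sq

theorem edge_unique {g h : G} (h1 : g • star H = h • star H) (h2 : g • g0 • star H = h • g0 • star H) :
    g⁻¹ * h ∈ Y0 := by
  rw [← mul_smul, ← mul_smul, star_eq_iff] at h2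
  exact W.inter _ (star_eq_iff.1 h1) (by simpa [mul_assoc] using h2)

theorem adj_mk (g : G) : Adj g0 (g • star H) (g • g0 • star H) := ⟨g, rfl, rfl⟩

theorem edgeEl_mk (g : G) : edgeEl t g0 (g • star H) (g • g0 • star H) = g * t * g⁻¹ := by
  have h : Adj g0 (g • star H) (g • g0 • star H) := W.adj_mk g
  rw [edgeEl, dif_pos h]
  obtain ⟨e1, e2⟩ := h.choose_spec
  have hy := W.comm_of_mem (W.edge_unique e1 e2)
  calc h.choose * t * h.choose⁻¹
      = h.choose * (h.choose⁻¹ * g * t * (h.choose⁻¹ * g)⁻¹) * h.choose⁻¹ := by rw [hy.eq, mul_inv_cancel_right]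
    _ = g * t * g⁻¹ := by group

theorem symm {p q : G ⧸ H} (h : Adj g0 p q) : Adj g0 q p ∧ edgeEl t g0 q p = edgeEl t g0 p q := by
  obtain ⟨g, rfl, rfl⟩ := h
  have e1 : (g * g0) • star H = g • g0 • star H := mul_smul _ _ _
  have e2 : (g * g0) • g0 • star H = g • star H := by rw [mul_smul, W.g0_star]
  refine ⟨⟨g * g0, e1, e2⟩, ?_⟩
  rw [W.edgeEl_mk g, ← e1, ← e2, W.edgeEl_mk]
  rw [show g * g0 * t * (g * g0)⁻¹ = g * (g0 * t * g0⁻¹) * g⁻¹ by group, W.g0t.eq, mul_inv_cancel_right]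

theorem el_smul {p q : G ⧸ H} (h : Adj g0 p q) (g : G) :
    edgeEl t g0 (g • p) (g • q) = g * edgeEl t g0 p q * g⁻¹ := by
  obtain ⟨k, rfl, rfl⟩ := h
  rw [W.edgeEl_mk k, show g • k • star H = (g * k) • star H from (mul_smul _ _ _).symm,
    show g • k • g0 • star H = (g * k) • g0 • star H from (mul_smul _ _ _).symm, W.edgeEl_mk]
  group

theorem el_sq {p q : G ⧸ H} (h : Adj g0 p q) : edgeEl t g0 p q * edgeEl t g0 p q = 1 := by
  obtain ⟨g, rfl, rfl⟩ := h
  rw [W.edgeEl_mk, show g * t * g⁻¹ * (g * t * g⁻¹) = g * (t * t) * g⁻¹ by group, W.t_sq, mul_one, mul_inv_cancel]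

theorem el_inv {p q : G ⧸ H} (h : Adj g0 p q) : (edgeEl t g0 p q)⁻¹ = edgeEl t g0 p q :=
  inv_eq_of_mul_eq_one_right (W.el_sq h)

theorem irrefl (p : G ⧸ H) : ¬ Adj g0 p p := by
  rintro ⟨g, e1, e2⟩
  exact W.g0_not (smul_star_eq_self.1 (MulAction.injective g (e2.trans e1.symm)))

theorem fixes {p q : G ⧸ H} (h : Adj g0 p q) : edgeEl t g0 p q • p = p ∧ edgeEl t g0 p q • q = q := by
  obtain ⟨g, rfl, rfl⟩ := h
  rw [W.edgeEl_mk]
  constructor
  · rw [← mul_smul, inv_mul_cancel_right, mul_smul, (smul_star_eq_self.2 W.t_memH)]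
  · rw [← mul_smul, inv_mul_cancel_right, mul_smul, ← mul_smul t, ← W.g0t.eq, mul_smul g0,
      (smul_star_eq_self.2 W.t_memH)]

/-- An element determines its edge. -/
theorem same_edge {p q p' q' : G ⧸ H} (h : Adj g0 p q) (h' : Adj g0 p' q')
    (e : edgeEl t g0 p q = edgeEl t g0 p' q') : (p' = p ∧ q' = q) ∨ (p' = q ∧ q' = p) := by
  obtain ⟨g, rfl, rfl⟩ := h
  obtain ⟨k, rfl, rfl⟩ := h'
  rw [W.edgeEl_mk, W.edgeEl_mk] at e
  have hc : Commute (g⁻¹ * k) t := mul_inv_eq_iff_eq_mul.1 (by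
    rw [show g⁻¹ * k * t * (g⁻¹ * k)⁻¹ = g⁻¹ * (k * t * k⁻¹) * g by group, ← e]; group)
  rcases W.cases _ hc with hy | hy
  · refine Or.inl ⟨star_eq_iff.2 ?_, ?_⟩
    · have := inv_mem (W.Y0_le hy)
      rwa [mul_inv_rev, inv_inv] at this
    · rw [← mul_smul, ← mul_smul, star_eq_iff]
      have := inv_mem (W.Y0_le (W.back _ hy))
      simpa [mul_assoc] using this
  · refine Or.inr ⟨?_, ?_⟩
    · rw [← mul_smul, star_eq_iff]
      have := inv_mem (W.Y0_le hy)
      simpa [mul_assoc] using this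
    · rw [← mul_smul, star_eq_iff]
      have := mul_mem (inv_mem (W.Y0_le (W.back _ hy))) (inv_mem (W.Y0_le W.g0_sq))
      simpa [mul_assoc] using this

theorem el_inj {x p q : G ⧸ H} (hp : Adj g0 x p) (hq : Adj g0 x q) (e : edgeEl t g0 x p = edgeEl t g0 x q) : p = q := by
  rcases W.same_edge hp hq e with ⟨-, h⟩ | ⟨h1, h2⟩
  · exact h.symm
  · exact absurd (h1.symm ▸ hp) (W.irrefl _)

/-- The distinguished element inside the subgroup. -/
def tH : ↥H := ⟨t, W.t_memH⟩

theorem setupH : FischerM23.Fi23Setup (conjugatesOf W.tH) := W.setup W.tH rfl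

theorem star_nbr (h : ↥H) : Adj g0 (star H) ((h : G) • g0 • star H) ∧
    edgeEl t g0 (star H) ((h : G) • g0 • star H) = (h : G) * t * (h : G)⁻¹ := by
  have e := W.edgeEl_mk (h : G)
  rw [smul_star_eq_self.2 h.2] at e
  exact ⟨⟨h, smul_star_eq_self.2 h.2, rfl⟩, e⟩

/-- The stars next to the base. -/
theorem member {p : G ⧸ H} (hp : Adj g0 (star H) p) :
    ∃ e ∈ conjugatesOf W.tH, (e : G) = edgeEl t g0 (star H) p := by
  obtain ⟨g, e1, rfl⟩ := hp
  have hg := smul_star_eq_self.1 e1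
  exact ⟨⟨g, hg⟩ * W.tH * (⟨g, hg⟩ : ↥H)⁻¹, isConj_iff.2 ⟨_, rfl⟩, (W.star_nbr ⟨g, hg⟩).2.symm⟩

theorem exists_star {e : ↥H} (he : e ∈ conjugatesOf W.tH) :
    ∃ p, Adj g0 (star H) p ∧ edgeEl t g0 (star H) p = e := by
  obtain ⟨h, rfl⟩ := isConj_iff.1 (show IsConj W.tH e from he)
  exact ⟨_, (W.star_nbr h).1, (W.star_nbr h).2⟩

theorem el_memH {p : G ⧸ H} (hp : Adj g0 (star H) p) : edgeEl t g0 (star H) p ∈ H := by
  obtain ⟨e, -, he⟩ := W.member hp; exact he ▸ e.2

/-- Two commuting neighbours of the base are joined, by the product of their elements. -/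
theorem tri_base {p q : G ⧸ H} (hp : Adj g0 (star H) p) (hq : Adj g0 (star H) q) (hne : p ≠ q)
    (hc : Commute (edgeEl t g0 (star H) p) (edgeEl t g0 (star H) q)) :
    Adj g0 p q ∧ edgeEl t g0 p q = edgeEl t g0 (star H) p * edgeEl t g0 (star H) q := by
  obtain ⟨k, hk1, hk2, hk⟩ := W.tri
  set rH : ↥H := ⟨r, W.rH⟩
  obtain ⟨e, he, eq_e⟩ := W.member hp
  obtain ⟨f, hf, eq_f⟩ := W.member hq
  obtain ⟨h, h1, h2⟩ := FischerM23.pair_conj W.setupH (mem_conjugatesOf_self : W.tH ∈ conjugatesOf W.tH)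
    (b := rH * W.tH * rH⁻¹) ⟨isConj_iff.2 ⟨rH, rfl⟩, fun e' => W.r_ne (congrArg Subtype.val e'),
      Subtype.ext W.r_comm.symm.eq⟩ he
    (b' := f) ⟨hf, fun e' => hne (W.el_inj hp hq (eq_e.symm.trans ((congrArg Subtype.val e').symm.trans eq_f))),
      Subtype.ext (by rw [← eq_e, ← eq_f] at hc; exact hc.eq)⟩
  have hp' : p = (h : G) • g0 • star H := W.el_inj hp (W.star_nbr h).1 (by
    rw [(W.star_nbr h).2, ← eq_e, ← h1]; rfl)
  have hq' : q = ((h * rH : ↥H) : G) • g0 • star H := W.el_inj hq (W.star_nbr (h * rH)).1 (by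
    rw [(W.star_nbr (h * rH)).2, ← eq_f, ← h2]
    show (h : G) * (r * t * r⁻¹) * (h : G)⁻¹ = (h : G) * r * t * ((h : G) * r)⁻¹
    group)
  have k1 : k • star H = g0 • star H := by
    refine (star_eq_iff.2 ?_)
    have := inv_mem hk1
    rwa [mul_inv_rev, inv_inv] at this
  have k2 : k • g0 • star H = r • g0 • star H := by
    rw [← mul_smul, ← mul_smul, star_eq_iff]
    have := inv_mem hk2
    simpa [mul_assoc] using this
  have a1 := W.adj_mk ((h : G) * k)
  have a2 := W.edgeEl_mk ((h : G) * k)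
  rw [mul_smul, k1, mul_smul, k2, ← mul_smul (h : G) r] at a1 a2
  rw [hp', hq', (W.star_nbr h).2, (W.star_nbr (h * rH)).2]
  refine ⟨a1, a2.trans ?_⟩
  show (h : G) * k * t * ((h : G) * k)⁻¹ = (h : G) * t * (h : G)⁻¹ * ((h : G) * r * t * ((h : G) * r)⁻¹)
  rw [show (h : G) * k * t * ((h : G) * k)⁻¹ = (h : G) * (k * t * k⁻¹) * (h : G)⁻¹ by group, hk]
  group

theorem exists_at {x p : G ⧸ H} (hp : Adj g0 x p) : ∃ g : G, ∃ p', x = g • star H ∧ p = g • p' ∧ Adj g0 (star H) p' := by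
  obtain ⟨g, rfl⟩ := star_rep x
  exact ⟨g, g⁻¹ • p, rfl, (smul_inv_smul g p).symm, by simpa using hp.smul g⁻¹⟩

/-- The triangle on two commuting neighbours. -/
theorem triangle {x p q : G ⧸ H} (hp : Adj g0 x p) (hq : Adj g0 x q) (hne : p ≠ q)
    (hc : Commute (edgeEl t g0 x p) (edgeEl t g0 x q)) :
    Adj g0 p q ∧ edgeEl t g0 p q = edgeEl t g0 x p * edgeEl t g0 x q := by
  obtain ⟨g, rfl⟩ := star_rep x
  obtain ⟨p, rfl⟩ := MulAction.surjective g p
  obtain ⟨q, rfl⟩ := MulAction.surjective g q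
  rw [adj_smul_iff] at hp hq ⊢
  rw [W.el_smul hp, W.el_smul hq] at hc
  obtain ⟨a1, a2⟩ := W.tri_base hp hq (fun e => hne (by rw [e]))
    (by have := hc.map (MulAut.conj g⁻¹).toMonoidHom; simpa [mul_assoc] using this)
  refine ⟨a1, ?_⟩
  rw [W.el_smul a1, W.el_smul hp, W.el_smul hq, a2]
  group

/-- Two non-commuting elements at one star satisfy the braid relation. -/
theorem braid {x p q : G ⧸ H} (hp : Adj g0 x p) (hq : Adj g0 x q)
    (hc : ¬ Commute (edgeEl t g0 x p) (edgeEl t g0 x q)) :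
    edgeEl t g0 x p * edgeEl t g0 x q * edgeEl t g0 x p = edgeEl t g0 x q * edgeEl t g0 x p * edgeEl t g0 x q := by
  obtain ⟨g, rfl⟩ := star_rep x
  obtain ⟨p, rfl⟩ := MulAction.surjective g p
  obtain ⟨q, rfl⟩ := MulAction.surjective g q
  rw [adj_smul_iff] at hp hq
  rw [W.el_smul hp, W.el_smul hq] at hc ⊢
  obtain ⟨e, he, eq_e⟩ := W.member hp
  obtain ⟨f, hf, eq_f⟩ := W.member hq
  rw [← eq_e, ← eq_f] at hc ⊢
  have hb := congrArg Subtype.val (ThreeTrans.braid W.setupH.cls.1 he hf fun h => hc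
    ((h.map H.subtype).map (MulAut.conj g).toMonoidHom))
  simp only [Subgroup.coe_mul] at hb
  have := congrArg (fun w => g * w * g⁻¹) hb
  simpa [mul_assoc] using this

/-- Stars next to the base are joined exactly when their elements commute. -/
theorem adj_iff {p q : G ⧸ H} (hp : Adj g0 (star H) p) (hq : Adj g0 (star H) q) (hne : p ≠ q) :
    Adj g0 p q ↔ Commute (edgeEl t g0 (star H) p) (edgeEl t g0 (star H) q) := by
  refine ⟨fun hpq => ?_, fun h => (W.tri_base hp hq hne h).1⟩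
  by_contra hc
  set o := star H
  obtain ⟨hpo, epo⟩ := W.symm hp
  obtain ⟨hqo, eqo⟩ := W.symm hq
  obtain ⟨hqp, eqp⟩ := W.symm hpq
  set e := edgeEl t g0 o p with he
  set f := edgeEl t g0 o q with hf
  set g := edgeEl t g0 p q with hg
  have hne_po : o ≠ p := fun h => W.irrefl p (h ▸ hp)
  have hne_qo : o ≠ q := fun h => W.irrefl q (h ▸ hq)
  -- at q the elements of the two edges do not commute
  have hfg : ¬ Commute f g := fun h => by
    obtain ⟨-, e'⟩ := W.triangle hqo hqp hne_po (by rw [eqo, eqp]; exact h)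
    rw [eqo, eqp, ← he] at e'
    refine hc ?_
    rw [e']
    exact ((Commute.refl f).mul_left h.symm)
  have hbr : f * g * f = g * f * g := by
    have := W.braid hqo hqp (by rw [eqo, eqp]; exact hfg)
    rwa [eqo, eqp] at this
  obtain ⟨fo, fq⟩ := W.fixes hq
  obtain ⟨gp, gq⟩ := W.fixes hpq
  rw [← hf] at fo fq
  rw [← hg] at gp gq
  have hfp : Adj g0 q (f • p) := by
    have := hqp.smul f; rwa [fq] at this
  have hgo : Adj g0 q (g • o) := by
    have := hqo.smul g; rwa [gq] at this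
  have hfg' : f • p = g • o := W.el_inj hfp hgo (by
    have e1 := W.el_smul hqp f
    have e2 := W.el_smul hqo g
    rw [fq, eqp, W.el_inv hq] at e1
    rw [gq, eqo, W.el_inv hpq] at e2
    rw [e1, e2, ← hf, ← hg]; exact hbr)
  set h := f * g * f with hh
  have ho : h • o = p := by
    rw [hh, mul_smul, mul_smul, fo, ← hfg', ← mul_smul, W.el_sq hq, one_smul]
  have hp' : h • p = o := by
    rw [hbr, mul_smul, mul_smul, gp, hfg', ← mul_smul, W.el_sq hpq, one_smul]
  obtain ⟨eH, heD, eq_e⟩ := W.member hp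
  obtain ⟨fH, hfD, eq_f⟩ := W.member hq
  obtain ⟨kH, hk⟩ := FischerM23.common_nonempty W.setupH heD hfD (fun h => hc (by
    rw [he, hf, ← eq_e, ← eq_f]; exact h.map H.subtype))
  obtain ⟨x, hx, eq_k⟩ := W.exists_star hk.1.1
  have ke : Commute (edgeEl t g0 o x) e := by rw [eq_k, he, ← eq_e]; exact (hk.1.2.2.map H.subtype).symm
  have kf : Commute (edgeEl t g0 o x) f := by rw [eq_k, hf, ← eq_f]; exact (hk.2.2.2.map H.subtype).symm
  set k := edgeEl t g0 o x with hkd
  have ko : k • o = o := (W.fixes hx).1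
  have hkinv : k⁻¹ = k := W.el_inv hx
  have hxp : x ≠ p := fun e' => hk.1.2.1 (Subtype.ext (by rw [← eq_k, eq_e, hkd, e']))
  have hxq : x ≠ q := fun e' => hk.2.2.1 (Subtype.ext (by rw [← eq_k, eq_f, hkd, e']))
  obtain ⟨hpx, epx⟩ := W.tri_base hp hx (Ne.symm hxp) ke.symm
  have kp : k • p = p := by
    have h1 := W.el_smul hp k
    have h2 := hp.smul k
    rw [ko] at h1 h2
    refine W.el_inj h2 hp ?_
    rw [h1, ke.eq, mul_inv_cancel_right]
  have kq : k • q = q := by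
    have h1 := W.el_smul hq k
    have h2 := hq.smul k
    rw [ko] at h1 h2
    refine W.el_inj h2 hq ?_
    rw [h1, kf.eq, mul_inv_cancel_right]
  have kg : Commute k g := by
    have h1 := W.el_smul hpq k
    rw [kp, kq] at h1
    exact (eq_mul_inv_iff_mul_eq.1 h1).symm
  have kh : Commute h k := ((kf.symm.mul_left kg.symm).mul_left kf.symm)
  have h1 := W.el_smul hx h
  have h2 := hx.smul h
  rw [ho] at h1 h2
  rw [← hkd, kh.eq, mul_inv_cancel_right] at h1
  rcases W.same_edge hx h2 h1.symm with ⟨e1, -⟩ | ⟨e1, -⟩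
  · exact hne_po e1.symm
  · exact hxp e1.symm

/-- An edge element fixes only the ends and stars next to both. -/
theorem fix_star {p q w : G ⧸ H} (hpq : Adj g0 p q) (hw : edgeEl t g0 p q • w = w) :
    w = p ∨ w = q ∨ (Adj g0 w p ∧ Adj g0 w q) := by
  obtain ⟨g, rfl⟩ := star_rep w
  obtain ⟨p, rfl⟩ := MulAction.surjective g p
  obtain ⟨q, rfl⟩ := MulAction.surjective g q
  rw [adj_smul_iff] at hpq
  have hfix : edgeEl t g0 p q • star H = star H := by
    rw [W.el_smul hpq, ← mul_smul, inv_mul_cancel_right, mul_smul] at hw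
    exact MulAction.injective g hw
  simp only [adj_smul_iff]
  have key : star H = p ∨ star H = q ∨ (Adj g0 (star H) p ∧ Adj g0 (star H) q) := by
    set x : ↥H := ⟨edgeEl t g0 p q, smul_star_eq_self.1 hfix⟩
    obtain ⟨k, hkp, hkq⟩ := hpq
    have hx : edgeEl t g0 p q = k * t * k⁻¹ := by rw [← hkp, ← hkq, W.edgeEl_mk]
    have hpq : Adj g0 p q := ⟨k, hkp, hkq⟩
    have hx1 : x ≠ 1 := fun e => W.t_ne (by
      have := congrArg Subtype.val e
      rw [Subgroup.coe_one] at this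
      exact conj_eq_one_iff.1 (hx.symm.trans this))
    obtain ⟨m, m1, m3, hm⟩ := FischerM23.involution_prod W.setupH (x := x) (Subtype.ext (W.el_sq hpq)) hx1
    rcases isProd_cases m1 m3 hm with ⟨-, hxD⟩ | ⟨-, a, ha, b, hb, hab⟩ | ⟨-, a, b, c, hT, habc⟩
    · obtain ⟨s, hs, es⟩ := W.exists_star hxD
      rcases W.same_edge hs hpq es with ⟨e1, -⟩ | ⟨-, e2⟩
      · exact Or.inl e1.symm
      · exact Or.inr (Or.inl e2.symm)
    · obtain ⟨s, hs, es⟩ := W.exists_star ha
      obtain ⟨s', hs', es'⟩ := W.exists_star hb.1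
      have hne : s ≠ s' := fun e => hb.2.1 (Subtype.ext (by rw [← es', ← es, e]))
      obtain ⟨hss, ess⟩ := W.tri_base hs hs' hne (by rw [es, es']; exact hb.2.2.map H.subtype)
      rcases W.same_edge hss hpq (by
        rw [ess, es, es']; exact (congrArg Subtype.val hab).symm) with ⟨e1, e2⟩ | ⟨e1, e2⟩
      · exact Or.inr (Or.inr ⟨e1 ▸ hs, e2 ▸ hs'⟩)
      · exact Or.inr (Or.inr ⟨e1 ▸ hs', e2 ▸ hs⟩)
    · exact absurd (isConj_iff.2 ⟨k, by rw [← hx]; exact congrArg Subtype.val habc⟩) (W.triple W.tH rfl a b c hT)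
  rcases key with e | e | e
  exacts [Or.inl (by rw [e]), Or.inr (Or.inl (by rw [e])), Or.inr (Or.inr e)]

end Net

end Cfsg.Agent.Fi24Char
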