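/-
The stars next to the base against the neighbours of a member of a group of type M(24), and an element
exchanging an edge on both sides.

* `Chart`, `exists_chart`
* `Exch`, `Net.exists_exch`
-/
import Cfsg.Agent.Lib.Fi24Char.Stars
import Cfsg.Agent.Lib.FischerM24.Uniq.Iso
import Cfsg.Agent.Lib.FischerM24.Involutions
import Cfsg.Agent.Lib.FischerM23.Iso

set_option autoImplicit false
set_option linter.unusedSectionVars false
set_option linter.style.haveILetI false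

namespace Cfsg.Agent.Fi24Char

open Cfsg.Agent.ThreeTrans (adj common Loc commute_of_mem_Loc)
open Cfsg.Agent.FischerM24 (Fi24Setup loc_parity_bijective)
open Cfsg.Agent.FischerM23 (QL QSet qm qm_of_mem mem_loc_of_adj)

universe u v

variable {G : Type u} [Group G] [Finite G] {t g0 r : G} {H Y0 : Subgroup G}
variable {K : Type v} [Group K] [Finite K] {D : Set K} {a : K} {χ : K →* ℤˣ}

/-- The stars next to the base as the neighbours of `a`. -/
structure Chart (W : Net t g0 r H Y0) (D : Set K) (a : K) (χ : K →* ℤˣ) (θ : ↥H →* K) (ι : G ⧸ H → K) : Prop where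
  inj : Function.Injective θ
  range : ∀ k : K, k ∈ θ.range ↔ k ∈ Loc D a ∧ χ k = 1
  mem : ∀ p, Adj g0 (star H) p → ι p ∈ adj D a
  surj : ∀ x ∈ adj D a, ∃ p, Adj g0 (star H) p ∧ ι p = x
  el : ∀ p (hp : Adj g0 (star H) p), θ ⟨edgeEl t g0 (star H) p, W.el_memH hp⟩ = a * ι p

theorem exists_chart (W : Net t g0 r H Y0) (S : Fi24Setup D) (ha : a ∈ D) (hχ : ∀ d ∈ D, χ d = -1) :
    ∃ θ ι, Chart W D a χ θ ι := by
  classical
  obtain ⟨e₀, he₀⟩ := FischerM23.exists_iso (S.localSetup ha) W.setupH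
  have b := loc_parity_bijective S ha hχ
  set π := (ThreeTrans.toQ ↥(Loc D a)).prod (χ.comp (Loc D a).subtype) with hπ
  let P : ↥(Loc D a) ≃* QL D a × ℤˣ := MulEquiv.ofBijective π b
  let θ : ↥H →* K := (Loc D a).subtype.comp (P.symm.toMonoidHom.comp ((MonoidHom.inl (QL D a) ℤˣ).comp e₀.symm.toMonoidHom))
  have hθ : ∀ h : ↥H, ∃ hm : θ h ∈ Loc D a, π ⟨θ h, hm⟩ = (e₀.symm h, 1) := fun h =>
    ⟨(P.symm _).2, P.apply_symm_apply _⟩
  let ι : G ⧸ H → K := fun p => if hp : Adj g0 (star H) p then a * θ ⟨edgeEl t g0 (star H) p, W.el_memH hp⟩ else 1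
  have haL := FischerM24.mem_loc_self S ha
  have haa : a * a = 1 := ThreeTrans.mul_self S.cls.1 ha
  have ha1 : ThreeTrans.toQ ↥(Loc D a) ⟨a, haL⟩ = 1 :=
    (QuotientGroup.eq_one_iff _).2 ((FischerM24.mem_center_loc_iff S ha _).2 (Or.inr rfl))
  have main : ∀ p (hp : Adj g0 (star H) p), ι p ∈ adj D a ∧
      qm D a (ι p) = e₀.symm ⟨edgeEl t g0 (star H) p, W.el_memH hp⟩ := by
    intro p hp
    obtain ⟨e, he, ee⟩ := W.member hp
    set e' : ↥H := ⟨edgeEl t g0 (star H) p, W.el_memH hp⟩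
    have hq : e₀.symm e' ∈ QSet D a := by
      rw [← e₀.injective.mem_set_image, he₀, e₀.apply_symm_apply, show e' = e from Subtype.ext ee.symm]
      exact he
    obtain ⟨v, hv, hvq⟩ := hq
    obtain ⟨hm, hq'⟩ := hθ e'
    have hιe : ι p = a * θ e' := dif_pos hp
    have hmem : ι p ∈ Loc D a := hιe ▸ mul_mem haL hm
    have key : (⟨ι p, hmem⟩ : ↥(Loc D a)) = v := by
      refine b.1 ?_
      rw [show (⟨ι p, hmem⟩ : ↥(Loc D a)) = ⟨a, haL⟩ * ⟨θ e', hm⟩ from Subtype.ext hιe, map_mul, hq']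
      refine Prod.ext ?_ ?_
      · show ThreeTrans.toQ ↥(Loc D a) ⟨a, haL⟩ * e₀.symm e' = _
        rw [ha1, one_mul]; exact hvq.symm
      · show χ a * 1 = χ (v : K)
        rw [mul_one, hχ a ha, hχ _ (show (v : K) ∈ adj D a from hv).1]
    refine ⟨?_, ?_⟩
    · rw [show ι p = (v : K) from congrArg Subtype.val key]
      exact hv
    · rw [qm_of_mem hmem, key]; exact hvq
  refine ⟨θ, ι, fun x y h => ?_, fun k => ⟨?_, fun hk => ?_⟩, fun p hp => (main p hp).1, fun x hx => ?_, fun p hp => ?_⟩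
  · obtain ⟨_, hx⟩ := hθ x
    obtain ⟨_, hy⟩ := hθ y
    simp only [h] at hx
    exact e₀.symm.injective (congrArg Prod.fst (hx.symm.trans hy))
  · rintro ⟨h, rfl⟩
    obtain ⟨hm, e⟩ := hθ h
    exact ⟨hm, congrArg Prod.snd e⟩
  · refine ⟨e₀ (ThreeTrans.toQ _ ⟨k, hk.1⟩), ?_⟩
    obtain ⟨hm, e⟩ := hθ (e₀ (ThreeTrans.toQ _ ⟨k, hk.1⟩))
    refine congrArg Subtype.val (b.1 (e.trans (Prod.ext (e₀.symm_apply_apply _) hk.2.symm)) : (⟨_, hm⟩ : ↥(Loc D a)) = ⟨k, hk.1⟩)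
  · have hq : e₀ (qm D a x) ∈ conjugatesOf W.tH := by
      rw [← he₀]; exact ⟨_, FischerM23.qm_mem hx, rfl⟩
    obtain ⟨p, hp, ep⟩ := W.exists_star hq
    obtain ⟨h1, h2⟩ := main p hp
    refine ⟨p, hp, FischerM24.qm_inj S ha h1 hx ?_⟩
    rw [h2, show (⟨edgeEl t g0 (star H) p, W.el_memH hp⟩ : ↥H) = e₀ (qm D a x) from Subtype.ext ep,
      e₀.symm_apply_apply]
  · show θ _ = a * ι p
    rw [show ι p = a * θ ⟨edgeEl t g0 (star H) p, W.el_memH hp⟩ from dif_pos hp, ← mul_assoc, haa, one_mul]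

namespace Chart

variable {W : Net t g0 r H Y0} {θ : ↥H →* K} {ι : G ⧸ H → K} (C : Chart W D a χ θ ι) (S : Fi24Setup D) (ha : a ∈ D)
include C

theorem θ_loc (h : ↥H) : θ h ∈ Loc D a ∧ χ (θ h) = 1 := (C.range _).1 ⟨h, rfl⟩

theorem θ_comm (h : ↥H) : Commute (θ h) a := commute_of_mem_Loc (C.θ_loc h).1

theorem ι_conj (h : ↥H) {p : G ⧸ H} (hp : Adj g0 (star H) p) :
    Adj g0 (star H) ((h : G) • p) ∧ ι ((h : G) • p) = θ h * ι p * (θ h)⁻¹ := by
  have hh : (h : G) • star H = star H := smul_star_eq_self.2 h.2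
  have h1 := hp.smul (h : G)
  have h2 := W.el_smul hp (h : G)
  rw [hh] at h1 h2
  refine ⟨h1, ?_⟩
  have e := C.el _ h1
  rw [show (⟨edgeEl t g0 (star H) ((h : G) • p), W.el_memH h1⟩ : ↥H) =
    h * ⟨edgeEl t g0 (star H) p, W.el_memH hp⟩ * h⁻¹ from Subtype.ext h2, map_mul, map_mul, map_inv, C.el p hp] at e
  have hc := C.θ_comm h
  refine mul_left_cancel (a := a) (e.symm.trans ?_)
  rw [← mul_assoc (θ h) a, hc.eq]
  simp only [mul_assoc]

theorem ι_inj {p q : G ⧸ H} (hp : Adj g0 (star H) p) (hq : Adj g0 (star H) q) (e : ι p = ι q) : p = q := by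
  refine W.el_inj hp hq (congrArg Subtype.val (C.inj
    (a₁ := ⟨edgeEl t g0 (star H) p, W.el_memH hp⟩) (a₂ := ⟨edgeEl t g0 (star H) q, W.el_memH hq⟩) ?_))
  rw [C.el p hp, C.el q hq, e]

include S ha

theorem ι_adj {p q : G ⧸ H} (hp : Adj g0 (star H) p) (hq : Adj g0 (star H) q) :
    Adj g0 p q ↔ ι q ∈ adj D (ι p) := by
  have hpm := C.mem p hp
  have hqm := C.mem q hq
  have haa : a * a = 1 := ThreeTrans.mul_self S.cls.1 ha
  by_cases hne : p = q
  · subst hne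
    exact iff_of_false (W.irrefl p) (fun h => h.2.1 rfl)
  rw [W.adj_iff hp hq hne]
  have key : Commute (edgeEl t g0 (star H) p) (edgeEl t g0 (star H) q) ↔ Commute (a * ι p) (a * ι q) := by
    rw [← C.el p hp, ← C.el q hq]
    refine ⟨fun h => (show Commute (⟨_, W.el_memH hp⟩ : ↥H) ⟨_, W.el_memH hq⟩ from Subtype.ext h).map θ,
      fun h => congrArg Subtype.val (Commute.of_map C.inj h).eq⟩
  rw [key]
  have c1 : Commute a (ι p) := hpm.2.2
  have c2 : Commute a (ι q) := hqm.2.2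
  refine ⟨fun h => ⟨hqm.1, fun e => hne (C.ι_inj hp hq e.symm), ?_⟩, fun h => ?_⟩
  · have h2 : Commute (a * (a * ι p)) (a * (a * ι q)) :=
      ((Commute.refl a).mul_right ((Commute.refl a).mul_right c2)).mul_left
        (((Commute.refl a).mul_left c1.symm).mul_right h)
    rwa [← mul_assoc, haa, one_mul, ← mul_assoc, haa, one_mul] at h2
  · exact ((Commute.refl a).mul_right c2).mul_left (c1.symm.mul_right h.2.2)

end Chart

/-- An element exchanging the two ends of the base edge on both sides, agreeing on its stabiliser. -/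
structure Exch {W : Net t g0 r H Y0} (θ : ↥H →* K) (ι : G ⧸ H → K) (D : Set K) (a : K) (χ : K →* ℤˣ)
    (s : K) (σ : G) : Prop where
  sa : s * a * s⁻¹ = ι (g0 • star H)
  sy : s * ι (g0 • star H) * s⁻¹ = a
  even : χ s = 1
  σo : σ • star H = g0 • star H
  σb : σ • g0 • star H = star H
  coh : ∀ h : ↥H, (h : G) ∈ Y0 → ∀ h' : ↥H, (h' : G) = σ * h * σ⁻¹ → θ h' = s * θ h * s⁻¹

theorem Net.base_adj (W : Net t g0 r H Y0) : Adj g0 (star H) (g0 • star H) := by
  have := (W.star_nbr 1).1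
  rwa [Subgroup.coe_one, one_smul] at this

theorem Net.stab_mem (W : Net t g0 r H Y0) {g : G} (h1 : g • star H = star H)
    (h2 : g • g0 • star H = g0 • star H) : g ∈ Y0 := by
  have := W.edge_unique (g := (1 : G)) (h := g) (by rw [one_smul, h1]) (by rw [one_smul, h2])
  rwa [inv_one, one_mul] at this

theorem Net.Y0_fix (W : Net t g0 r H Y0) {g : G} (h : g ∈ Y0) :
    g • star H = star H ∧ g • g0 • star H = g0 • star H := by
  refine ⟨smul_star_eq_self.2 (W.Y0_le h), ?_⟩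
  rw [← mul_smul, star_eq_iff]
  have := inv_mem (W.Y0_le (W.back g h))
  simpa [mul_assoc] using this

/-- The exchange can be chosen for any element exchanging `a` with the image of the other end. -/
theorem Chart.exists_exch {W : Net t g0 r H Y0} {θ : ↥H →* K} {ι : G ⧸ H → K} (C : Chart W D a χ θ ι)
    (S : Fi24Setup D) (ha : a ∈ D) {s : K} (sa : s * a * s⁻¹ = ι (g0 • star H))
    (sy : s * ι (g0 • star H) * s⁻¹ = a) (hs : χ s = 1) : ∃ σ, Exch (W := W) θ ι D a χ s σ := by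
  classical
  set y := ι (g0 • star H) with hy
  have hyA : y ∈ adj D a := C.mem _ W.base_adj
  -- the stabiliser of the edge corresponds
  have hstab : ∀ h : ↥H, (h : G) ∈ Y0 ↔ Commute (θ h) y := fun h => by
    obtain ⟨e1, e2⟩ := C.ι_conj h W.base_adj
    refine ⟨fun hh => mul_inv_eq_iff_eq_mul.1 ?_, fun hc => W.stab_mem (smul_star_eq_self.2 h.2) ?_⟩
    · rw [hy, ← e2, (W.Y0_fix hh).2]
    · refine C.ι_inj e1 W.base_adj ?_
      rw [e2, ← hy, hc.eq, mul_inv_cancel_right]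
  let M : Subgroup K := (Y0.subgroupOf H).map θ
  have hM : ∀ k : K, k ∈ M ↔ k ∈ Loc D a ∧ χ k = 1 ∧ Commute k y := fun k => by
    constructor
    · rintro ⟨h, hh, rfl⟩
      exact ⟨(C.θ_loc h).1, (C.θ_loc h).2, (hstab h).1 hh⟩
    · rintro ⟨h1, h2, h3⟩
      obtain ⟨h, rfl⟩ := (C.range k).2 ⟨h1, h2⟩
      exact ⟨h, (hstab h).2 h3, rfl⟩
  have hce := FischerM24.centralizer_eq_loc S ha
  have hconj : ∀ {p q : K}, Commute p q → Commute (s * p * s⁻¹) (s * q * s⁻¹) := fun h =>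
    h.map (MulAut.conj s).toMonoidHom
  have hback : ∀ {p q : K}, Commute (s * p * s⁻¹) (s * q * s⁻¹) → Commute p q := fun h =>
    Commute.of_map (f := (MulAut.conj s).toMonoidHom) (MulAut.conj s).injective h
  have hMs : ∀ k, k ∈ M ↔ s * k * s⁻¹ ∈ M := fun k => by
    rw [hM, hM, ← hce, Subgroup.mem_centralizer_singleton_iff, Subgroup.mem_centralizer_singleton_iff]
    constructor
    · rintro ⟨h1, h2, h3⟩
      exact ⟨by have := hconj h3; rw [sy] at this; exact this.eq, by simp [h2],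
        by have := hconj (show Commute k a from h1); rw [sa] at this; exact this⟩
    · rintro ⟨h1, h2, h3⟩
      refine ⟨(hback (q := a) (by rw [sa]; exact h3)).eq, by rw [map_mul, map_mul, map_inv, hs] at h2; simpa using h2,
        hback (q := y) (by rw [sy]; exact h1)⟩
  let ε : ↥Y0 ≃* ↥M := (Subgroup.subgroupOfEquivOfLe W.Y0_le).symm.trans
    (Subgroup.equivMapOfInjective (Y0.subgroupOf H) θ C.inj)
  have hε : ∀ w : ↥Y0, (ε w : K) = θ ⟨w, W.Y0_le w.2⟩ := fun w => rfl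
  let α : MulAut ↥Y0 := ε.trans ((FischerM24.conjRestrict s hMs).trans ε.symm)
  have hα : ∀ w : ↥Y0, θ ⟨(α w : ↥Y0), W.Y0_le (α w).2⟩ = s * θ ⟨w, W.Y0_le w.2⟩ * s⁻¹ := fun w => by
    rw [← hε, ← hε]
    show (ε (ε.symm _) : K) = _
    rw [ε.apply_symm_apply]
    rfl
  have hg0n : ∀ w, w ∈ Y0 ↔ g0 * w * g0⁻¹ ∈ Y0 := fun w => by
    refine ⟨fun h => ?_, fun h => ?_⟩
    · have := mul_mem (mul_mem W.g0_sq (W.back w h)) (inv_mem W.g0_sq)
      simpa [mul_assoc] using this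
    · have := W.back _ h
      simpa [mul_assoc] using this
  let β : MulAut ↥Y0 := FischerM24.conjRestrict g0 hg0n
  obtain ⟨hqs, ⟨ρ⟩⟩ := W.half
  set η := QuotientGroup.mk' (Subgroup.center ↥Y0) with hη
  have hηs : Function.Surjective η := QuotientGroup.mk'_surjective _
  have hdesc : ∀ ω : MulAut ↥Y0, ∃ ω' : MulAut (↥Y0 ⧸ Subgroup.center ↥Y0), ∀ w, ω' (η w) = η (ω w) := fun ω =>
    FischerM24.exists_descend η hηs ω fun w hw => by
      rw [← MonoidHom.mem_ker, QuotientGroup.ker_mk'] at hw ⊢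
      refine Subgroup.mem_center_iff.2 fun m => ?_
      obtain ⟨m, rfl⟩ := ω.surjective m
      rw [← map_mul, ← map_mul, Subgroup.mem_center_iff.1 hw m]
  -- trivial modulo the centre is trivial
  have hrig : ∀ (ω : MulAut ↥Y0), (∀ w, η (ω w) = η w) → ∀ w, ω w = w := by
    intro ω h w
    let f : ↥Y0 →* ↥(Subgroup.center ↥Y0) :=
      { toFun := fun w => ⟨ω w * w⁻¹, by
          rw [← QuotientGroup.ker_mk' (Subgroup.center ↥Y0), MonoidHom.mem_ker, map_mul, map_inv, h, mul_inv_cancel]⟩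
        map_one' := Subtype.ext (by simp)
        map_mul' := fun x z => Subtype.ext (by
          have hzc : z⁻¹ * ω z ∈ Subgroup.center ↥Y0 := by
            rw [← QuotientGroup.ker_mk' (Subgroup.center ↥Y0), MonoidHom.mem_ker, map_mul, map_inv, h, inv_mul_cancel]
          have e : ω z * z⁻¹ = z⁻¹ * ω z := by
            conv_lhs => rw [show ω z * z⁻¹ = z * (z⁻¹ * ω z) * z⁻¹ by group]
            rw [Subgroup.mem_center_iff.1 hzc z, mul_inv_cancel_right]
          show ω (x * z) * (x * z)⁻¹ = ω x * x⁻¹ * (ω z * z⁻¹)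
          rw [map_mul, e, mul_assoc (ω x) x⁻¹, Subgroup.mem_center_iff.1 hzc x⁻¹, ← e]
          group) }
    have : f w = 1 := by
      letI : CommGroup ↥(Subgroup.center ↥Y0) :=
        { (inferInstance : Group ↥(Subgroup.center ↥Y0)) with mul_comm := fun x z => mul_comm' x z }
      exact Abelianization.commutator_subset_ker f (by rw [hqs.1.commutator_eq_top]; trivial)
    exact mul_inv_eq_one.1 (congrArg Subtype.val this)
  obtain ⟨α', hα'⟩ := hdesc α
  obtain ⟨β', hβ'⟩ := hdesc β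
  have hinner : ∀ (ω : MulAut ↥Y0) (ω' : MulAut (↥Y0 ⧸ Subgroup.center ↥Y0)), (∀ w, ω' (η w) = η (ω w)) →
      ω' ∈ (MulAut.conj : _ →* MulAut (↥Y0 ⧸ Subgroup.center ↥Y0)).range → ∃ m : ↥Y0, ∀ w, ω w = m * w * m⁻¹ := by
    rintro ω ω' hω ⟨q, hq⟩
    obtain ⟨m, rfl⟩ := hηs q
    refine ⟨m, fun w => ?_⟩
    have h := hrig ((MulAut.conj m)⁻¹ * ω) (fun w => by
      show η (m⁻¹ * ω w * m) = η w
      rw [map_mul, map_mul, ← hω, ← hq, MulAut.conj_apply, map_inv]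
      group) w
    have h : m⁻¹ * ω w * m = w := h
    conv_rhs => rw [← h]
    group
  have hαno : α' ∉ (MulAut.conj : _ →* MulAut (↥Y0 ⧸ Subgroup.center ↥Y0)).range := fun hin => by
    obtain ⟨m, hm⟩ := hinner α α' hα' hin
    set μ := θ ⟨m, W.Y0_le m.2⟩ with hμ
    obtain ⟨zz, hz⟩ : (adj D a ∩ adj D y).Nonempty := by
      rw [← Set.ncard_pos (Set.toFinite _), FischerM24.common_ncard S ha hyA]; norm_num
    have hμa : Commute μ a := C.θ_comm _
    have hμy : Commute μ y := (hstab ⟨m, W.Y0_le m.2⟩).1 m.2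
    have hzM : a * zz ∈ M := (hM _).2 ⟨mul_mem (FischerM24.mem_loc_self S ha) (mem_loc_of_adj hz.1),
      by
        obtain ⟨p, hp, rfl⟩ := C.surj zz hz.1
        rw [← C.el p hp]; exact (C.θ_loc _).2,
      hyA.2.2.mul_left hz.2.2.2.symm⟩
    obtain ⟨w, hw⟩ := ε.surjective ⟨_, hzM⟩
    have hw' : θ ⟨w, W.Y0_le w.2⟩ = a * zz := (hε w).symm.trans (congrArg Subtype.val hw)
    have h1 := hα w
    rw [show (⟨(α w : ↥Y0), W.Y0_le (α w).2⟩ : ↥H) = ⟨m, W.Y0_le m.2⟩ * ⟨w, W.Y0_le w.2⟩ * ⟨m, W.Y0_le m.2⟩⁻¹ from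
      Subtype.ext ((congrArg Subtype.val (hm w) :)), map_mul, map_mul, map_inv, hw', ← hμ] at h1
    set g := μ⁻¹ * s with hg
    have hga : g * a * g⁻¹ = y := by
      rw [show g * a * g⁻¹ = μ⁻¹ * (s * a * s⁻¹) * μ by rw [hg]; group, sa, mul_assoc, ← hμy.eq, inv_mul_cancel_left]
    have hgw : g * (a * zz) * g⁻¹ = a * zz := by
      rw [show g * (a * zz) * g⁻¹ = μ⁻¹ * (s * (a * zz) * s⁻¹) * μ by rw [hg]; group, ← h1]
      group
    have hgz : g * zz * g⁻¹ = y * a * zz := by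
      calc g * zz * g⁻¹ = (g * a * g⁻¹)⁻¹ * (g * (a * zz) * g⁻¹) := by group
        _ = _ := by rw [hga, hgw, ThreeTrans.inv_eq S.cls.1 hyA.1, mul_assoc]
    exact FischerM24.one_ne_three S (S.conj_mem g hz.1.1)
      ⟨hyA.1, ha, hz.1.1, hyA.2.1, hz.2.2.1.symm, hz.1.2.1.symm, hyA.2.2.symm, hz.2.2.2, hz.1.2.2⟩ hgz
  have hβno : β' ∉ (MulAut.conj : _ →* MulAut (↥Y0 ⧸ Subgroup.center ↥Y0)).range := fun hin => by
    obtain ⟨m, hm⟩ := hinner β β' hβ' hin
    set c := (m : G)⁻¹ * g0 with hc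
    have hcent : ∀ w : ↥Y0, c * w * c⁻¹ = w := fun w => by
      have h1 : g0 * (w : G) * g0⁻¹ = (m : G) * w * (m : G)⁻¹ := congrArg Subtype.val (hm w)
      rw [show c * (w : G) * c⁻¹ = (m : G)⁻¹ * (g0 * (w : G) * g0⁻¹) * m by rw [hc]; group, h1]
      group
    have hco : c • star H = g0 • star H := by
      have hct : c * t * c⁻¹ = t := hcent ⟨t, W.t_mem⟩
      have : c • star H = (m : G)⁻¹ • g0 • star H := mul_smul _ _ _
      rw [this, (W.Y0_fix (inv_mem m.2)).2]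
    set rH : ↥H := ⟨r, W.rH⟩
    obtain ⟨au, eu⟩ := W.star_nbr rH
    have hu : r * t * r⁻¹ ∈ Y0 := (W.Y0_eq _).2 ⟨mul_mem (mul_mem W.rH W.t_memH) (inv_mem W.rH), W.r_comm⟩
    have h1 := W.el_smul au c
    rw [eu, show c * ((rH : G) * t * (rH : G)⁻¹) * c⁻¹ = r * t * r⁻¹ from hcent ⟨_, hu⟩, hco] at h1
    have h2 := au.smul c
    rw [hco] at h2
    rcases W.same_edge au h2 (eu.trans h1.symm) with ⟨e1, -⟩ | ⟨e1, -⟩
    · exact W.irrefl (star H) (by have := W.base_adj; rwa [e1] at this)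
    · refine W.r_ne ?_
      have h3 := W.star_nbr 1
      rw [Subgroup.coe_one, one_smul, one_mul, inv_one, mul_one, e1] at h3
      exact eu.symm.trans h3.2
  obtain ⟨q, hq⟩ := FischerM24.inner_mul_of_not_inner ρ hαno hβno
  obtain ⟨m, hm⟩ := hinner (β * α) (β' * α') (fun w => by
    show β' (α' (η w)) = η (β (α w)); rw [hα', hβ']) ⟨q, hq⟩
  refine ⟨g0⁻¹ * (m : G), sa, sy, hs, ?_, ?_, fun h hh h' he => ?_⟩
  · rw [mul_smul, (W.Y0_fix m.2).1]
    exact inv_smul_eq_iff.2 W.g0_star.symm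
  · rw [mul_smul, (W.Y0_fix m.2).2, inv_smul_smul]
  · have h1 : g0 * ((α ⟨h, hh⟩ : ↥Y0) : G) * g0⁻¹ = (m : G) * h * (m : G)⁻¹ := congrArg Subtype.val (hm ⟨h, hh⟩)
    have h2 : ((α ⟨h, hh⟩ : ↥Y0) : G) = (h' : G) := by
      rw [he, show g0⁻¹ * (m : G) * (h : G) * (g0⁻¹ * (m : G))⁻¹ = g0⁻¹ * ((m : G) * h * (m : G)⁻¹) * g0 by group, ← h1]
      group
    rw [show h' = ⟨((α ⟨h, hh⟩ : ↥Y0) : G), W.Y0_le (α ⟨h, hh⟩).2⟩ from Subtype.ext h2.symm]
    exact hα ⟨h, hh⟩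

end Cfsg.Agent.Fi24Char
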