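/-
The stars within two steps of the base sent to the members of a group of type M(24): the values carried through
different middle stars agree.

* `nb`, `Chart.triangle`, `Chart.nb_const`
* `cov`, `Chart.cov_eq`, `Chart.cov_conj`
-/
import Cfsg.Agent.Lib.Fi24Char.Chart

set_option autoImplicit false
set_option linter.unusedSectionVars false

namespace Cfsg.Agent.Fi24Char

open Cfsg.Agent.ThreeTrans (adj common conj_adj Loc commute_of_mem_Loc)
open Cfsg.Agent.FischerM24 (Fi24Setup)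
open Cfsg.Agent.FischerM22 (adj_symm)
open Cfsg.Agent.FischerM23 (mem_loc_of_adj)

universe u v

variable {G : Type u} [Group G] [Finite G] {t g0 r : G} {H Y0 : Subgroup G}
variable {K : Type v} [Group K] [Finite K] {D : Set K} {a s : K} {χ : K →* ℤˣ} {σ : G}
variable {θ : ↥H →* K} {ι : G ⧸ H → K}

open Classical in
/-- The value of `w` seen from its neighbour `b`. -/
noncomputable def nb (g0 : G) (θ : ↥H →* K) (ι : G ⧸ H → K) (s : K) (σ : G) (b w : G ⧸ H) : K :=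
  if h : ∃ k : ↥H, (k : G) • g0 • star H = b then
    θ h.choose * s * ι (((h.choose : G) * σ)⁻¹ • w) * (θ h.choose * s)⁻¹ else 1

omit [Finite G] in
/-- Within two steps of the base. -/
def InW (g0 : G) (w : G ⧸ H) : Prop :=
  w = star H ∨ Adj g0 (star H) w ∨ ∃ b, Adj g0 (star H) b ∧ Adj g0 b w

open Classical in
/-- The glued map. -/
noncomputable def cov (g0 : G) (θ : ↥H →* K) (ι : G ⧸ H → K) (a s : K) (σ : G) (w : G ⧸ H) : K :=
  if w = star H then a else if Adj g0 (star H) w then ι w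
  else if h : ∃ b, Adj g0 (star H) b ∧ Adj g0 b w then nb g0 θ ι s σ h.choose w else 1

omit [Finite G] [Finite K] in
theorem conj_commute_conj {g p q : K} : Commute (g * p * g⁻¹) (g * q * g⁻¹) ↔ Commute p q :=
  ⟨fun h => Commute.of_map (f := (MulAut.conj g).toMonoidHom) (MulAut.conj g).injective h,
    fun h => h.map (MulAut.conj g).toMonoidHom⟩

namespace Chart

variable {W : Net t g0 r H Y0} (C : Chart W D a χ θ ι) (S : Fi24Setup D) (ha : a ∈ D)
  (hχ : ∀ d ∈ D, χ d = -1) (X : Exch (W := W) θ ι D a χ s σ)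
include W

theorem exists_move {b : G ⧸ H} (hb : Adj g0 (star H) b) : ∃ k : ↥H, (k : G) • g0 • star H = b := by
  obtain ⟨g, e1, e2⟩ := hb
  exact ⟨⟨g, smul_star_eq_self.1 e1⟩, e2⟩

include X

theorem arg {k : ↥H} {b w : G ⧸ H} (hk : (k : G) • g0 • star H = b) (hw : Adj g0 b w) :
    Adj g0 (star H) (((k : G) * σ)⁻¹ • w) := by
  have h := hw.smul ((k : G) * σ)⁻¹
  rwa [show ((k : G) * σ)⁻¹ • b = star H by rw [inv_smul_eq_iff, mul_smul, X.σo, hk]] at h

include C S ha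

/-- The exchange on the common neighbours of the base edge. -/
theorem coh_common {v : G ⧸ H} (h1 : Adj g0 (star H) v) (h2 : Adj g0 (g0 • star H) v) :
    Adj g0 (star H) (σ • v) ∧ ι (σ • v) = s * ι v * s⁻¹ := by
  have hb := W.base_adj
  have hs1 : Adj g0 (star H) (σ • v) := by have := h2.smul σ; rwa [X.σb] at this
  have hs2 : Adj g0 (g0 • star H) (σ • v) := by have := h1.smul σ; rwa [X.σo] at this
  have hnev : g0 • star H ≠ v := fun e => W.irrefl v (e ▸ h2)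
  have hnes : g0 • star H ≠ σ • v := fun e => W.irrefl (σ • v) (e ▸ hs2)
  have hel : edgeEl t g0 (star H) (g0 • star H) = t := by
    have := (W.star_nbr 1).2
    simpa using this
  have hc := (W.adj_iff hb h1 hnev).1 h2
  rw [hel] at hc
  have hm : edgeEl t g0 (star H) v ∈ Y0 := (W.Y0_eq _).2 ⟨W.el_memH h1, hc.symm⟩
  have he := W.el_smul h1 σ
  rw [X.σo] at he
  obtain ⟨-, tri⟩ := W.tri_base hb hs1 hnes ((W.adj_iff hb hs1 hnes).1 hs2)
  rw [he, hel] at tri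
  have := X.coh ⟨_, W.el_memH h1⟩ hm
    (⟨edgeEl t g0 (star H) (g0 • star H), W.el_memH hb⟩ * ⟨_, W.el_memH hs1⟩) (by
      show edgeEl t g0 (star H) (g0 • star H) * _ = _
      rw [hel]; exact tri.symm)
  rw [map_mul, C.el _ h1, C.el _ hb, C.el _ hs1] at this
  have hyA := C.mem _ hb
  set y := ι (g0 • star H)
  have hay : a * y * (a * ι (σ • v)) = y * ι (σ • v) * (a * a) := by
    have c1 : Commute a y := hyA.2.2
    have c2 : Commute a (ι (σ • v)) := (C.mem _ hs1).2.2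
    calc a * y * (a * ι (σ • v)) = y * a * (ι (σ • v) * a) := by rw [c1.eq, c2.eq]
      _ = y * (a * ι (σ • v)) * a := by simp only [mul_assoc]
      _ = y * (ι (σ • v) * a) * a := by rw [c2.eq]
      _ = y * ι (σ • v) * (a * a) := by simp only [mul_assoc]
  refine ⟨hs1, mul_left_cancel (a := y) ?_⟩
  rw [hay, show s * (a * ι v) * s⁻¹ = s * a * s⁻¹ * (s * ι v * s⁻¹) by group, X.sa] at this
  have haa : a * a = 1 := ThreeTrans.mul_self S.cls.1 ha
  rwa [haa, mul_one] at this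

include hχ

theorem nb_eq {k : ↥H} {b w : G ⧸ H} (hk : (k : G) • g0 • star H = b) (hw : Adj g0 b w) :
    nb g0 θ ι s σ b w = θ k * s * ι (((k : G) * σ)⁻¹ • w) * (θ k * s)⁻¹ := by
  classical
  have hex : ∃ k : ↥H, (k : G) • g0 • star H = b := ⟨k, hk⟩
  rw [nb, dif_pos hex]
  have hl := hex.choose_spec
  generalize hex.choose = l at hl
  set e := l⁻¹ * k with he
  have hkle : k = l * e := by rw [he, mul_inv_cancel_left]
  have hee : (e : G) ∈ Y0 := W.stab_mem (smul_star_eq_self.2 e.2) (by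
    show ((l : G)⁻¹ * k) • g0 • star H = _
    rw [mul_smul, hk, ← hl, inv_smul_smul])
  have hf : σ⁻¹ * (e : G) * σ ∈ Y0 := by
    obtain ⟨f1, f2⟩ := W.Y0_fix hee
    refine W.stab_mem ?_ ?_
    · rw [mul_smul, mul_smul, X.σo, f2, ← X.σo, inv_smul_smul]
    · rw [mul_smul, mul_smul, X.σb, f1, inv_smul_eq_iff, X.σb]
  set f : ↥H := ⟨σ⁻¹ * (e : G) * σ, W.Y0_le hf⟩
  have hcoh : θ e = s * θ f * s⁻¹ := X.coh f hf e (by
    show (e : G) = σ * (σ⁻¹ * (e : G) * σ) * σ⁻¹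
    group)
  set x := ((k : G) * σ)⁻¹ • w
  have hx : Adj g0 (star H) x := arg X hk hw
  obtain ⟨-, e2⟩ := C.ι_conj f hx
  rw [show ((l : G) * σ)⁻¹ • w = (f : G) • x by
    show _ = (σ⁻¹ * (e : G) * σ) • ((k : G) * σ)⁻¹ • w
    rw [← mul_smul, he]
    congr 1
    show _ = σ⁻¹ * ((l : G)⁻¹ * k) * σ * ((k : G) * σ)⁻¹
    group, e2, hkle, map_mul, hcoh]
  group

theorem nb_star {b : G ⧸ H} (hb : Adj g0 (star H) b) : nb g0 θ ι s σ b (star H) = a := by
  obtain ⟨k, hk⟩ := exists_move (W := W) hb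
  rw [C.nb_eq S ha hχ X hk (W.symm hb).1,
    show ((k : G) * σ)⁻¹ • star H = g0 • star H by
      rw [inv_smul_eq_iff, mul_smul, X.σb, smul_star_eq_self.2 k.2],
    show θ k * s * ι (g0 • star H) * (θ k * s)⁻¹ = θ k * (s * ι (g0 • star H) * s⁻¹) * (θ k)⁻¹ by group,
    X.sy, (C.θ_comm k).eq, mul_inv_cancel_right]

theorem nb_common {b w : G ⧸ H} (hb : Adj g0 (star H) b) (hw : Adj g0 (star H) w) (hbw : Adj g0 b w) :
    nb g0 θ ι s σ b w = ι w := by
  obtain ⟨k, hk⟩ := exists_move (W := W) hb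
  have hx := arg X hk hbw
  have hy : Adj g0 (g0 • star H) (((k : G) * σ)⁻¹ • w) := by
    have := hw.smul ((k : G) * σ)⁻¹
    rwa [show ((k : G) * σ)⁻¹ • star H = g0 • star H by
      rw [inv_smul_eq_iff, mul_smul, X.σb, smul_star_eq_self.2 k.2]] at this
  obtain ⟨h1, h2⟩ := C.coh_common S ha X hx hy
  obtain ⟨-, h3⟩ := C.ι_conj k h1
  rw [C.nb_eq S ha hχ X hk hbw, show θ k * s * ι (((k : G) * σ)⁻¹ • w) * (θ k * s)⁻¹
    = θ k * (s * ι (((k : G) * σ)⁻¹ • w) * s⁻¹) * (θ k)⁻¹ by group, ← h2, ← h3, ← mul_smul, ← mul_smul]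
  congr 1
  rw [show (k : G) * σ * ((k : G) * σ)⁻¹ = 1 by group, one_smul]

theorem nb_conj (h : ↥H) {b w : G ⧸ H} (hb : Adj g0 (star H) b) (hw : Adj g0 b w) :
    nb g0 θ ι s σ ((h : G) • b) ((h : G) • w) = θ h * nb g0 θ ι s σ b w * (θ h)⁻¹ := by
  obtain ⟨k, hk⟩ := exists_move (W := W) hb
  have hk' : ((h * k : ↥H) : G) • g0 • star H = (h : G) • b := by rw [Subgroup.coe_mul, mul_smul, hk]
  rw [C.nb_eq S ha hχ X hk hw, C.nb_eq S ha hχ X hk' (hw.smul _), map_mul, ← mul_smul,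
    show (((h * k : ↥H) : G) * σ)⁻¹ * (h : G) = ((k : G) * σ)⁻¹ by rw [Subgroup.coe_mul]; group]
  group

theorem target {k : ↥H} {b : G ⧸ H} (hk : (k : G) • g0 • star H = b) :
    θ k * s * a * (θ k * s)⁻¹ = ι b := by
  rw [show θ k * s * a * (θ k * s)⁻¹ = θ k * (s * a * s⁻¹) * (θ k)⁻¹ by group, X.sa,
    ← (C.ι_conj k W.base_adj).2, hk]

theorem nb_mem {b w : G ⧸ H} (hb : Adj g0 (star H) b) (hw : Adj g0 b w) :
    nb g0 θ ι s σ b w ∈ adj D (ι b) := by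
  obtain ⟨k, hk⟩ := exists_move (W := W) hb
  rw [C.nb_eq S ha hχ X hk hw, ← C.target S ha hχ X hk, conj_adj S.grp.2.1]
  simpa [mul_assoc] using C.mem _ (arg X hk hw)

theorem nb_inj {b w w' : G ⧸ H} (hb : Adj g0 (star H) b) (hw : Adj g0 b w) (hw' : Adj g0 b w')
    (e : nb g0 θ ι s σ b w = nb g0 θ ι s σ b w') : w = w' := by
  obtain ⟨k, hk⟩ := exists_move (W := W) hb
  rw [C.nb_eq S ha hχ X hk hw, C.nb_eq S ha hχ X hk hw'] at e
  exact MulAction.injective ((k : G) * σ)⁻¹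
    (C.ι_inj (arg X hk hw) (arg X hk hw') (mul_left_cancel (mul_right_cancel e)))

theorem nb_adj {b w w' : G ⧸ H} (hb : Adj g0 (star H) b) (hw : Adj g0 b w) (hw' : Adj g0 b w') :
    Adj g0 w w' ↔ nb g0 θ ι s σ b w' ∈ adj D (nb g0 θ ι s σ b w) := by
  obtain ⟨k, hk⟩ := exists_move (W := W) hb
  rw [C.nb_eq S ha hχ X hk hw, C.nb_eq S ha hχ X hk hw', conj_adj S.grp.2.1,
    ← adj_smul_iff ((k : G) * σ)⁻¹, C.ι_adj S ha (arg X hk hw) (arg X hk hw')]
  simp [mul_assoc]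

theorem nb_surj {b : G ⧸ H} (hb : Adj g0 (star H) b) {x : K} (hx : x ∈ adj D (ι b)) :
    ∃ w, Adj g0 b w ∧ nb g0 θ ι s σ b w = x := by
  obtain ⟨k, hk⟩ := exists_move (W := W) hb
  rw [← C.target S ha hχ X hk, conj_adj S.grp.2.1] at hx
  obtain ⟨p, hp, ep⟩ := C.surj _ hx
  have hw : Adj g0 b (((k : G) * σ) • p) := by
    have := hp.smul ((k : G) * σ)
    rwa [show ((k : G) * σ) • star H = b by rw [mul_smul, X.σo, hk]] at this
  refine ⟨_, hw, ?_⟩
  rw [C.nb_eq S ha hχ X hk hw, inv_smul_smul, ep]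
  group

/-- A star at distance two has a value not commuting with `a`. -/
theorem nb_far {b w : G ⧸ H} (hb : Adj g0 (star H) b) (hw : Adj g0 b w) (hne : w ≠ star H)
    (hfar : ¬ Adj g0 (star H) w) : ¬ Commute a (nb g0 θ ι s σ b w) := fun hc => by
  have hbo := (W.symm hb).1
  refine hfar ((C.nb_adj S ha hχ X hb hbo hw).2 ?_)
  rw [C.nb_star S ha hχ X hb]
  exact ⟨(C.nb_mem S ha hχ X hb hw).1,
    fun e => hne (C.nb_inj S ha hχ X hb hw hbo (e.trans (C.nb_star S ha hχ X hb).symm)), hc⟩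

theorem triangle_line {b₁ b₂ u : G ⧸ H} (h1 : Adj g0 (star H) b₁) (h2 : Adj g0 (star H) b₂)
    (h12 : Adj g0 b₁ b₂) (u1 : Adj g0 b₁ u) (u2 : Adj g0 b₂ u) (hu : u ≠ star H)
    (hfar : ¬ Adj g0 (star H) u) :
    nb g0 θ ι s σ b₂ u = nb g0 θ ι s σ b₁ u ∨
      nb g0 θ ι s σ b₂ u = a * nb g0 θ ι s σ b₁ u * a := by
  set v₁ := nb g0 θ ι s σ b₁ u
  set v₂ := nb g0 θ ι s σ b₂ u
  have h21 := (W.symm h12).1
  have m1 := C.nb_mem S ha hχ X h1 u1
  have m2 := C.nb_mem S ha hχ X h2 u2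
  have hc : ι b₂ ∈ adj D (ι b₁) := (C.ι_adj S ha h1 h2).1 h12
  have e1 : v₁ ∈ adj D (ι b₂) := by
    have := (C.nb_adj S ha hχ X h1 h12 u1).1 u2
    rwa [C.nb_common S ha hχ X h1 h2 h12] at this
  have e2 : v₂ ∈ adj D (ι b₁) := by
    have := (C.nb_adj S ha hχ X h2 h21 u2).1 u1
    rwa [C.nb_common S ha hχ X h2 h1 h21] at this
  refine FischerM24.line_edge S (C.mem _ h1).1 hc ⟨adj_symm ha (C.mem _ h1), adj_symm ha (C.mem _ h2)⟩
    ⟨m1, e1⟩ ⟨e2, m2⟩ (C.nb_far S ha hχ X h1 u1 hu hfar)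
    (fun e => C.nb_far S ha hχ X h2 u2 hu hfar (e ▸ Commute.refl _)) fun p hp hpu => ?_
  obtain ⟨m, hm, rfl⟩ := C.surj p hp.1.1
  have a1 : Adj g0 b₁ m := (C.ι_adj S ha h1 hm).2 hp.1.2
  have a2 : Adj g0 b₂ m := (C.ι_adj S ha h2 hm).2 hp.2
  have hne : v₁ ≠ ι m := fun e => C.nb_far S ha hχ X h1 u1 hu hfar (by show Commute a v₁; rw [e]; exact hp.1.1.2.2)
  have hmu : Adj g0 m u := (C.nb_adj S ha hχ X h1 a1 u1).2 (by
    rw [C.nb_common S ha hχ X h1 hm a1]; exact ⟨m1.1, hne, hpu⟩)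
  have := ((C.nb_adj S ha hχ X h2 a2 u2).1 hmu).2.2
  rwa [C.nb_common S ha hχ X h2 hm a2] at this

/-- Two adjacent middle stars give the same value. -/
theorem triangle {b₁ b₂ u : G ⧸ H} (h1 : Adj g0 (star H) b₁) (h2 : Adj g0 (star H) b₂)
    (h12 : Adj g0 b₁ b₂) (u1 : Adj g0 b₁ u) (u2 : Adj g0 b₂ u) (hu : u ≠ star H)
    (hfar : ¬ Adj g0 (star H) u) :
    nb g0 θ ι s σ b₂ u = nb g0 θ ι s σ b₁ u := by
  by_contra hne
  set v₁ := nb g0 θ ι s σ b₁ u with hv₁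
  have m1 := C.nb_mem S ha hχ X h1 u1
  have hc : ι b₂ ∈ adj D (ι b₁) := (C.ι_adj S ha h1 h2).1 h12
  have e1 : v₁ ∈ adj D (ι b₂) := by
    have := (C.nb_adj S ha hχ X h1 h12 u1).1 u2
    rwa [C.nb_common S ha hχ X h1 h2 h12] at this
  have hav := C.nb_far S ha hχ X h1 u1 hu hfar
  have flip : ∀ {c₁ c₂ w : G ⧸ H}, Adj g0 (star H) c₁ → Adj g0 (star H) c₂ → Adj g0 c₁ c₂ →
      Adj g0 c₁ w → Adj g0 c₂ w → w ≠ star H → ¬ Adj g0 (star H) w →
      nb g0 θ ι s σ c₂ w ≠ nb g0 θ ι s σ c₁ w := by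
    intro c₁ c₂ w k1 k2 k12 w1 w2 hw hwf heq
    set x := nb g0 θ ι s σ c₁ w with hx
    have n1 := C.nb_mem S ha hχ X k1 w1
    have kc : ι c₂ ∈ adj D (ι c₁) := (C.ι_adj S ha k1 k2).1 k12
    have n2 : x ∈ adj D (ι c₂) := by
      have := (C.nb_adj S ha hχ X k1 k12 w1).1 w2
      rwa [C.nb_common S ha hχ X k1 k2 k12] at this
    have hax := C.nb_far S ha hχ X k1 w1 hw hwf
    obtain ⟨k, hk, f1, f2, f3⟩ := FischerM24.exists_config S ha (C.mem _ h1) ⟨C.mem _ h2, hc⟩ ⟨m1, e1⟩ hav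
      (C.mem _ k1) ⟨C.mem _ k2, kc⟩ ⟨n1, n2⟩ hax
    obtain ⟨q, hq⟩ : (adj D (ι c₁) ∩ adj D (ι c₂) ∩ adj D a ∩ adj D x).Nonempty := by
      rw [← Set.ncard_pos (Set.toFinite _), FischerM24.far_quad_ncard S (C.mem _ k1).1 kc
        ⟨adj_symm ha (C.mem _ k1), adj_symm ha (C.mem _ k2)⟩ ⟨n1, n2⟩ hax]
      norm_num
    obtain ⟨⟨⟨q1, q2⟩, qa⟩, qx⟩ := hq
    obtain ⟨k', hk', g1, g2, g3⟩ : ∃ k', (k' ∈ Loc D a ∧ χ k' = 1) ∧ k' * ι b₁ * k'⁻¹ = ι c₁ ∧
        k' * ι b₂ * k'⁻¹ = ι c₂ ∧ k' * v₁ * k'⁻¹ = x := by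
      rcases Int.units_eq_one_or (χ k) with e | e
      · exact ⟨k, ⟨hk, e⟩, f1, f2, f3⟩
      · refine ⟨q * k, ⟨mul_mem (mem_loc_of_adj qa) hk, by rw [map_mul, hχ q q1.1, e]; decide⟩, ?_, ?_, ?_⟩
        all_goals rw [mul_inv_rev]
        · rw [show q * k * ι b₁ * (k⁻¹ * q⁻¹) = q * (k * ι b₁ * k⁻¹) * q⁻¹ by group, f1,
            q1.2.2.symm.eq, mul_inv_cancel_right]
        · rw [show q * k * ι b₂ * (k⁻¹ * q⁻¹) = q * (k * ι b₂ * k⁻¹) * q⁻¹ by group, f2,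
            q2.2.2.symm.eq, mul_inv_cancel_right]
        · rw [show q * k * v₁ * (k⁻¹ * q⁻¹) = q * (k * v₁ * k⁻¹) * q⁻¹ by group, f3,
            qx.2.2.symm.eq, mul_inv_cancel_right]
    obtain ⟨h, rfl⟩ := (C.range k').2 hk'
    obtain ⟨a1, i1⟩ := C.ι_conj h h1
    obtain ⟨a2, i2⟩ := C.ι_conj h h2
    have hc1 : (h : G) • b₁ = c₁ := C.ι_inj a1 k1 (i1.trans g1)
    have hc2 : (h : G) • b₂ = c₂ := C.ι_inj a2 k2 (i2.trans g2)
    have hw' : (h : G) • u = w := by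
      refine C.nb_inj S ha hχ X k1 (hc1 ▸ u1.smul _) w1 ?_
      rw [← hc1, C.nb_conj S ha hχ X h h1 u1, hc1]
      exact g3
    rw [← hc2, ← hw', C.nb_conj S ha hχ X h h2 u2, ← g3] at heq
    exact hne (mul_left_cancel (mul_right_cancel heq))
  obtain ⟨q, hq⟩ : (adj D (ι b₁) ∩ adj D (ι b₂) ∩ adj D a ∩ adj D v₁).Nonempty := by
    rw [← Set.ncard_pos (Set.toFinite _), FischerM24.far_quad_ncard S (C.mem _ h1).1 hc
      ⟨adj_symm ha (C.mem _ h1), adj_symm ha (C.mem _ h2)⟩ ⟨m1, e1⟩ hav]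
    norm_num
  obtain ⟨⟨⟨q1, q2⟩, qa⟩, qv⟩ := hq
  obtain ⟨b₃, h3, rfl⟩ := C.surj q qa
  have h13 : Adj g0 b₁ b₃ := (C.ι_adj S ha h1 h3).2 q1
  have h23 : Adj g0 b₂ b₃ := (C.ι_adj S ha h2 h3).2 q2
  have u3 : Adj g0 b₃ u := (C.nb_adj S ha hχ X h1 h13 u1).2 (by
    rw [C.nb_common S ha hχ X h1 h3 h13]; exact adj_symm m1.1 qv)
  have l2 := (C.triangle_line S ha hχ X h1 h2 h12 u1 u2 hu hfar).resolve_left (flip h1 h2 h12 u1 u2 hu hfar)
  have l3 := (C.triangle_line S ha hχ X h1 h3 h13 u1 u3 hu hfar).resolve_left (flip h1 h3 h13 u1 u3 hu hfar)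
  exact flip h2 h3 h23 u2 u3 hu hfar (l3.trans l2.symm)

/-- The stars seen with another value lie among the common neighbours. -/
theorem cross {p q u : G ⧸ H} (hp : Adj g0 (star H) p) (hpu : Adj g0 p u) (hq : Adj g0 (star H) q)
    (hqu : Adj g0 q u) (hu : u ≠ star H) (hfar : ¬ Adj g0 (star H) u)
    (hne : nb g0 θ ι s σ p u ≠ nb g0 θ ι s σ q u) :
    ι q ∈ common D a (nb g0 θ ι s σ p u) := by
  set z := nb g0 θ ι s σ p u with hz
  have hzD := (C.nb_mem S ha hχ X hp hpu).1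
  have haz := C.nb_far S ha hχ X hp hpu hu hfar
  set T := {x | ∃ m, Adj g0 (star H) m ∧ Adj g0 m u ∧ nb g0 θ ι s σ m u = z ∧ ι m = x} with hT
  refine FischerM24.closed_complement S ha hzD haz (C := T) ?_ ⟨_, p, hp, hpu, rfl, rfl⟩ ?_ (C.mem q hq) ?_
  · rintro _ ⟨m, hm, hmu, em, rfl⟩
    exact ⟨C.mem m hm, adj_symm (C.mem m hm).1 (by have := C.nb_mem S ha hχ X hm hmu; rwa [em] at this)⟩
  · rintro _ ⟨m, hm, hmu, em, rfl⟩ x hx hc
    obtain ⟨l, hl, rfl⟩ := C.surj x hx.1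
    by_cases e : l = m
    · exact ⟨m, hm, hmu, em, by rw [e]⟩
    have hml : Adj g0 m l := (C.ι_adj S ha hm hl).2 ⟨hx.1.1, fun e' => e (C.ι_inj hl hm e'), hc⟩
    have hlu : Adj g0 l u := (C.nb_adj S ha hχ X hm hml hmu).2 (by
      rw [C.nb_common S ha hχ X hm hl hml, em]; exact adj_symm hzD hx.2)
    exact ⟨l, hl, hlu, (C.triangle S ha hχ X hm hl hml hmu hlu hu hfar).trans em, rfl⟩
  · rintro _ ⟨m, hm, hmu, em, rfl⟩ hc
    by_cases e : q = m
    · exact hne (e.symm ▸ em.symm)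
    have hmq : Adj g0 m q := (C.ι_adj S ha hm hq).2 ⟨(C.mem q hq).1, fun e' => e (C.ι_inj hq hm e'), hc.symm⟩
    exact hne (em.symm.trans (C.triangle S ha hχ X hm hq hmq hmu hqu hu hfar).symm)

/-- All middle stars give the same value. -/
theorem nb_const {p q u : G ⧸ H} (hp : Adj g0 (star H) p) (hpu : Adj g0 p u) (hq : Adj g0 (star H) q)
    (hqu : Adj g0 q u) (hu : u ≠ star H) (hfar : ¬ Adj g0 (star H) u) :
    nb g0 θ ι s σ p u = nb g0 θ ι s σ q u := by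
  by_contra hne
  set z := nb g0 θ ι s σ p u with hz
  set z' := nb g0 θ ι s σ q u with hz'
  have mz := C.nb_mem S ha hχ X hp hpu
  have mz' := C.nb_mem S ha hχ X hq hqu
  have haz := C.nb_far S ha hχ X hp hpu hu hfar
  have haz' := C.nb_far S ha hχ X hq hqu hu hfar
  have cq := C.cross S ha hχ X hp hpu hq hqu hu hfar hne
  have cp := C.cross S ha hχ X hq hqu hp hpu hu hfar (Ne.symm hne)
  have hqm := C.mem q hq
  have hpm := C.mem p hp
  rcases FischerM24.line_three S hqm.1 (adj_symm ha hqm) mz' haz' ⟨mz.1, cq.2.2.1.symm, cq.2.2.2.symm⟩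
      (fun x hx hxa hxz => by
        have hxA : x ∈ adj D a := FischerM22.adj_of_not_commute haz' hx.1 hxa hxz
        obtain ⟨m, hm, rfl⟩ := C.surj x hxA
        have hqm' : Adj g0 q m := (C.ι_adj S ha hq hm).2 hx
        have hmu : Adj g0 m u := (C.nb_adj S ha hχ X hq hqm' hqu).2 (by
          rw [C.nb_common S ha hχ X hq hm hqm']
          exact ⟨mz'.1, fun e => haz' (by rw [e]; exact hxA.2.2), hxz⟩)
        have e := C.triangle S ha hχ X hq hm hqm' hqu hmu hu hfar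
        exact (C.cross S ha hχ X hp hpu hm hmu hu hfar (fun h => hne (h.trans e))).2.2.2.symm) with h | h | hflip
  · exact haz (h ▸ Commute.refl a)
  · exact hne h
  have hpq : p ≠ q := fun e => hne (by rw [hz, hz', e])
  have hnc : ¬ Commute (edgeEl t g0 (star H) p) (edgeEl t g0 (star H) q) := fun hc =>
    hne (C.triangle S ha hχ X hp hq (W.tri_base hp hq hpq hc).1 hpu hqu hu hfar).symm
  set e := edgeEl t g0 (star H) p with he
  set f := edgeEl t g0 (star H) q with hf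
  obtain ⟨eo, ep⟩ := W.fixes hp
  obtain ⟨fo, fq⟩ := W.fixes hq
  rw [← he] at eo ep
  rw [← hf] at fo fq
  set w := e • q with hw
  have how : Adj g0 (star H) w := by have := hq.smul e; rwa [eo] at this
  have hel : edgeEl t g0 (star H) w = e * f * e := by
    have := W.el_smul hq e
    rwa [eo, W.el_inv hp] at this
  set h : ↥H := ⟨e * f * e, hel ▸ W.el_memH how⟩ with hh
  have hhp : (h : G) • p = q := by
    show (e * f * e) • p = q
    have h1 : Adj g0 (star H) ((e * f * e) • p) := by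
      have := hp.smul (e * f * e)
      rwa [mul_smul, mul_smul, eo, fo, eo] at this
    refine W.el_inj h1 hq ?_
    have h2 := W.el_smul hp (e * f * e)
    rw [mul_smul, mul_smul, eo, fo, eo, ← he, mul_inv_rev, mul_inv_rev, W.el_inv hp, W.el_inv hq] at h2
    rw [h2, ← hf]
    have ee : ∀ x, e * (e * x) = x := fun x => by rw [← mul_assoc, show e * e = 1 from W.el_sq hp, one_mul]
    calc e * f * e * e * (e * (f * e)) = e * (f * e * f) * e := by simp only [mul_assoc, ee]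
      _ = e * (e * f * e) * e := by rw [← W.braid hp hq hnc]
      _ = f := by simp only [mul_assoc, ee, show e * e = 1 from W.el_sq hp, mul_one]
  have hθ : θ h * z * (θ h)⁻¹ = z' := by
    rw [show h = ⟨e, W.el_memH hp⟩ * ⟨f, W.el_memH hq⟩ * ⟨e, W.el_memH hp⟩ from Subtype.ext rfl, map_mul, map_mul,
      C.el p hp, C.el q hq]
    have c1 : ι p * z * (ι p)⁻¹ = z := by rw [mz.2.2.eq, mul_inv_cancel_right]
    have c2 : ι q * z * (ι q)⁻¹ = z := by rw [cq.2.2.2.symm.eq, mul_inv_cancel_right]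
    have d1 : ι p * z' * (ι p)⁻¹ = z' := by rw [cp.2.2.2.symm.eq, mul_inv_cancel_right]
    have d2 : ι q * z' * (ι q)⁻¹ = z' := by rw [mz'.2.2.eq, mul_inv_cancel_right]
    have haa := ThreeTrans.mul_self S.cls.1 ha
    have ai := ThreeTrans.inv_eq S.cls.1 ha
    have e' : a * z * a⁻¹ = z' := by
      rw [show z = a * z' * a from hflip, ai, show a * (a * z' * a) * a = (a * a) * z' * (a * a) by simp only [mul_assoc], haa, one_mul, mul_one]
    have e'' : a * z' * a⁻¹ = z := by rw [ai]; exact hflip.symm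
    rw [show a * ι p * (a * ι q) * (a * ι p) * z * (a * ι p * (a * ι q) * (a * ι p))⁻¹ =
      a * (ι p * (a * (ι q * (a * (ι p * z * (ι p)⁻¹) * a⁻¹) * (ι q)⁻¹) * a⁻¹) * (ι p)⁻¹) * a⁻¹ by group,
      c1, e', d2, e'', c1, e']
  have hfix : (h : G) • u = u := by
    refine C.nb_inj S ha hχ X hq (hhp ▸ hpu.smul _) hqu ?_
    rw [← hhp, C.nb_conj S ha hχ X h hp hpu, hhp]
    exact hθ
  have hfix' : edgeEl t g0 (star H) w • u = u := hel.symm ▸ hfix
  rcases W.fix_star how hfix' with h' | h' | h'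
  · exact hu h'
  · exact hfar (h' ▸ how)
  · exact hfar (W.symm h'.1).1

theorem cov_star : cov g0 θ ι a s σ (star H) = a := if_pos rfl

theorem cov_nbr {w : G ⧸ H} (hw : Adj g0 (star H) w) : cov g0 θ ι a s σ w = ι w := by
  classical
  rw [cov, if_neg (fun e => W.irrefl (star H) (by rwa [e] at hw)), if_pos hw]

/-- The glued map on the neighbours of a neighbour. -/
theorem cov_eq {b w : G ⧸ H} (hb : Adj g0 (star H) b) (hw : Adj g0 b w) :
    cov g0 θ ι a s σ w = nb g0 θ ι s σ b w := by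
  classical
  by_cases e : w = star H
  · subst e
    rw [C.cov_star S ha hχ X, C.nb_star S ha hχ X hb]
  by_cases e' : Adj g0 (star H) w
  · rw [C.cov_nbr S ha hχ X e', C.nb_common S ha hχ X hb e' hw]
  have hex : ∃ b, Adj g0 (star H) b ∧ Adj g0 b w := ⟨b, hb, hw⟩
  rw [cov, if_neg e, if_neg e', dif_pos hex]
  exact C.nb_const S ha hχ X hex.choose_spec.1 hex.choose_spec.2 hb hw e e'

/-- The glued map commutes with the subgroup. -/
theorem cov_conj (h : ↥H) {w : G ⧸ H} (hw : InW g0 w) :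
    InW g0 ((h : G) • w) ∧ cov g0 θ ι a s σ ((h : G) • w) = θ h * cov g0 θ ι a s σ w * (θ h)⁻¹ := by
  have ho : (h : G) • star H = star H := smul_star_eq_self.2 h.2
  rcases hw with e | e | ⟨b, hb, hbw⟩
  · subst e
    rw [ho, C.cov_star S ha hχ X, (C.θ_comm h).eq, mul_inv_cancel_right]
    exact ⟨Or.inl rfl, rfl⟩
  · obtain ⟨h1, h2⟩ := C.ι_conj h e
    exact ⟨Or.inr (Or.inl h1), by rw [C.cov_nbr S ha hχ X h1, C.cov_nbr S ha hχ X e, h2]⟩
  · have hb' : Adj g0 (star H) ((h : G) • b) := by have := hb.smul (h : G); rwa [ho] at this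
    exact ⟨Or.inr (Or.inr ⟨_, hb', hbw.smul _⟩), by
      rw [C.cov_eq S ha hχ X hb' (hbw.smul _), C.cov_eq S ha hχ X hb hbw, C.nb_conj S ha hχ X h hb hbw]⟩

end Chart

end Cfsg.Agent.Fi24Char
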