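/-
An exchange of the base edge whose squares agree on the two sides: it is chosen fixing two further stars of a
complete quadrangle, where the stabilisers of stars carry the map of the base stabiliser.

* `Chart.lift_agree`, `Chart.lift_edge`, `Chart.exists_exch_sq`
-/
import Cfsg.Agent.Lib.Fi24Char.Cover
import Cfsg.Agent.Lib.FischerM24.PairProd

set_option autoImplicit false
set_option linter.unusedSectionVars false

namespace Cfsg.Agent.Fi24Char

open Cfsg.Agent.ThreeTrans (adj common conj_adj Loc commute_of_mem_Loc)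
open Cfsg.Agent.FischerM24 (Fi24Setup edgeCent edgeHom)
open Cfsg.Agent.FischerM22 (adj_symm)
open Cfsg.Agent.FischerM23 (QL QSet qm qm_mem mem_loc_of_adj)

universe u v

variable {G : Type u} [Group G] [Finite G] {t g0 r : G} {H Y0 : Subgroup G}
variable {K : Type v} [Group K] [Finite K] {D : Set K} {a s : K} {χ : K →* ℤˣ} {σ : G}
variable {θ : ↥H →* K} {ι : G ⧸ H → K}

/-- An element of the stabiliser of the star reached through `k` and the exchange. -/
def pt (k : ↥H) (σ : G) (h : ↥H) : G := (k : G) * σ * h * ((k : G) * σ)⁻¹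

/-- Its value. -/
def lift (θ : ↥H →* K) (s : K) (k h : ↥H) : K := θ k * s * θ h * (θ k * s)⁻¹

omit [Finite G] in
theorem pt_mul (k : ↥H) (σ : G) (h h' : ↥H) : pt k σ (h * h') = pt k σ h * pt k σ h' := by
  simp only [pt, Subgroup.coe_mul]; group

omit [Finite G] [Finite K] in
theorem lift_mul (θ : ↥H →* K) (s : K) (k h h' : ↥H) :
    lift θ s k (h * h') = lift θ s k h * lift θ s k h' := by
  simp only [lift, map_mul]; group

omit [Finite G] in
theorem pt_inv (k : ↥H) (σ : G) (h : ↥H) : pt k σ h⁻¹ = (pt k σ h)⁻¹ := by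
  simp only [pt, Subgroup.coe_inv]; group

omit [Finite G] [Finite K] in
theorem lift_inv (θ : ↥H →* K) (s : K) (k h : ↥H) : lift θ s k h⁻¹ = (lift θ s k h)⁻¹ := by
  simp only [lift, map_inv]; group

omit [Finite G] in
theorem pt_one (k : ↥H) (σ : G) : pt k σ 1 = 1 := by
  simp only [pt, Subgroup.coe_one]; group

omit [Finite G] [Finite K] in
theorem lift_one (θ : ↥H →* K) (s : K) (k : ↥H) : lift θ s k 1 = 1 := by
  simp only [lift, map_one]; group

namespace Chart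

variable {W : Net t g0 r H Y0} (C : Chart W D a χ θ ι) (S : Fi24Setup D) (ha : a ∈ D)
  (hχ : ∀ d ∈ D, χ d = -1) (X : Exch (W := W) θ ι D a χ s σ)
include C S ha hχ X

theorem pt_fix {k : ↥H} {c : G ⧸ H} (hk : (k : G) • g0 • star H = c) (h : ↥H) : pt k σ h • c = c := by
  rw [pt, ← hk, ← X.σo, ← mul_smul (k : G) σ, ← mul_smul, inv_mul_cancel_right, mul_smul,
    smul_star_eq_self.2 h.2]

/-- The two maps agree on the stabiliser of both stars. -/
theorem lift_agree {k h m : ↥H} {c : G ⧸ H} (hk : (k : G) • g0 • star H = c) (e : (m : G) = pt k σ h) :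
    lift θ s k h = θ m := by
  have hm1 : ((k⁻¹ * m * k : ↥H) : G) • g0 • star H = g0 • star H := by
    show ((k : G)⁻¹ * (m : G) * (k : G)) • g0 • star H = _
    rw [e, mul_smul, mul_smul, hk, C.pt_fix S ha hχ X hk h, ← hk, inv_smul_smul]
  have hm2 := W.stab_mem (smul_star_eq_self.2 (k⁻¹ * m * k).2) hm1
  have hh : (h : G) = σ⁻¹ * ((k⁻¹ * m * k : ↥H) : G) * σ := by
    show _ = σ⁻¹ * ((k : G)⁻¹ * (m : G) * (k : G)) * σ
    rw [e, pt]; group
  have hY : (h : G) ∈ Y0 := by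
    obtain ⟨f1, f2⟩ := W.Y0_fix hm2
    rw [hh]
    refine W.stab_mem ?_ ?_
    · rw [mul_smul, mul_smul, X.σo, f2, ← X.σo, inv_smul_smul]
    · rw [mul_smul, mul_smul, X.σb, f1, inv_smul_eq_iff, X.σb]
  have hcoh := X.coh h hY (k⁻¹ * m * k) (by rw [hh]; group)
  rw [map_mul, map_mul, map_inv] at hcoh
  calc lift θ s k h = θ k * (s * θ h * s⁻¹) * (θ k)⁻¹ := by rw [lift]; group
    _ = θ m := by rw [← hcoh]; group

theorem nb_pt {k : ↥H} {c w : G ⧸ H} (hk : (k : G) • g0 • star H = c) (hw : Adj g0 c w) (h : ↥H) :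
    Adj g0 c (pt k σ h • w) ∧
      nb g0 θ ι s σ c (pt k σ h • w) = lift θ s k h * nb g0 θ ι s σ c w * (lift θ s k h)⁻¹ := by
  have hw' : Adj g0 c (pt k σ h • w) := by
    have := hw.smul (pt k σ h); rwa [C.pt_fix S ha hχ X hk h] at this
  refine ⟨hw', ?_⟩
  have hx := arg X hk hw
  rw [C.nb_eq S ha hχ X hk hw', C.nb_eq S ha hχ X hk hw,
    show ((k : G) * σ)⁻¹ • pt k σ h • w = (h : G) • ((k : G) * σ)⁻¹ • w by
      rw [← mul_smul, ← mul_smul]; congr 1; rw [pt]; group,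
    (C.ι_conj h hx).2, lift]
  group

theorem lift_el {k : ↥H} {c w : G ⧸ H} (hk : (k : G) • g0 • star H = c) (hw : Adj g0 c w) :
    ∃ h : ↥H, (h : G) = edgeEl t g0 (star H) (((k : G) * σ)⁻¹ • w) ∧ pt k σ h = edgeEl t g0 c w ∧
      lift θ s k h = ι c * nb g0 θ ι s σ c w := by
  have hx := arg X hk hw
  refine ⟨⟨_, W.el_memH hx⟩, rfl, ?_, ?_⟩
  · have := W.el_smul hx ((k : G) * σ)
    rw [smul_inv_smul, mul_smul, X.σo, hk] at this
    exact this.symm
  · rw [lift, C.el _ hx, C.nb_eq S ha hχ X hk hw, ← C.target S ha hχ X hk]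
    group

/-- The maps of two adjacent stars agree on the stabiliser of both. -/
theorem lift_edge {k l h : ↥H} {c q : G ⧸ H} (hk : (k : G) • g0 • star H = c) (hl : (l : G) • g0 • star H = q)
    (hc : Adj g0 (star H) c) (hq : Adj g0 (star H) q) (hcq : Adj g0 c q)
    (hfix : pt k σ h • q = q) :
    ∃ h', pt l σ h' = pt k σ h ∧ lift θ s l h' = lift θ s k h := by
  set q' := ((k : G) * σ)⁻¹ • q with hq'
  have hx : Adj g0 (star H) q' := arg X hk hcq
  obtain ⟨e, he, ee⟩ := W.member hx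
  have hhq : (h : G) • q' = q' := by
    conv_rhs => rw [hq', ← hfix]
    rw [hq', ← mul_smul, ← mul_smul]; congr 1; rw [pt]; group
  have hcomm : Commute h e := Subtype.ext (by
    have h1 := W.el_smul hx (h : G)
    rw [smul_star_eq_self.2 h.2, hhq, ← ee] at h1
    exact (eq_mul_inv_iff_mul_eq.1 h1).symm)
  have hmem : h ∈ Loc (conjugatesOf W.tH) e := by
    rw [← FischerM23.centralizer_eq_loc W.setupH he]
    exact Subgroup.mem_centralizer_singleton_iff.2 hcomm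
  refine Subgroup.closure_induction (p := fun x _ => ∃ h', pt l σ h' = pt k σ x ∧ lift θ s l h' = lift θ s k x)
    (fun f hf => ?_) ⟨1, by rw [pt_one, pt_one], by rw [lift_one, lift_one]⟩ (fun x y _ _ ⟨x', a1, a2⟩ ⟨y', b1, b2⟩ => ⟨x' * y',
      by rw [pt_mul, pt_mul, a1, b1], by rw [lift_mul, lift_mul, a2, b2]⟩)
    (fun x _ ⟨x', a1, a2⟩ => ⟨x'⁻¹, by rw [pt_inv, pt_inv, a1], by rw [lift_inv, lift_inv, a2]⟩) hmem
  obtain ⟨w', hw', ew⟩ := W.exists_star hf.1
  have hne : q' ≠ w' := fun e' => hf.2.1 (Subtype.ext (by rw [← ew, ee, e']))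
  obtain ⟨hqw', tri⟩ := W.tri_base hx hw' hne (by rw [← ee, ew]; exact hf.2.2.map H.subtype)
  have hkc : ((k : G) * σ) • star H = c := by rw [mul_smul, X.σo, hk]
  set w := ((k : G) * σ) • w'
  have hcw : Adj g0 c w := hkc ▸ hw'.smul _
  have hqw : Adj g0 q w := by
    have := hqw'.smul ((k : G) * σ)
    rwa [hq', smul_inv_smul] at this
  obtain ⟨hqc, eqc⟩ := W.symm hcq
  obtain ⟨f0, e0, p0, l0⟩ := C.lift_el S ha hχ X hk hcw
  have hf0 : f0 = f := Subtype.ext (by rw [e0, inv_smul_smul, ew])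
  subst hf0
  obtain ⟨h1, -, p1, l1⟩ := C.lift_el S ha hχ X hl hqc
  obtain ⟨h2, -, p2, l2⟩ := C.lift_el S ha hχ X hl hqw
  have tri' := congrArg (fun x => (k : G) * σ * x * ((k : G) * σ)⁻¹) tri
  try simp only at tri'
  rw [← W.el_smul hqw', hq', smul_inv_smul] at tri'
  have ecq : (k : G) * σ * edgeEl t g0 (star H) q' * ((k : G) * σ)⁻¹ = edgeEl t g0 c q := by
    rw [← W.el_smul hx, hkc, hq', smul_inv_smul]
  have ecw : (k : G) * σ * edgeEl t g0 (star H) w' * ((k : G) * σ)⁻¹ = edgeEl t g0 c w := by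
    rw [← W.el_smul hw', hkc]
  refine ⟨h1 * h2, ?_, ?_⟩
  · rw [pt_mul, p1, p2, p0, eqc]
    rw [show edgeEl t g0 q w = edgeEl t g0 c q * edgeEl t g0 c w by rw [tri', ← ecq, ← ecw, hq']; group,
      ← mul_assoc, W.el_sq hcq, one_mul]
  · rw [lift_mul, l1, l2, l0, ← C.cov_eq S ha hχ X hq hqw, ← C.cov_eq S ha hχ X hc hcw,
      ← C.cov_eq S ha hχ X hq hqc, C.cov_nbr S ha hχ X hc]
    have hm : ι q ∈ adj D (ι c) := (C.ι_adj S ha hc hq).1 hcq
    have := ThreeTrans.mul_self S.cls.1 hm.1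
    rw [show ι q * ι c * (ι q * cov g0 θ ι a s σ w) = ι q * (ι c * ι q) * cov g0 θ ι a s σ w by group,
      hm.2.2.eq, ← mul_assoc, this, one_mul]

theorem lift_surj {k : ↥H} {c : G ⧸ H} (hk : (k : G) • g0 • star H = c) {g : K} (hg : Commute g (ι c))
    (hg1 : χ g = 1) : ∃ h, lift θ s k h = g := by
  set p := θ k * s with hpd
  have hp : p * a * p⁻¹ = ι c := C.target S ha hχ X hk
  have h1 : p⁻¹ * g * p ∈ Loc D a := by
    rw [← FischerM24.centralizer_eq_loc S ha]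
    refine Subgroup.mem_centralizer_singleton_iff.2 ?_
    have := hg.map (MulAut.conj p⁻¹).toMonoidHom
    simp only [MulEquiv.coe_toMonoidHom, MulAut.conj_apply, inv_inv, ← hp] at this
    rw [show p⁻¹ * (p * a * p⁻¹) * p = a by group] at this
    exact this.eq
  obtain ⟨h, hh⟩ := (C.range _).2 ⟨h1, by rw [map_mul, map_mul, map_inv, hg1, mul_one, inv_mul_cancel]⟩
  exact ⟨h, by rw [lift, hh, hpd]; group⟩

end Chart

/-- An exchange with agreeing squares. -/
theorem Chart.exists_exch_sq {W : Net t g0 r H Y0} (C : Chart W D a χ θ ι) (S : Fi24Setup D) (ha : a ∈ D)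
    (hχ : ∀ d ∈ D, χ d = -1) :
    ∃ s σ, Exch (W := W) θ ι D a χ s σ ∧ ∀ h : ↥H, (h : G) = σ * σ → θ h = s * s := by
  classical
  have hb := W.base_adj
  set y := ι (g0 • star H) with hy
  have hyA : y ∈ adj D a := C.mem _ hb
  obtain ⟨c₀, hc₀⟩ : (adj D a ∩ adj D y).Nonempty := by
    rw [← Set.ncard_pos (Set.toFinite _), FischerM24.common_ncard S ha hyA]; norm_num
  obtain ⟨q₀, hq₀⟩ : (adj D a ∩ adj D y ∩ adj D c₀).Nonempty := by
    rw [← Set.ncard_pos (Set.toFinite _), FischerM24.triple_ncard S (y := c₀) ha hyA hc₀.1 hc₀.2.2.1.symm hc₀.2.2.2]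
    norm_num
  obtain ⟨g₀, gc, gq, ga, gy⟩ := FischerM24.quad_conj S hc₀.1.1 (b := q₀) hq₀.2 (adj_symm ha hc₀.1)
    (adj_symm hyA.1 hc₀.2)
    (show FischerM22.IsTriple D q₀ a y from ⟨hq₀.2.1, ha, hyA.1, hq₀.1.1.2.1, hq₀.1.2.2.1, hyA.2.1.symm,
      hq₀.1.1.2.2.symm, hq₀.1.2.2.2.symm, hyA.2.2⟩)
    hc₀.1.1 hq₀.2 (adj_symm hyA.1 hc₀.2) (adj_symm ha hc₀.1)
    (show FischerM22.IsTriple D q₀ y a from ⟨hq₀.2.1, hyA.1, ha, hq₀.1.2.2.1, hq₀.1.1.2.1, hyA.2.1,
      hq₀.1.2.2.2.symm, hq₀.1.1.2.2.symm, hyA.2.2.symm⟩)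
  obtain ⟨g, hg1, gc, gq, ga, gy⟩ : ∃ g, χ g = 1 ∧ g * c₀ * g⁻¹ = c₀ ∧ g * q₀ * g⁻¹ = q₀ ∧
      g * a * g⁻¹ = y ∧ g * y * g⁻¹ = a := by
    rcases Int.units_eq_one_or (χ g₀) with e | e
    · exact ⟨g₀, e, gc, gq, ga, gy⟩
    · have fx : ∀ {x : K}, Commute a x → g₀ * a * x * (g₀ * a)⁻¹ = g₀ * x * g₀⁻¹ := fun {x} h => by
        rw [mul_assoc g₀ a x, h.eq]; group
      exact ⟨g₀ * a, by rw [map_mul, hχ a ha, e]; decide, by rw [fx hc₀.1.2.2]; exact gc,
        by rw [fx hq₀.1.1.2.2]; exact gq, by rw [fx (Commute.refl a)]; exact ga,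
        by rw [fx hyA.2.2]; exact gy⟩
  obtain ⟨σ, X⟩ := C.exists_exch S ha ga gy hg1
  refine ⟨g, σ, X, fun m hm => ?_⟩
  obtain ⟨c, hc, ec⟩ := C.surj c₀ hc₀.1
  obtain ⟨q, hq, eq⟩ := C.surj q₀ hq₀.1.1
  have hbc : Adj g0 (g0 • star H) c := (C.ι_adj S ha hb hc).2 (ec ▸ hc₀.2)
  have hbq : Adj g0 (g0 • star H) q := (C.ι_adj S ha hb hq).2 (eq ▸ hq₀.1.2)
  have hcq : Adj g0 c q := (C.ι_adj S ha hc hq).2 (by rw [ec, eq]; exact hq₀.2)
  have hcb := (W.symm hbc).1
  have hco := (W.symm hc).1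
  obtain ⟨k, hk⟩ := exists_move (W := W) hc
  obtain ⟨l, hl⟩ := exists_move (W := W) hq
  obtain ⟨h0, hh0⟩ := C.lift_surj S ha hχ X hk (g := g) (by rw [ec]; exact mul_inv_eq_iff_eq_mul.1 gc) hg1
  set σ' := pt k σ h0 with hσ'
  have moves : ∀ {w w' : G ⧸ H}, Adj g0 c w → Adj g0 c w' →
      g * cov g0 θ ι a g σ w * g⁻¹ = cov g0 θ ι a g σ w' → σ' • w = w' := by
    intro w w' h1 h2 e
    obtain ⟨h3, h4⟩ := C.nb_pt S ha hχ X hk h1 h0
    refine C.nb_inj S ha hχ X hc h3 h2 ?_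
    rw [h4, hh0, ← C.cov_eq S ha hχ X hc h1, ← C.cov_eq S ha hχ X hc h2, e]
  have so : σ' • star H = g0 • star H := moves hco hcb (by
    rw [C.cov_star S ha hχ X, C.cov_nbr S ha hχ X hb]; exact ga)
  have sb : σ' • g0 • star H = star H := moves hcb hco (by
    rw [C.cov_star S ha hχ X, C.cov_nbr S ha hχ X hb]; exact gy)
  have sq' : σ' • q = q := moves hcq hcq (by rw [C.cov_nbr S ha hχ X hq, eq]; exact gq)
  have sc : σ' • c = c := C.pt_fix S ha hχ X hk h0
  obtain ⟨h1, hp1, hl1⟩ := C.lift_edge S ha hχ X hk hl hc hq hcq sq'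
  set d := σ⁻¹ * σ' with hd
  have hdY : d ∈ Y0 := W.stab_mem (by rw [hd, mul_smul, so, ← X.σo, inv_smul_smul])
    (by rw [hd, mul_smul, sb, inv_smul_eq_iff, X.σb])
  set μ := θ ⟨d, W.Y0_le hdY⟩ with hμ
  have hμa : Commute μ a := C.θ_comm _
  -- the two exchanges agree on the stabilisers of `c` and of `q`
  have key : ∀ (e : G ⧸ H) (i j : ↥H), (i : G) • g0 • star H = e → pt i σ j = σ' → lift θ g i j = g →
      ∀ x : ↥H, (x : G) ∈ Y0 → (x : G) • e = e → Commute μ (θ x) := by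
    intro e i j hi hp hlj x hx hxe
    have hxc : ((i : G) * σ)⁻¹ * x * ((i : G) * σ) ∈ H := smul_star_eq_self.1 (by
      rw [mul_smul, mul_smul, inv_smul_eq_iff, mul_smul (i : G) σ, X.σo, hi, hxe])
    set x' : ↥H := ⟨_, hxc⟩
    have hx' : pt i σ x' = x := by
      show (i : G) * σ * (((i : G) * σ)⁻¹ * x * ((i : G) * σ)) * ((i : G) * σ)⁻¹ = x
      group
    have hY : σ' * x * σ'⁻¹ ∈ Y0 := by
      obtain ⟨f1, f2⟩ := W.Y0_fix hx
      refine W.stab_mem ?_ ?_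
      · rw [mul_smul, mul_smul, show σ'⁻¹ • star H = g0 • star H by rw [inv_smul_eq_iff, sb], f2, sb]
      · rw [mul_smul, mul_smul, show σ'⁻¹ • g0 • star H = star H by rw [inv_smul_eq_iff, so], f1, so]
    have a1 := C.lift_agree S ha hχ X hi (h := x') (m := x) hx'.symm
    have a2 := C.lift_agree S ha hχ X hi (h := j * x' * j⁻¹) (m := ⟨_, W.Y0_le hY⟩) (by
      rw [pt_mul, pt_mul, pt_inv, hp, hx'])
    rw [lift_mul, lift_mul, lift_inv, a1, hlj] at a2
    have hdx : d * (x : G) * d⁻¹ ∈ Y0 := mul_mem (mul_mem hdY hx) (inv_mem hdY)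
    have a3 := X.coh ⟨_, W.Y0_le hdx⟩ hdx ⟨_, W.Y0_le hY⟩ (by
      show σ' * x * σ'⁻¹ = σ * (d * x * d⁻¹) * σ⁻¹
      rw [hd]; group)
    rw [← a2] at a3
    have a4 := mul_left_cancel (mul_right_cancel a3)
    rw [show (⟨d * (x : G) * d⁻¹, W.Y0_le hdx⟩ : ↥H) = ⟨d, W.Y0_le hdY⟩ * x * ⟨d, W.Y0_le hdY⟩⁻¹ from
      Subtype.ext rfl, map_mul, map_mul, map_inv, ← hμ] at a4
    exact (eq_mul_inv_iff_mul_eq.1 a4).symm
  -- so it commutes with the common neighbours commuting with one of them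
  have key' : ∀ (e : G ⧸ H) (i j : ↥H), Adj g0 (star H) e → (i : G) • g0 • star H = e → pt i σ j = σ' →
      lift θ g i j = g → ∀ x ∈ adj D a ∩ adj D y, Commute x (ι e) → Commute μ x := by
    intro e i j he hi hp hlj x hx hxe
    obtain ⟨w, hw, rfl⟩ := C.surj x hx.1
    have hwb : Adj g0 (g0 • star H) w := (C.ι_adj S ha hb hw).2 hx.2
    have hne : g0 • star H ≠ w := fun e' => W.irrefl w (e' ▸ hwb)
    have hcw := (W.adj_iff hb hw hne).1 hwb
    have hel : edgeEl t g0 (star H) (g0 • star H) = t := by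
      have := (W.star_nbr 1).2
      simpa using this
    rw [hel] at hcw
    have hY : edgeEl t g0 (star H) w ∈ Y0 := (W.Y0_eq _).2 ⟨W.el_memH hw, hcw.symm⟩
    have hfix : edgeEl t g0 (star H) w • e = e := by
      by_cases h' : w = e
      · subst h'; exact (W.fixes hw).2
      have hwe : Adj g0 w e := (C.ι_adj S ha hw he).2
        ⟨(C.mem e he).1, fun e' => h' (C.ι_inj hw he e'.symm), hxe⟩
      have hc' := (W.adj_iff hw he h').1 hwe
      have h2 := he.smul (edgeEl t g0 (star H) w)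
      have h3 := W.el_smul he (edgeEl t g0 (star H) w)
      rw [(W.fixes hw).1] at h2 h3
      exact W.el_inj h2 he (by rw [h3, hc'.eq, mul_inv_cancel_right])
    have h4 := key e i j hi hp hlj ⟨_, W.el_memH hw⟩ hY hfix
    rw [C.el w hw] at h4
    have h5 := hμa.mul_right h4
    rwa [← mul_assoc, ThreeTrans.mul_self S.cls.1 ha, one_mul] at h5
  have kc := key' c k h0 hc hk rfl hh0
  have kq := key' q l h1 hq hl (hp1.trans rfl) (hl1.trans hh0)
  rw [ec] at kc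
  rw [eq] at kq
  have hμy : Commute μ y := by
    obtain ⟨-, e2⟩ := C.ι_conj ⟨d, W.Y0_le hdY⟩ hb
    rw [show ((⟨d, W.Y0_le hdY⟩ : ↥H) : G) • g0 • star H = g0 • star H from (W.Y0_fix hdY).2, ← hy, ← hμ] at e2
    exact (eq_mul_inv_iff_mul_eq.1 e2).symm
  -- trivial in the quotient of the centraliser of the edge
  set M : ↥(edgeCent D a y) := ⟨μ, (FischerM24.mem_edgeCent_iff S ha).2 ⟨hμa, hμy⟩⟩
  set η := edgeHom S ha hyA with hη
  have near : ∀ x₀ ∈ adj D a ∩ adj D y, (∀ x ∈ adj D a ∩ adj D y, Commute x x₀ → Commute μ x) →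
      ∀ hx₀ : x₀ ∈ edgeCent D a y, η M = 1 ∨ η M = η ⟨x₀, hx₀⟩ := by
    intro x₀ h₀ hall hx₀
    have hmem := FischerM24.edgeHom_mem S ha hyA (z := ⟨x₀, hx₀⟩) h₀
    refine FischerM22.eq_one_or_self ((S.localSetup ha).localSetup (qm_mem hyA)) hmem
      ((show Commute M ⟨x₀, hx₀⟩ from Subtype.ext (hall x₀ h₀ (Commute.refl _)).eq).map η) fun p hp => ?_
    obtain ⟨z, hz, rfl⟩ := FischerM24.edgeHom_exists S ha hyA hp.1
    have hzx := (FischerM24.edgeHom_comm S ha hyA h₀ hz).1 hp.2.2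
    exact (show Commute M z from Subtype.ext (hall _ hz hzx.symm).eq).map η
  have hμ1 : η M = 1 := by
    have hc₀' := FischerM24.mem_edgeCent_of_mem hc₀
    have hq₀' := FischerM24.mem_edgeCent_of_mem hq₀.1
    rcases near c₀ hc₀ kc hc₀' with h | h
    · exact h
    rcases near q₀ hq₀.1 kq hq₀' with h' | h'
    · exact h'
    · exact absurd (congrArg Subtype.val (FischerM24.edgeHom_inj S ha hyA (z := ⟨c₀, hc₀'⟩) (w := ⟨q₀, hq₀'⟩)
        hc₀ hq₀.1 (h.symm.trans h'))) hq₀.2.2.1.symm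
  have hel : edgeEl t g0 (star H) (g0 • star H) = t := by
    have := (W.star_nbr 1).2
    simpa using this
  have hd' : d = 1 ∨ d = t := by
    have hev := (C.θ_loc ⟨d, W.Y0_le hdY⟩).2
    rw [← hμ] at hev
    rcases FischerM24.edgeHom_ker S ha hyA hμ1 with h | h | h | h
    · exact Or.inl (congrArg Subtype.val (C.inj (a₁ := ⟨d, W.Y0_le hdY⟩) (a₂ := 1) (by rw [map_one]; exact h)))
    · exact absurd hev (by rw [show μ = a from h, hχ a ha]; decide)
    · exact absurd hev (by rw [show μ = y from h, hχ y hyA.1]; decide)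
    · have := congrArg Subtype.val (C.inj (a₁ := ⟨d, W.Y0_le hdY⟩)
        (a₂ := ⟨edgeEl t g0 (star H) (g0 • star H), W.el_memH hb⟩) (by rw [C.el _ hb]; exact h))
      exact Or.inr (this.trans hel)
  have hsq : σ' * σ' = σ * σ := by
    have e0 : σ' = σ * d := by rw [hd]; group
    rcases hd' with h | h
    · rw [e0, h, mul_one]
    · have e1 := W.el_smul hb σ
      rw [X.σo, X.σb, (W.symm hb).2, hel] at e1
      have hcom : Commute σ t := (eq_mul_inv_iff_mul_eq.1 e1).symm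
      rw [e0, h, mul_assoc σ t (σ * t), ← mul_assoc t σ t, ← hcom.eq, mul_assoc σ t t, W.t_sq, mul_one]
  have := C.lift_agree S ha hχ X hk (h := h0 * h0) (m := m) (by rw [pt_mul, hm, ← hsq])
  rw [lift_mul, hh0] at this
  exact this.symm

end Cfsg.Agent.Fi24Char
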