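/-
A star at distance two reaches all the common neighbours of the base and its value: otherwise an edge element
would fix a star that is neither an end of its edge nor next to both ends.

* `common_pair_meets` : two commuting common neighbours move a closed part onto a meeting one
* `Chart.reach_full`
-/
import Cfsg.Agent.Lib.Fi24Char.Square

set_option autoImplicit false
set_option linter.unusedSectionVars false

namespace Cfsg.Agent.Fi24Char

open Cfsg.Agent.ThreeTrans (adj common conj_adj Loc commute_of_mem_Loc)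
open Cfsg.Agent.FischerM24 (Fi24Setup)
open Cfsg.Agent.FischerM22 (adj_symm)

universe u v

variable {K : Type v} [Group K] [Finite K] {D : Set K} {a : K}

omit [Finite K] in
theorem common_smul (S : Fi24Setup D) {z g x : K} (ga : Commute g a) (gz : Commute g z)
    (hx : x ∈ common D a z) : g * x * g⁻¹ ∈ common D a z := by
  have h := ThreeTrans.common_conj S.grp.2.1 (y := z) ga
  rw [show g * z * g⁻¹ = z by rw [gz.eq, mul_inv_cancel_right]] at h
  exact h.symm.subset ⟨x, hx, rfl⟩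

/-- The components of the common neighbours, seen in the symmetric group of degree three. -/
theorem exists_three (S : Fi24Setup D) (ha : a ∈ D) {z : K} (hz : z ∈ D) (haz : ¬ Commute a z) :
    ∃ F : K → Equiv.Perm (Fin 3), (∀ x ∈ common D a z, F x * F x = 1 ∧ F x ≠ 1) ∧
      (∀ x ∈ common D a z, ∀ y ∈ common D a z, Commute x y → F x = F y) ∧
      (∀ x ∈ common D a z, ∀ y ∈ common D a z, F (x * y * x⁻¹) = F x * F y * (F x)⁻¹) ∧
      ∀ s : Equiv.Perm (Fin 3), s * s = 1 → s ≠ 1 → ∃ x ∈ common D a z, F x = s := by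
  classical
  obtain ⟨d, hd, c, hc, hdc, -, f, hf, hne⟩ := FischerM24.witness S
  obtain ⟨g, rfl⟩ := ThreeTrans.class_conj S.cls hd ha
  have hn : ¬ Commute (g * d * g⁻¹) (g * c * g⁻¹) := fun h' =>
    hdc (Commute.of_map (f := (MulAut.conj g).toMonoidHom) (MulAut.conj g).injective h')
  obtain ⟨k, hk, hkz⟩ := FischerM24.centralizer_transitive S ha (S.conj_mem g hc) hz hn haz
  set m := k * g with hm
  have hma : m * d * m⁻¹ = g * d * g⁻¹ := by
    rw [show m * d * m⁻¹ = k * (g * d * g⁻¹) * k⁻¹ by rw [hm]; group, hk.eq, mul_inv_cancel_right]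
  have hmz : m * c * m⁻¹ = z := by rw [← hkz, hm]; group
  let L := Subgroup.closure (common D d c)
  let F : K → Equiv.Perm (Fin 3) := fun x => if h : m⁻¹ * x * m ∈ L then f ⟨_, h⟩ else 1
  have hback : ∀ {x : K}, x ∈ common D (g * d * g⁻¹) z → m⁻¹ * x * m ∈ common D d c := fun {x} hx => by
    unfold ThreeTrans.common at hx ⊢
    rw [Set.mem_inter_iff, ← hma, ← hmz, conj_adj S.grp.2.1, conj_adj S.grp.2.1] at hx
    exact hx
  have hFe : ∀ x (h : m⁻¹ * x * m ∈ L), F x = f ⟨_, h⟩ := fun x h => dif_pos h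
  have hmem : ∀ {x : K}, x ∈ common D (g * d * g⁻¹) z → m⁻¹ * x * m ∈ L := fun hx =>
    Subgroup.subset_closure (hback hx)
  have inv2 : ∀ x (hx : x ∈ common D (g * d * g⁻¹) z), F x * F x = 1 ∧ F x ≠ 1 := fun x hx => by
    rw [hFe x (hmem hx)]
    refine ⟨?_, hne _ (hback hx)⟩
    rw [← map_mul, show (⟨_, hmem hx⟩ : ↥L) * ⟨_, hmem hx⟩ = 1 from
      Subtype.ext (ThreeTrans.mul_self S.cls.1 (hback hx).1.1), map_one]
  have hmul : ∀ {x y : K}, m⁻¹ * x * m ∈ L → m⁻¹ * y * m ∈ L →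
      m⁻¹ * (x * y) * m ∈ L ∧ F (x * y) = F x * F y := fun {x y} hx hy => by
    have hxy : m⁻¹ * (x * y) * m ∈ L := by
      rw [show m⁻¹ * (x * y) * m = m⁻¹ * x * m * (m⁻¹ * y * m) by group]; exact mul_mem hx hy
    refine ⟨hxy, ?_⟩
    rw [hFe _ hx, hFe _ hy, hFe _ hxy, ← map_mul]
    exact congrArg f (Subtype.ext (show m⁻¹ * (x * y) * m = m⁻¹ * x * m * (m⁻¹ * y * m) by group))
  refine ⟨F, inv2, fun x hx y hy hc => ?_, fun x hx y hy => ?_, fun s hs hs1 => ?_⟩
  · obtain ⟨a1, a2⟩ := inv2 x hx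
    obtain ⟨b1, b2⟩ := inv2 y hy
    refine FischerM24.perm_three_commute _ _ ⟨a1, b1, a2, b2, ?_⟩
    rw [← (hmul (hmem hx) (hmem hy)).2, ← (hmul (hmem hy) (hmem hx)).2, hc.eq]
  · have hxi : x⁻¹ = x := ThreeTrans.inv_eq S.cls.1 hx.1.1
    obtain ⟨h1, e1⟩ := hmul (hmem hx) (hmem hy)
    rw [inv_eq_of_mul_eq_one_right (inv2 x hx).1, hxi, (hmul h1 (hmem hx)).2, e1]
  · obtain ⟨x0, hx0⟩ := FischerM24.common_nonempty S ha hz haz
    obtain ⟨q, hq⟩ := FischerM24.perm_three_conj (F x0) s ⟨(inv2 x0 hx0).1, hs, (inv2 x0 hx0).2, hs1⟩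
    obtain ⟨l, rfl⟩ := hf q
    set l' := m * (l : K) * m⁻¹
    have hld : Commute (l : K) d := commute_of_mem_Loc (Subgroup.closure_mono Set.inter_subset_left l.2)
    have hlc : Commute (l : K) c := commute_of_mem_Loc (Subgroup.closure_mono Set.inter_subset_right l.2)
    have c1 : Commute l' (g * d * g⁻¹) := hma ▸ hld.map (MulAut.conj m).toMonoidHom
    have c2 : Commute l' z := hmz ▸ hlc.map (MulAut.conj m).toMonoidHom
    refine ⟨l' * x0 * l'⁻¹, common_smul S c1 c2 hx0, ?_⟩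
    have e : m⁻¹ * (l' * x0 * l'⁻¹) * m = (l : K) * (m⁻¹ * x0 * m) * (l : K)⁻¹ := by
      show m⁻¹ * (m * (l : K) * m⁻¹ * x0 * (m * (l : K) * m⁻¹)⁻¹) * m = _
      group
    rw [hFe _ (by rw [e]; exact mul_mem (mul_mem l.2 (hmem hx0)) (inv_mem l.2)), ← hq, hFe x0 (hmem hx0),
      ← map_inv, ← map_mul, ← map_mul]
    exact congrArg f (Subtype.ext e)

theorem perm_three_link : ∀ u v : Equiv.Perm (Fin 3), u * u = 1 ∧ u ≠ 1 ∧ v * v = 1 ∧ v ≠ 1 ∧ u ≠ v →
    ∃ w : Equiv.Perm (Fin 3), w * w = 1 ∧ w ≠ 1 ∧ w * u * w⁻¹ = v := by decide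

/-- A product of two commuting common neighbours moves a closed part onto one meeting it. -/
theorem common_pair_meets (S : Fi24Setup D) (ha : a ∈ D) {z : K} (hz : z ∈ D) (haz : ¬ Commute a z)
    {C : Set K} (hC : C ⊆ common D a z) (hne : C.Nonempty)
    (hcl : ∀ q ∈ C, ∀ r ∈ common D a z, Commute q r → r ∈ C) {p q : K} (hp : p ∈ common D a z)
    (hq : q ∈ common D a z) (hpq : Commute p q) : ∃ m ∈ C, p * q * m * (p * q)⁻¹ ∈ C := by
  classical
  obtain ⟨F, hinv, hcom, hconj, hsur⟩ := exists_three S ha hz haz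
  obtain ⟨x, hx⟩ := hne
  obtain ⟨htt, ht1⟩ := hinv x (hC hx)
  set τ := F x
  let fib : Equiv.Perm (Fin 3) → Set K := fun s => {w | w ∈ common D a z ∧ F w = s}
  have hpa : Commute (p * q) a := hp.1.2.2.symm.mul_left hq.1.2.2.symm
  have hpz : Commute (p * q) z := hp.2.2.2.symm.mul_left hq.2.2.2.symm
  have hgF : ∀ w ∈ common D a z, F (p * q * w * (p * q)⁻¹) = F w := fun w hw => by
    have hw' : q * w * q⁻¹ ∈ common D a z := common_smul S hq.1.2.2.symm hq.2.2.2.symm hw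
    rw [show p * q * w * (p * q)⁻¹ = p * (q * w * q⁻¹) * p⁻¹ by group, hconj p hp _ hw', hconj q hq w hw,
      hcom p hp q hq hpq, show ∀ u v : Equiv.Perm (Fin 3), u * (u * v * u⁻¹) * u⁻¹ = u * u * v * (u * u)⁻¹ from
        fun u v => by group, (hinv q hq).1, one_mul, inv_one, mul_one]
  by_contra hno
  set C1 := C ∩ fib τ
  set g := p * q
  set C2 := (fun w => g * w * g⁻¹) '' C1
  have ginj : Function.Injective fun w : K => g * w * g⁻¹ := fun u v h => mul_left_cancel (mul_right_cancel h)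
  have h1 : 576 ≤ C1.ncard := by
    refine FischerM24.closed_min S ha hz haz (fun w hw => hC hw.1) ⟨x, hx, hC hx, rfl⟩ fun w hw r hr h => ?_
    exact ⟨hcl w hw.1 r hr h, hr, (hcom w hw.2.1 r hr h).symm.trans hw.2.2⟩
  have h2 : C2 ⊆ fib τ := by
    rintro _ ⟨w, hw, rfl⟩
    exact ⟨common_smul S hpa hpz hw.2.1, (hgF w hw.2.1).trans hw.2.2⟩
  have hdis : Disjoint C1 C2 := by
    rw [Set.disjoint_left]
    rintro w hw ⟨m, hm, rfl⟩
    exact hno ⟨m, hm.1, hw.1⟩
  have h3 : 1152 ≤ (fib τ).ncard := by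
    have := Set.ncard_le_ncard (Set.union_subset (Set.inter_subset_right : C1 ⊆ fib τ) h2) (Set.toFinite _)
    rw [Set.ncard_union_eq hdis (Set.toFinite _) (Set.toFinite _), Set.ncard_image_of_injective _ ginj] at this
    omega
  have hfib : ∀ s, s * s = 1 → s ≠ 1 → (fib τ).ncard ≤ (fib s).ncard := by
    intro s hs hs1
    by_cases e : τ = s
    · rw [e]
    obtain ⟨w, hw, hw1, hws⟩ := perm_three_link τ s ⟨htt, ht1, hs, hs1, e⟩
    obtain ⟨l, hl, rfl⟩ := hsur w hw hw1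
    refine Set.ncard_le_ncard_of_injOn (fun u => l * u * l⁻¹) (fun u hu => ⟨?_, ?_⟩)
      (fun u _ v _ h => mul_left_cancel (mul_right_cancel h)) (Set.toFinite _)
    · exact common_smul S hl.1.2.2.symm hl.2.2.2.symm hu.1
    · show F (l * u * l⁻¹) = s
      rw [hconj l hl u hu.1, hu.2, hws]
  have hd : ∀ s s' : Equiv.Perm (Fin 3), s ≠ s' → Disjoint (fib s) (fib s') := fun s s' h =>
    Set.disjoint_left.2 fun w hw hw' => h (hw.2.symm.trans hw'.2)
  have hsub : fib (Equiv.swap 0 1) ∪ fib (Equiv.swap 0 2) ∪ fib (Equiv.swap 1 2) ⊆ common D a z := by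
    rintro w ((h | h) | h) <;> exact h.1
  have h4 := Set.ncard_le_ncard hsub (Set.toFinite _)
  rw [Set.ncard_union_eq (Set.disjoint_union_left.2 ⟨hd _ _ (by decide), hd _ _ (by decide)⟩)
      (Set.toFinite _) (Set.toFinite _),
    Set.ncard_union_eq (hd _ _ (by decide)) (Set.toFinite _) (Set.toFinite _),
    FischerM24.common_card S ha hz haz] at h4
  have := hfib (Equiv.swap 0 1) (by decide) (by decide)
  have := hfib (Equiv.swap 0 2) (by decide) (by decide)
  have := hfib (Equiv.swap 1 2) (by decide) (by decide)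
  omega

variable {G : Type u} [Group G] [Finite G] {t g0 r : G} {H Y0 : Subgroup G}
variable {s : K} {χ : K →* ℤˣ} {σ : G} {θ : ↥H →* K} {ι : G ⧸ H → K}

namespace Chart

variable {W : Net t g0 r H Y0} (C : Chart W D a χ θ ι) (S : Fi24Setup D) (ha : a ∈ D)
  (hχ : ∀ d ∈ D, χ d = -1) (X : Exch (W := W) θ ι D a χ s σ)
include C S ha hχ X

/-- A star at distance two is next to every common neighbour of the base and its value. -/
theorem reach_full {b w : G ⧸ H} (hb : Adj g0 (star H) b) (hbw : Adj g0 b w) (hw : w ≠ star H)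
    (hfar : ¬ Adj g0 (star H) w) {x : K} (hx : x ∈ common D a (cov g0 θ ι a s σ w)) :
    ∃ m, Adj g0 (star H) m ∧ Adj g0 m w ∧ ι m = x := by
  by_contra hno
  set z := cov g0 θ ι a s σ w with hz
  have hval : ∀ {m}, Adj g0 (star H) m → Adj g0 m w → nb g0 θ ι s σ m w = z := fun hm hmw =>
    (C.cov_eq S ha hχ X hm hmw).symm
  have mz := C.nb_mem S ha hχ X hb hbw
  rw [hval hb hbw] at mz
  have haz := C.nb_far S ha hχ X hb hbw hw hfar
  rw [hval hb hbw] at haz
  set T := {x | ∃ m, Adj g0 (star H) m ∧ Adj g0 m w ∧ ι m = x} with hT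
  have hTC : T ⊆ common D a z := by
    rintro _ ⟨m, hm, hmw, rfl⟩
    have := C.nb_mem S ha hχ X hm hmw
    rw [hval hm hmw] at this
    exact ⟨C.mem m hm, adj_symm (C.mem m hm).1 this⟩
  have hTcl : ∀ q ∈ T, ∀ r ∈ common D a z, Commute q r → r ∈ T := by
    rintro _ ⟨m, hm, hmw, rfl⟩ r hr hc
    obtain ⟨l, hl, rfl⟩ := C.surj r hr.1
    by_cases e : l = m
    · exact ⟨m, hm, hmw, by rw [e]⟩
    have hml : Adj g0 m l := (C.ι_adj S ha hm hl).2 ⟨hr.1.1, fun e' => e (C.ι_inj hl hm e'), hc⟩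
    refine ⟨l, hl, (C.nb_adj S ha hχ X hm hml hmw).2 ?_, rfl⟩
    rw [C.nb_common S ha hχ X hm hl hml, hval hm hmw]
    exact adj_symm mz.1 hr.2
  obtain ⟨q, hq, hqx⟩ : (common D a z ∩ adj D x).Nonempty := by
    rw [← Set.ncard_pos (Set.toFinite _), FischerM24.common_deg S ha mz.1 haz hx]; norm_num
  obtain ⟨P, hP, eP⟩ := C.surj x hx.1
  obtain ⟨Q, hQ, eQ⟩ := C.surj q hq.1
  have hPQ : P ≠ Q := fun e => hqx.2.1 (by rw [← eP, ← eQ, e])
  have aPQ : Adj g0 P Q := (C.ι_adj S ha hP hQ).2 (eP.symm ▸ eQ.symm ▸ hqx)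
  obtain ⟨-, hel⟩ := W.tri_base hP hQ hPQ ((W.adj_iff hP hQ hPQ).1 aPQ)
  set h : ↥H := ⟨_, W.el_memH hP⟩ * ⟨_, W.el_memH hQ⟩ with hh
  have hG : (h : G) = edgeEl t g0 P Q := hel.symm
  have hθ : θ h = x * q := by
    rw [hh, map_mul, C.el P hP, C.el Q hQ, eP, eQ, hx.1.2.2.eq, show x * a * (a * q) = x * (a * a) * q by group,
      ThreeTrans.mul_self S.cls.1 ha, mul_one]
  obtain ⟨m, hm, hm'⟩ := common_pair_meets S ha mz.1 haz hTC ⟨_, b, hb, hbw, rfl⟩ hTcl hx hq hqx.2.2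
  obtain ⟨M, hM, hMw, rfl⟩ := hm
  obtain ⟨M', hM', hMw', eM⟩ := hm'
  obtain ⟨j1, j2⟩ := C.ι_conj h hM
  have hMM : (h : G) • M = M' := C.ι_inj j1 hM' (by rw [j2, hθ, eM])
  have hfix : (h : G) • w = w := by
    refine C.nb_inj S ha hχ X hM' (hMM ▸ hMw.smul _) hMw' ?_
    rw [hval hM' hMw', ← hMM, C.nb_conj S ha hχ X h hM hMw, hval hM hMw, hθ,
      (hx.2.2.2.symm.mul_left hq.2.2.2.symm).eq, mul_inv_cancel_right]
  rw [hG] at hfix
  rcases W.fix_star aPQ hfix with e | e | e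
  · exact hfar (e ▸ hP)
  · exact hfar (e ▸ hQ)
  · exact hno ⟨P, hP, (W.symm e.1).1, eP⟩

end Chart

end Cfsg.Agent.Fi24Char
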