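/-
The exchange preserves the stars within two steps of the base and their values.

* `Chart.cov_swap`
-/
import Cfsg.Agent.Lib.Fi24Char.Full

set_option autoImplicit false
set_option linter.unusedSectionVars false

namespace Cfsg.Agent.Fi24Char

open Cfsg.Agent.ThreeTrans (adj common)
open Cfsg.Agent.FischerM24 (Fi24Setup)
open Cfsg.Agent.FischerM22 (adj_symm)

universe u v

variable {G : Type u} [Group G] [Finite G] {t g0 r : G} {H Y0 : Subgroup G}
variable {K : Type v} [Group K] [Finite K] {D : Set K} {a s : K} {χ : K →* ℤˣ} {σ : G}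
variable {θ : ↥H →* K} {ι : G ⧸ H → K}

omit [Finite G] in
/-- At the base edge or next to one of its ends. -/
def Near (g0 : G) (w : G ⧸ H) : Prop :=
  w = star H ∨ Adj g0 (star H) w ∨ w = g0 • star H ∨ Adj g0 (g0 • star H) w

namespace Chart

variable {W : Net t g0 r H Y0} (C : Chart W D a χ θ ι) (S : Fi24Setup D) (ha : a ∈ D)
  (hχ : ∀ d ∈ D, χ d = -1) (X : Exch (W := W) θ ι D a χ s σ)
  (hsq : ∀ h : ↥H, (h : G) = σ * σ → θ h = s * s)
include C S ha hχ X

theorem nb_commute {b w w' : G ⧸ H} (hb : Adj g0 (star H) b) (hw : Adj g0 b w) (hw' : Adj g0 b w') :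
    Commute (cov g0 θ ι a s σ w) (cov g0 θ ι a s σ w') ↔ w = w' ∨ Adj g0 w w' := by
  rw [C.cov_eq S ha hχ X hb hw, C.cov_eq S ha hχ X hb hw']
  refine ⟨fun h => ?_, fun h => ?_⟩
  · by_cases e : w = w'
    · exact Or.inl e
    exact Or.inr ((C.nb_adj S ha hχ X hb hw hw').2 ⟨(C.nb_mem S ha hχ X hb hw').1,
      fun e' => e (C.nb_inj S ha hχ X hb hw hw' e'.symm), h⟩)
  · rcases h with e | e
    · rw [e]
    · exact ((C.nb_adj S ha hχ X hb hw hw').1 e).2.2

include hsq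

theorem near_swap {w : G ⧸ H} (hw : Near g0 w) : Near g0 (σ • w) ∧ InW g0 (σ • w) ∧
    cov g0 θ ι a s σ (σ • w) = s * cov g0 θ ι a s σ w * s⁻¹ := by
  have hb := W.base_adj
  have onA : ∀ {w}, Adj g0 (star H) w → Adj g0 (g0 • star H) (σ • w) ∧ InW g0 (σ • w) ∧
      cov g0 θ ι a s σ (σ • w) = s * cov g0 θ ι a s σ w * s⁻¹ := by
    intro w hw
    have h1 : Adj g0 (g0 • star H) (σ • w) := by have := hw.smul σ; rwa [X.σo] at this
    refine ⟨h1, Or.inr (Or.inr ⟨_, hb, h1⟩), ?_⟩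
    have hk : (((1 : ↥H) : ↥H) : G) • g0 • star H = g0 • star H := by rw [Subgroup.coe_one, one_smul]
    rw [C.cov_eq S ha hχ X hb h1, C.nb_eq S ha hχ X hk h1, C.cov_nbr S ha hχ X hw, map_one, one_mul,
      Subgroup.coe_one, one_mul, inv_smul_smul]
  rcases hw with rfl | hw | rfl | hw
  · rw [X.σo, C.cov_star S ha hχ X, C.cov_nbr S ha hχ X hb]
    exact ⟨Or.inr (Or.inr (Or.inl rfl)), Or.inr (Or.inl hb), X.sa.symm⟩
  · exact ⟨Or.inr (Or.inr (Or.inr (onA hw).1)), (onA hw).2⟩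
  · rw [X.σb, C.cov_star S ha hχ X, C.cov_nbr S ha hχ X hb]
    exact ⟨Or.inl rfl, Or.inl rfl, X.sy.symm⟩
  · have h0 : Adj g0 (star H) (σ⁻¹ • w) := by
      have := hw.smul σ⁻¹
      rwa [show σ⁻¹ • g0 • star H = star H by rw [inv_smul_eq_iff, X.σo]] at this
    have hσσ : σ * σ ∈ H := smul_star_eq_self.1 (by rw [mul_smul, X.σo, X.σb])
    obtain ⟨j1, j2⟩ := C.ι_conj ⟨σ * σ, hσσ⟩ h0
    have e : ((⟨σ * σ, hσσ⟩ : ↥H) : G) • σ⁻¹ • w = σ • w := by
      show (σ * σ) • σ⁻¹ • w = σ • w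
      rw [mul_smul, smul_inv_smul]
    rw [e] at j1 j2
    refine ⟨Or.inr (Or.inl j1), Or.inr (Or.inl j1), ?_⟩
    obtain ⟨-, -, e2⟩ := onA h0
    rw [smul_inv_smul] at e2
    rw [C.cov_nbr S ha hχ X j1, j2, e2, C.cov_nbr S ha hχ X h0, hsq _ rfl]
    group

theorem far_commute {b w : G ⧸ H} (hb : Adj g0 (star H) b) (hbb : Adj g0 (g0 • star H) b) (hw : Adj g0 b w)
    (hn : ¬ Near g0 w) : ¬ Commute a (cov g0 θ ι a s σ w) ∧
      ¬ Commute (ι (g0 • star H)) (cov g0 θ ι a s σ w) := by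
  constructor <;> intro hc
  · rcases (C.nb_commute S ha hχ X hb (W.symm hb).1 hw).1
      (by rw [C.cov_star S ha hχ X]; exact hc) with e | e
    exacts [hn (Or.inl e.symm), hn (Or.inr (Or.inl e))]
  · rw [← C.cov_nbr S ha hχ X W.base_adj] at hc
    rcases (C.nb_commute S ha hχ X hb (W.symm hbb).1 hw).1 hc with e | e
    exacts [hn (Or.inr (Or.inr (Or.inl e.symm))), hn (Or.inr (Or.inr (Or.inr e)))]

/-- The glued map commutes with the exchange. -/
theorem cov_swap {w : G ⧸ H} (hw : InW g0 w) :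
    InW g0 (σ • w) ∧ cov g0 θ ι a s σ (σ • w) = s * cov g0 θ ι a s σ w * s⁻¹ := by
  by_cases hn : Near g0 w
  · exact (C.near_swap S ha hχ X hsq hn).2
  have hb0 := W.base_adj
  set y := ι (g0 • star H) with hy
  have hyA : y ∈ adj D a := C.mem _ hb0
  obtain ⟨b₁, hb₁, hbw₁⟩ : ∃ b, Adj g0 (star H) b ∧ Adj g0 b w := by
    rcases hw with e | e | e
    exacts [absurd (Or.inl e) hn, absurd (Or.inr (Or.inl e)) hn, e]
  have hwo : w ≠ star H := fun e => hn (Or.inl e)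
  have hwf : ¬ Adj g0 (star H) w := fun e => hn (Or.inr (Or.inl e))
  have mz := C.nb_mem S ha hχ X hb₁ hbw₁
  have haz := C.nb_far S ha hχ X hb₁ hbw₁ hwo hwf
  rw [← C.cov_eq S ha hχ X hb₁ hbw₁] at mz haz
  set z := cov g0 θ ι a s σ w with hz
  obtain ⟨x, hx, hxy⟩ := FischerM24.exists_common_commute S ha mz.1 haz hyA
  obtain ⟨B, hB, hBw, eB⟩ := C.reach_full S ha hχ X hb₁ hbw₁ hwo hwf hx
  have hBne : B ≠ g0 • star H := fun e => hn (Or.inr (Or.inr (Or.inr (e ▸ hBw))))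
  have hBb : Adj g0 (g0 • star H) B := (C.ι_adj S ha hb0 hB).2
    ⟨(C.mem B hB).1, fun e => hBne (C.ι_inj hB hb0 e), by rw [eB]; exact hxy.symm⟩
  have h1 : Adj g0 (star H) (σ • B) := by have := hBb.smul σ; rwa [X.σb] at this
  have h2 : Adj g0 (g0 • star H) (σ • B) := by have := hB.smul σ; rwa [X.σo] at this
  have h3 : Adj g0 (σ • B) (σ • w) := hBw.smul σ
  refine ⟨Or.inr (Or.inr ⟨_, h1, h3⟩), ?_⟩
  set u := cov g0 θ ι a s σ (σ • w) with hu
  set v := s * z * s⁻¹ with hv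
  have eb : ι (σ • B) = s * ι B * s⁻¹ := by
    have := (C.near_swap S ha hχ X hsq (w := B) (Or.inr (Or.inl hB))).2.2
    rwa [C.cov_nbr S ha hχ X h1, C.cov_nbr S ha hχ X hB] at this
  set b := ι (σ • B) with hb
  have hub : u ∈ adj D b := by rw [hu, C.cov_eq S ha hχ X h1 h3]; exact C.nb_mem S ha hχ X h1 h3
  have hvb : v ∈ adj D b := by
    rw [eb, ThreeTrans.conj_adj S.grp.2.1]
    have := C.nb_mem S ha hχ X hB hBw
    rw [← C.cov_eq S ha hχ X hB hBw, ← hz] at this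
    rwa [show s⁻¹ * v * s = z by rw [hv]; group]
  have hnσ : ¬ Near g0 (σ • w) := by
    rintro (e | e | e | e)
    · exact hn (Or.inr (Or.inr (Or.inl (MulAction.injective σ (e.trans X.σb.symm)))))
    · rw [← X.σb, adj_smul_iff] at e; exact hn (Or.inr (Or.inr (Or.inr e)))
    · exact hn (Or.inl (MulAction.injective σ (e.trans X.σo.symm)))
    · rw [← X.σo, adj_smul_iff] at e; exact hn (Or.inr (Or.inl e))
  have hback : ∀ {Q : G ⧸ H}, Near g0 Q → Near g0 (σ⁻¹ • Q) := by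
    have i1 : σ⁻¹ • star H = g0 • star H := by rw [inv_smul_eq_iff, X.σb]
    have i2 : σ⁻¹ • g0 • star H = star H := by rw [inv_smul_eq_iff, X.σo]
    rintro Q (e | e | e | e)
    · exact Or.inr (Or.inr (Or.inl (by rw [e, i1])))
    · exact Or.inr (Or.inr (Or.inr (i1 ▸ e.smul σ⁻¹)))
    · exact Or.inl (by rw [e, i2])
    · exact Or.inr (Or.inl (i2 ▸ e.smul σ⁻¹))
  have tr : ∀ {Q : G ⧸ H}, Adj g0 (σ • B) Q → Near g0 Q →
      (Commute (cov g0 θ ι a s σ Q) v ↔ Commute (cov g0 θ ι a s σ Q) u) := by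
    intro Q hQ hnQ
    have hQ0 : Adj g0 B (σ⁻¹ • Q) := by have := hQ.smul σ⁻¹; rwa [inv_smul_smul] at this
    have e := (C.near_swap S ha hχ X hsq (hback hnQ)).2.2
    rw [smul_inv_smul] at e
    rw [hu, C.nb_commute S ha hχ X h1 hQ h3, e, hv, conj_commute_conj, hz, C.nb_commute S ha hχ X hB hQ0 hBw,
      inv_smul_eq_iff, ← adj_smul_iff σ (p := σ⁻¹ • Q), smul_inv_smul]
  have anchor : ∀ {P : G ⧸ H}, Adj g0 (σ • B) P → (P = star H ∨ P = g0 • star H) →
      ¬ Commute (cov g0 θ ι a s σ P) u →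
      v = u ∨ v = cov g0 θ ι a s σ P * u * cov g0 θ ι a s σ P := by
    intro P hP hPe hPu
    have hnP : Near g0 P := hPe.elim Or.inl fun e => Or.inr (Or.inr (Or.inl e))
    have hPb : cov g0 θ ι a s σ P ∈ adj D b := by
      rw [C.cov_eq S ha hχ X h1 hP]; exact C.nb_mem S ha hχ X h1 hP
    rcases FischerM24.line_three S (C.mem _ h1).1 hPb hub hPu hvb
        (fun p hp hpP hpu => by
          obtain ⟨Q, hQ, rfl⟩ := C.nb_surj S ha hχ X h1 hp
          rw [← C.cov_eq S ha hχ X h1 hQ] at hpP hpu ⊢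
          have hnQ : Near g0 Q := by
            rcases (C.nb_commute S ha hχ X h1 hQ hP).1 hpP with e | e
            · exact e ▸ hnP
            rcases hPe with e' | e'
            · exact Or.inr (Or.inl (e' ▸ (W.symm e).1))
            · exact Or.inr (Or.inr (Or.inr (e' ▸ (W.symm e).1)))
          exact (tr hQ hnQ).2 hpu) with h | h | h
    · exact absurd ((tr hP hnP).1 (h ▸ Commute.refl _)) hPu
    · exact Or.inl h
    · exact Or.inr h
  obtain ⟨n1, n2⟩ := C.far_commute S ha hχ X hsq h1 h2 h3 hnσ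
  rw [← hu] at n1 n2
  have ea := C.cov_star (σ := σ) (s := s) S ha hχ X
  have ey : cov g0 θ ι a s σ (g0 • star H) = y := C.cov_nbr S ha hχ X hb0
  rcases anchor (W.symm h1).1 (Or.inl rfl) (by rw [ea]; exact n1) with h | h
  · exact h.symm
  rcases anchor (W.symm h2).1 (Or.inr rfl) (by rw [ey]; exact n2) with h' | h'
  · exact h'.symm
  exfalso
  rw [h, ea, ey, ThreeTrans.braid S.cls.1 ha hub.1 n1, ThreeTrans.braid S.cls.1 hyA.1 hub.1 n2] at h'
  exact hyA.2.1 (mul_left_cancel (mul_right_cancel h')).symm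

end Chart

end Cfsg.Agent.Fi24Char
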