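/-
The subgroup generated by the stabiliser of the base and the exchange maps isomorphically onto the even part of
the group of type M(24).

* `Net.gen`, `Chart.exists_hom`
-/
import Cfsg.Agent.Lib.Fi24Char.Swap

set_option autoImplicit false
set_option linter.unusedSectionVars false

namespace Cfsg.Agent.Fi24Char

open Cfsg.Agent.ThreeTrans (adj common conj_adj Loc)
open Cfsg.Agent.FischerM24 (Fi24Setup)
open Cfsg.Agent.FischerM22 (adj_symm)

universe u v

variable {G : Type u} [Group G] [Finite G] {t g0 r : G} {H Y0 : Subgroup G}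
variable {K : Type v} [Group K] [Finite K] {D : Set K} {a s : K} {χ : K →* ℤˣ} {σ : G}
variable {θ : ↥H →* K} {ι : G ⧸ H → K}

omit [Finite G] in
/-- The pairs compatible with the glued map. -/
def compat (g0 : G) (θ : ↥H →* K) (ι : G ⧸ H → K) (a s : K) (σ : G) : Submonoid (K × G) where
  carrier := {p | ∀ w : G ⧸ H, InW g0 w → InW g0 (p.2 • w) ∧
    cov g0 θ ι a s σ (p.2 • w) = p.1 * cov g0 θ ι a s σ w * p.1⁻¹}
  one_mem' := fun w hw => by simp [hw]
  mul_mem' := fun {p q} hp hq w hw => by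
    obtain ⟨h1, e1⟩ := hq w hw
    obtain ⟨h2, e2⟩ := hp _ h1
    simp only [Prod.fst_mul, Prod.snd_mul, mul_smul]
    refine ⟨h2, ?_⟩
    rw [e2, e1]; group

omit [Finite G] [Finite K] in
theorem submonoid_inv {M : Type*} [Group M] [Finite M] (N : Submonoid M) {x : M} (hx : x ∈ N) : x⁻¹ ∈ N := by
  have h : x ^ (orderOf x - 1) * x = 1 := by
    rw [← pow_succ, Nat.sub_add_cancel (orderOf_pos x), pow_orderOf_eq_one]
  rw [← eq_inv_of_mul_eq_one_left h]
  exact pow_mem hx _

namespace Chart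

variable {W : Net t g0 r H Y0} (C : Chart W D a χ θ ι) (S : Fi24Setup D) (ha : a ∈ D)
  (hχ : ∀ d ∈ D, χ d = -1) (X : Exch (W := W) θ ι D a χ s σ)
  (hsq : ∀ h : ↥H, (h : G) = σ * σ → θ h = s * s)
include C S ha hχ X

theorem cov_surj {d : K} (hd : d ∈ D) : ∃ w, InW g0 w ∧ cov g0 θ ι a s σ w = d := by
  by_cases hc : Commute a d
  · by_cases e : d = a
    · exact ⟨star H, Or.inl rfl, e ▸ C.cov_star S ha hχ X⟩
    obtain ⟨p, hp, ep⟩ := C.surj d ⟨hd, e, hc⟩
    exact ⟨p, Or.inr (Or.inl hp), by rw [C.cov_nbr S ha hχ X hp, ep]⟩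
  · obtain ⟨x, hx⟩ := FischerM24.common_nonempty S ha hd hc
    obtain ⟨b, hb, eb⟩ := C.surj x hx.1
    obtain ⟨w, hw, ew⟩ := C.nb_surj S ha hχ X hb (x := d) (eb ▸ adj_symm hd hx.2)
    exact ⟨w, Or.inr (Or.inr ⟨b, hb, hw⟩), by rw [C.cov_eq S ha hχ X hb hw, ew]⟩

theorem cov_eq_a {w : G ⧸ H} (hw : InW g0 w) (e : cov g0 θ ι a s σ w = a) : w = star H := by
  rcases hw with h | h | ⟨b, hb, hbw⟩
  · exact h
  · exact absurd (by rw [← C.cov_nbr (s := s) (σ := σ) S ha hχ X h, e]) (C.mem w h).2.1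
  · rw [C.cov_eq S ha hχ X hb hbw, ← C.nb_star S ha hχ X hb] at e
    exact C.nb_inj S ha hχ X hb hbw (W.symm hb).1 e

theorem g0_mem : g0 ∈ Subgroup.closure ((H : Set G) ∪ {σ}) := by
  have h : g0⁻¹ * σ ∈ H := smul_star_eq_self.1 (by rw [mul_smul, X.σo, inv_smul_smul])
  have := mul_mem (Subgroup.subset_closure (Or.inr rfl) : σ ∈ Subgroup.closure ((H : Set G) ∪ {σ}))
    (inv_mem (Subgroup.subset_closure (Or.inl h) : g0⁻¹ * σ ∈ Subgroup.closure ((H : Set G) ∪ {σ})))
  simpa [mul_assoc] using this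

include hsq

/-- The map on the generated subgroup. -/
theorem exists_hom : ∃ φ : ↥(Subgroup.closure ((H : Set G) ∪ {σ})) →* K,
    Function.Injective φ ∧ φ.range = χ.ker ∧ ∀ (h : ↥H) (hm : (h : G) ∈ Subgroup.closure ((H : Set G) ∪ {σ})),
      φ ⟨h, hm⟩ = θ h := by
  classical
  set gens : Set (K × G) := Set.range (fun h : ↥H => (θ h, (h : G))) ∪ {(s, σ)} with hgens
  set M := Subgroup.closure gens with hM
  have hMc : ∀ p ∈ M, p ∈ compat g0 θ ι a s σ := by
    intro p hp
    induction hp using Subgroup.closure_induction with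
    | mem x hx =>
      rcases hx with ⟨h, rfl⟩ | rfl
      · exact fun w hw => C.cov_conj S ha hχ X h hw
      · exact fun w hw => C.cov_swap S ha hχ X hsq hw
    | one => exact one_mem _
    | mul x y _ _ hx hy => exact mul_mem hx hy
    | inv x _ hx => exact submonoid_inv _ hx
  have hfun : ∀ k : K, (k, (1 : G)) ∈ compat g0 θ ι a s σ → k = 1 := fun k hk => by
    have hc : k ∈ Subgroup.center K := by
      refine Subgroup.mem_center_iff.2 fun g => ?_
      have hg : g ∈ Subgroup.closure D := by rw [S.cls.2.2]; trivial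
      have hle : Subgroup.closure D ≤ Subgroup.centralizer ({k} : Set K) := (Subgroup.closure_le _).2 fun d hd => by
        obtain ⟨w, hw, rfl⟩ := C.cov_surj S ha hχ X hd
        have := (hk w hw).2
        rw [one_smul] at this
        exact Subgroup.mem_centralizer_singleton_iff.2 (eq_mul_inv_iff_mul_eq.1 this)
      exact Subgroup.mem_centralizer_singleton_iff.1 (hle hg)
    rwa [S.type24.1, Subgroup.mem_bot] at hc
  let π : ↥M →* G := (MonoidHom.snd K G).comp M.subtype
  have hπ : Function.Injective π := by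
    rw [injective_iff_map_eq_one]
    rintro ⟨⟨k, g⟩, hp⟩ (e : g = 1)
    subst e
    exact Subtype.ext (Prod.ext (hfun k (hMc _ hp)) rfl)
  have hrange : π.range = Subgroup.closure ((H : Set G) ∪ {σ}) := by
    rw [show π.range = M.map (MonoidHom.snd K G) by
      rw [MonoidHom.range_eq_map, ← Subgroup.map_map, ← MonoidHom.range_eq_map, Subgroup.range_subtype],
      hM, MonoidHom.map_closure, hgens, Set.image_union, Set.image_singleton, ← Set.range_comp]
    congr 2
    ext g
    exact ⟨fun ⟨h, e⟩ => e ▸ h.2, fun hg => ⟨⟨g, hg⟩, rfl⟩⟩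
  let e : ↥M ≃* ↥(Subgroup.closure ((H : Set G) ∪ {σ})) :=
    (MonoidHom.ofInjective hπ).trans (MulEquiv.subgroupCongr hrange)
  let φ := ((MonoidHom.fst K G).comp M.subtype).comp e.symm.toMonoidHom
  have hφ : ∀ (p : K × G) (hp : p ∈ M) (hg : p.2 ∈ Subgroup.closure ((H : Set G) ∪ {σ})), φ ⟨p.2, hg⟩ = p.1 := by
    intro p hp hg
    have : e ⟨p, hp⟩ = ⟨p.2, hg⟩ := Subtype.ext rfl
    show ((e.symm ⟨p.2, hg⟩ : ↥M) : K × G).1 = p.1
    rw [← this, e.symm_apply_apply]
  have hθ : ∀ (h : ↥H) (hm : (h : G) ∈ Subgroup.closure ((H : Set G) ∪ {σ})), φ ⟨h, hm⟩ = θ h := fun h hm =>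
    hφ (θ h, (h : G)) (Subgroup.subset_closure (Or.inl ⟨h, rfl⟩)) hm
  refine ⟨φ, ?_, ?_, hθ⟩
  · rw [injective_iff_map_eq_one]
    intro g hg
    obtain ⟨⟨⟨k, x⟩, hp⟩, rfl⟩ := e.surjective g
    have hk : k = 1 := by
      rw [← hg]
      show k = ((e.symm (e _) : ↥M) : K × G).1
      rw [e.symm_apply_apply]
    subst hk
    have hxH : x ∈ H := smul_star_eq_self.1 <| by
      obtain ⟨h1, h2⟩ := hMc _ hp (star H) (Or.inl rfl)
      refine C.cov_eq_a S ha hχ X h1 ?_
      rw [h2, C.cov_star S ha hχ X]; group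
    have h3 : (θ ⟨x, hxH⟩, x) ∈ M := Subgroup.subset_closure (Or.inl ⟨⟨x, hxH⟩, rfl⟩)
    have h4 := mul_mem h3 (inv_mem hp)
    rw [Prod.inv_mk, Prod.mk_mul_mk, inv_one, mul_one, mul_inv_cancel] at h4
    have hx1 : x = 1 := congrArg Subtype.val (C.inj (a₁ := ⟨x, hxH⟩) (a₂ := 1)
      (by rw [map_one]; exact hfun _ (hMc _ h4)))
    subst hx1
    exact (congrArg e (show (⟨(1, 1), hp⟩ : ↥M) = 1 from rfl)).trans (map_one e)
  · have hσ : σ ∈ Subgroup.closure ((H : Set G) ∪ {σ}) := Subgroup.subset_closure (Or.inr rfl)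
    have hs : s ∈ φ.range := ⟨⟨σ, hσ⟩, hφ (s, σ) (Subgroup.subset_closure (Or.inr rfl)) hσ⟩
    have hθr : ∀ k ∈ θ.range, k ∈ φ.range := by
      rintro _ ⟨h, rfl⟩
      exact ⟨⟨h, Subgroup.subset_closure (Or.inl h.2)⟩, hθ h _⟩
    refine le_antisymm ?_ fun k hk => ?_
    · rintro _ ⟨g, rfl⟩
      obtain ⟨⟨⟨k, x⟩, hp⟩, rfl⟩ := e.surjective g
      show χ ((e.symm (e _) : ↥M) : K × G).1 = 1
      rw [e.symm_apply_apply]
      have hle : M ≤ (χ.comp (MonoidHom.fst K G)).ker := (Subgroup.closure_le _).2 fun p hp => by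
        rcases hp with ⟨h, rfl⟩ | rfl
        · exact (C.θ_loc h).2
        · exact X.even
      exact hle hp
    · set R := φ.range
      have haa := ThreeTrans.mul_self S.cls.1 ha
      have hai := ThreeTrans.inv_eq S.cls.1 ha
      set y := ι (g0 • star H)
      have hyA : y ∈ adj D a := C.mem _ W.base_adj
      have hya : y * a ∈ θ.range := (C.range _).2 ⟨mul_mem (FischerM23.mem_loc_of_adj hyA)
        (FischerM24.mem_loc_self S ha), by rw [map_mul, hχ y hyA.1, hχ a ha]; decide⟩
      have hLa : ∀ k ∈ θ.range, a * k * a ∈ θ.range := by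
        rintro _ ⟨h, rfl⟩
        exact ⟨h, by rw [mul_assoc, (C.θ_comm h).eq, ← mul_assoc, haa, one_mul]⟩
      have hnorm : ∀ k ∈ R, a * k * a ∈ R := by
        intro k hk
        obtain ⟨g, rfl⟩ := hk
        obtain ⟨⟨p, hp⟩, rfl⟩ := e.surjective g
        show a * ((e.symm (e _) : ↥M) : K × G).1 * a ∈ R
        rw [e.symm_apply_apply]
        have hle : M ≤ (R.comap (MulAut.conj a).toMonoidHom).comap (MonoidHom.fst K G) :=
          (Subgroup.closure_le _).2 fun p hp => by
          show a * p.1 * a⁻¹ ∈ R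
          rw [hai]
          rcases hp with ⟨h, rfl⟩ | rfl
          · exact hθr _ (hLa _ ⟨h, rfl⟩)
          · show a * s * a ∈ R
            rw [show a * s * a = s * (s⁻¹ * a * s) * a by group,
              show s⁻¹ * a * s = y by rw [show a = s * y * s⁻¹ from X.sy.symm]; group, mul_assoc]
            exact mul_mem hs (hθr _ hya)
        have h5 : a * p.1 * a⁻¹ ∈ R := hle hp
        rwa [hai] at h5
      let R2 : Subgroup K :=
        { carrier := {k | k ∈ R ∨ k * a ∈ R}
          one_mem' := Or.inl (one_mem _)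
          mul_mem' := fun {p q} hp hq => by
            rcases hp with hp | hp <;> rcases hq with hq | hq
            · exact Or.inl (mul_mem hp hq)
            · exact Or.inr (by rw [mul_assoc]; exact mul_mem hp hq)
            · refine Or.inr ?_
              rw [show p * q * a = p * a * (a⁻¹ * q * a) by group, hai]
              exact mul_mem hp (hnorm q hq)
            · refine Or.inl ?_
              rw [show p * q = p * a * (a⁻¹ * (q * a) * a⁻¹) by group, hai]
              exact mul_mem hp (hnorm _ hq)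
          inv_mem' := fun {p} hp => by
            rcases hp with hp | hp
            · exact Or.inl (inv_mem hp)
            · refine Or.inr ?_
              have := hnorm _ (inv_mem hp)
              rwa [mul_inv_rev, hai, show a * (a * p⁻¹) * a = a * a * (p⁻¹ * a) by group, haa, one_mul] at this }
      have haR : a ∈ R2 := Or.inr (by rw [haa]; exact one_mem _)
      have hL : ∀ k ∈ Loc D a, k ∈ R2 := fun k hk => by
        rcases Int.units_eq_one_or (χ k) with e1 | e1
        · exact Or.inl (hθr k ((C.range k).2 ⟨hk, e1⟩))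
        · exact Or.inr (hθr _ ((C.range _).2 ⟨mul_mem hk (FischerM24.mem_loc_self S ha),
            by rw [map_mul, e1, hχ a ha]; decide⟩))
      have htop : R2 = ⊤ := eq_top_iff.2 (by
        rw [← FischerM24.loc_generation S ha hyA X.sa, Subgroup.closure_le]
        rintro x (hx | rfl)
        exacts [hL x hx, Or.inl hs])
      rcases (htop ▸ Subgroup.mem_top k : k ∈ R2) with h | h
      · exact h
      exfalso
      obtain ⟨g, hg⟩ := h
      obtain ⟨⟨p, hp⟩, rfl⟩ := e.surjective g
      have hle : M ≤ (χ.comp (MonoidHom.fst K G)).ker := (Subgroup.closure_le _).2 fun p hp => by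
        rcases hp with ⟨h, rfl⟩ | rfl
        · exact (C.θ_loc h).2
        · exact X.even
      have h6 : χ p.1 = 1 := hle hp
      rw [show p.1 = k * a by
        rw [← hg]
        show p.1 = ((e.symm (e _) : ↥M) : K × G).1
        rw [e.symm_apply_apply], map_mul, MonoidHom.mem_ker.1 hk, hχ a ha, one_mul] at h6
      exact absurd h6 (by decide)

end Chart

end Cfsg.Agent.Fi24Char
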