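/-
A group of large Fischer type is the derived group of a group of type M(24): the subgroup carried over contains
the centralisers of its involutions, so would be strongly embedded if proper.

* `iso_of_type`
-/
import Cfsg.Agent.Lib.Fi24Char.Hom
import Cfsg.Agent.Lib.FischerM24.Four.Quotient
import Cfsg.Agent.Lib.LargeFischer.SixBasic
import Cfsg.Agent.Lib.L34Sylow.Minimal
import Cfsg.Agent.S0223

set_option autoImplicit false
set_option linter.unusedSectionVars false
set_option linter.style.haveILetI false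

namespace Cfsg.Agent.Fi24Char

open Cfsg.Agent.LargeFischer
open Cfsg.Agent.ThreeTrans (adj)
open Cfsg.Agent.FischerM24 (Fi24Setup)

universe u v

variable {G : Type u} [Group G] [Finite G] {z : G} {Q : Subgroup (Subgroup.centralizer ({z} : Set G))}
  [Q.Normal] [hE : Fact (Cfsg.IsExtraspecial 2 Q)]

/-- The order of the centraliser of the involution. -/
theorem cent_card (hF : Cfsg.IsOfLargeFischerTypeAt z Q) :
    Nat.card ↥(Subgroup.centralizer ({z} : Set G)) = 160526499840 := by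
  obtain ⟨N, M, K, iF, iT, ψ, hNn, hMn, hQN, hNM, hNc, hidx, -, hψ, hψk, -, hcard, -⟩ := exists_chain hF
  have hker : ψ.ker = N.subgroupOf M := by
    ext m
    rw [MonoidHom.mem_ker, hψk, Subgroup.mem_subgroupOf]
  have h1 := Subgroup.card_mul_index ψ.ker
  rw [Subgroup.index_ker, MonoidHom.range_eq_top.2 hψ, Subgroup.card_top, hker,
    Nat.card_congr (Subgroup.subgroupOfEquivOfLe hNM).toEquiv, hNc, hcard, hF.1.2.2.2.1] at h1
  have h2 := Subgroup.card_mul_index M
  rw [hidx, ← h1] at h2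
  rw [← h2]
  norm_num

omit [Q.Normal] hE in
theorem cent_conj {P : Subgroup G} {w : G} (hw : Subgroup.centralizer ({w} : Set G) ≤ P) {p : G} (hp : p ∈ P) :
    Subgroup.centralizer ({p * w * p⁻¹} : Set G) ≤ P := fun g hg => by
  have h : p⁻¹ * g * p ∈ Subgroup.centralizer ({w} : Set G) := by
    rw [Subgroup.mem_centralizer_singleton_iff] at hg ⊢
    calc p⁻¹ * g * p * w = p⁻¹ * (g * (p * w * p⁻¹)) * p := by group
      _ = w * (p⁻¹ * g * p) := by rw [hg]; group
  have := mul_mem (mul_mem hp (hw h)) (inv_mem hp)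
  simpa [mul_assoc] using this

theorem iso_of_type (hF : Cfsg.IsOfLargeFischerTypeAt z Q) {K : Type v} [Group K] [Finite K] {D : Set K}
    (S24 : Fi24Setup D) : Nonempty (G ≃* ↥(commutator K)) := by
  classical
  obtain ⟨S⟩ := exists_setting hF
  obtain ⟨t, u, F⟩ := U62Fischer.exists_four (S := S) hF
  obtain ⟨Y0, A, DA, p₁, p₂, p₃, q, Fr, -⟩ := exists_base F
  obtain ⟨g0, r, H, W, -, hNA⟩ := exists_net q Fr
  obtain ⟨χ, hχ⟩ := FischerM24.exists_parity S24
  obtain ⟨a, ha, -⟩ := S24.two_members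
  obtain ⟨θ, ι, C⟩ := exists_chart W S24 ha hχ
  obtain ⟨s, σ, X, hsq⟩ := C.exists_exch_sq S24 ha hχ
  set P := Subgroup.closure ((H : Set G) ∪ {σ}) with hP
  obtain ⟨φ, hinj, hrange, hθ⟩ : ∃ φ : ↥P →* K, Function.Injective φ ∧ φ.range = χ.ker ∧
      ∀ (h : ↥H) (hm : (h : G) ∈ P), φ ⟨h, hm⟩ = θ h := C.exists_hom S24 ha hχ X hsq
  have hHP : H ≤ P := fun g hg => Subgroup.subset_closure (Or.inl hg)
  have hg0 : g0 ∈ P := C.g0_mem S24 ha hχ X
  have hYP : Y0 ≤ P := W.Y0_le.trans hHP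
  have hcomm : χ.ker = commutator K := by
    ext k
    rw [FischerM24.mem_commutator_iff S24 hχ]
    rfl
  -- the centraliser of `t`
  have hCt : Subgroup.centralizer ({t} : Set G) ≤ P := fun g hg => by
    rcases W.cases g (Subgroup.mem_centralizer_singleton_iff.1 hg) with h | h
    · exact hYP h
    · have := mul_mem hg0 (hYP h)
      rwa [mul_inv_cancel_left] at this
  have hzP : z ∈ P := by
    have h := hNA (Subgroup.le_normalizer Fr.zA)
    refine (Subgroup.closure_le _).2 ?_ h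
    rintro x (hx | rfl)
    exacts [hHP hx, hg0]
  have htP : t ∈ P := hHP W.t_memH
  have hz2 : orderOf z = 2 := hF.1.1
  have ht2 : orderOf t = 2 := orderOf_eq_prime (by rw [pow_two]; exact W.t_sq) W.t_ne
  have hzt : ¬ IsConj z t := F.E_nonconj (F.mem_E.2 (Or.inr (Or.inl rfl))) W.t_ne
  -- classes of involutions
  have heven : ∀ x : ↥P, χ (φ x) = 1 := fun x =>
    MonoidHom.mem_ker.1 (hrange ▸ (⟨x, rfl⟩ : φ x ∈ φ.range))
  have hlift : ∀ k : K, χ k = 1 → ∃ x : ↥P, φ x = k := fun k hk => by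
    have h : k ∈ φ.range := by rw [hrange]; exact hk
    exact h
  have hb := W.base_adj
  set y := ι (g0 • star H)
  have hyA : y ∈ adj D a := C.mem _ hb
  have hφt : φ ⟨t, htP⟩ = a * y := by
    have hel : edgeEl t g0 (star H) (g0 • star H) = t := by
      have := (W.star_nbr 1).2
      simpa using this
    have := hθ ⟨_, W.el_memH hb⟩ (show edgeEl t g0 (star H) (g0 • star H) ∈ P by rw [hel]; exact htP)
    rw [C.el _ hb] at this
    exact (congrArg φ (Subtype.ext hel.symm)).trans this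
  have transfer : ∀ (x w : ↥P) (c : K), χ c = -1 → Commute c (φ w) → IsConj (φ w) (φ x) →
      ∃ p : ↥P, p * w * p⁻¹ = x := by
    intro x w c hc hcw hconj
    obtain ⟨k, hk⟩ := isConj_iff.1 hconj
    obtain ⟨k', hk', hkw⟩ : ∃ k', χ k' = 1 ∧ k' * φ w * k'⁻¹ = φ x := by
      rcases Int.units_eq_one_or (χ k) with e | e
      · exact ⟨k, e, hk⟩
      · refine ⟨k * c, by rw [map_mul, e, hc]; decide, ?_⟩
        rw [← hk, mul_assoc k c, hcw.eq]
        group
    obtain ⟨p, hp⟩ := hlift k' hk'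
    exact ⟨p, hinj (by rw [map_mul, map_mul, map_inv, hp, hkw])⟩
  have kinds : ∀ x : ↥P, orderOf (x : G) = 2 →
      (∃ p : ↥P, p * ⟨t, htP⟩ * p⁻¹ = x) ∨ FischerM22.IsProd D 4 (φ x) := by
    intro x hx
    have hx2 : x * x = 1 := Subtype.ext (by
      rw [Subgroup.coe_mul, Subgroup.coe_one, ← pow_two, ← hx, pow_orderOf_eq_one])
    have hx1 : φ x ≠ 1 := fun e => by
      have : x = 1 := hinj (e.trans (map_one φ).symm)
      rw [this, Subgroup.coe_one, orderOf_one] at hx
      omega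
    obtain ⟨m, m1, m4, hm⟩ := FischerM24.involution_prod S24 (by rw [← map_mul, hx2, map_one]) hx1
    rcases FischerM24.isProd_cases4 m1 m4 hm with ⟨-, hd⟩ | ⟨-, b, hb', c, hc, e⟩ | ⟨-, b, c, d, hT, e⟩ | ⟨rfl, -⟩
    · exact absurd (heven x) (by rw [hχ _ hd]; decide)
    · refine Or.inl (transfer x ⟨t, htP⟩ a (hχ a ha) ?_ ?_)
      · rw [hφt]; exact (Commute.refl a).mul_right hyA.2.2
      · rw [hφt, e]
        obtain ⟨k, k1, k2⟩ := FischerM24.pair_conj S24 ha hyA hb' hc
        exact isConj_iff.2 ⟨k, by rw [← k1, ← k2]; group⟩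
    · exact absurd (heven x) (by rw [e, map_mul, map_mul, hχ _ hT.1, hχ _ hT.2.1, hχ _ hT.2.2.1]; decide)
    · exact Or.inr hm
  have hzq : FischerM22.IsProd D 4 (φ ⟨z, hzP⟩) := by
    rcases kinds ⟨z, hzP⟩ hz2 with ⟨p, hp⟩ | h
    · exact absurd (isConj_iff.2 ⟨_, congrArg Subtype.val hp⟩ : IsConj t z) (fun h => hzt h.symm)
    · exact h
  obtain ⟨b, c, d, e, hbD, hcb, hdb, heb, hT, hbz⟩ :
      ∃ b c d e, b ∈ D ∧ c ∈ adj D b ∧ d ∈ adj D b ∧ e ∈ adj D b ∧ FischerM22.IsTriple D c d e ∧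
        φ ⟨z, hzP⟩ = b * (c * d * e) := by
    rcases FischerM24.isProd_cases4 (by norm_num) le_rfl hzq with ⟨h, -⟩ | ⟨h, -⟩ | ⟨h, -⟩ | ⟨-, h⟩
    exacts [absurd h (by norm_num), absurd h (by norm_num), absurd h (by norm_num), h]
  have hbc : Commute b (φ ⟨z, hzP⟩) := by
    rw [hbz]
    exact (Commute.refl b).mul_right ((hcb.2.2.mul_right hdb.2.2).mul_right heb.2.2)
  have classes : ∀ x : ↥P, orderOf (x : G) = 2 →
      ∃ w, (w = t ∨ w = z) ∧ ∃ p : ↥P, (p : G) * w * (p : G)⁻¹ = x := by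
    intro x hx
    rcases kinds x hx with ⟨p, hp⟩ | h
    · exact ⟨t, Or.inl rfl, p, congrArg Subtype.val hp⟩
    · obtain ⟨p, hp⟩ := transfer x ⟨z, hzP⟩ b (hχ b hbD) hbc
        (FischerM24.prod_conj S24 (by norm_num) le_rfl hzq h)
      exact ⟨z, Or.inr rfl, p, congrArg Subtype.val hp⟩
  -- the centraliser of `z`
  have hCz : Subgroup.centralizer ({z} : Set G) ≤ P := by
    have hEy : b ∈ PrimeNorm24.Ey D (φ ⟨z, hzP⟩) := ⟨hbD, hbc⟩
    obtain ⟨n, N0⟩ := FourProd.exists_nbr S24 hzq hEy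
    obtain ⟨e', C4⟩ := FourProd.exists_coords N0
    have h4 := C4.evenCent_card
    set R := (Subgroup.centralizer ({z} : Set G) ⊓ P).subgroupOf P with hR
    have hmap : R.map φ = commutator K ⊓ Subgroup.centralizer ({φ ⟨z, hzP⟩} : Set K) := by
      ext k
      constructor
      · rintro ⟨x, hx, rfl⟩
        refine ⟨hcomm ▸ heven x, Subgroup.mem_centralizer_singleton_iff.2 ?_⟩
        rw [← map_mul, ← map_mul]
        exact congrArg φ (Subtype.ext (Subgroup.mem_centralizer_singleton_iff.1 hx.1))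
      · rintro ⟨h1, h2⟩
        obtain ⟨x, rfl⟩ := hlift k (MonoidHom.mem_ker.1 (hcomm.symm ▸ h1))
        refine ⟨x, ⟨Subgroup.mem_centralizer_singleton_iff.2 ?_, x.2⟩, rfl⟩
        have h2' : φ (x * ⟨z, hzP⟩) = φ (⟨z, hzP⟩ * x) := by
          rw [map_mul, map_mul]; exact Subgroup.mem_centralizer_singleton_iff.1 h2
        exact congrArg Subtype.val (hinj h2')
    have hc : Nat.card ↥(Subgroup.centralizer ({z} : Set G) ⊓ P) = 160526499840 := by
      rw [← Nat.card_congr (Subgroup.subgroupOfEquivOfLe inf_le_right).toEquiv,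
        Nat.card_congr (R.equivMapOfInjective φ hinj).toEquiv, hmap]
      have : Nat.card ↥(FourProd.evenCent (φ ⟨z, hzP⟩)) = 160526499840 := by omega
      exact this
    exact inf_eq_left.1 (Subgroup.eq_of_le_of_card_ge inf_le_left (by rw [hc, cent_card hF]))
  have htop : P = ⊤ := by
    by_contra hne
    have hev : Even (Nat.card P) := by
      rw [even_iff_two_dvd, ← ht2, ← Subgroup.orderOf_mk t htP]
      exact orderOf_dvd_natCard _
    refine hzt (L34Sylow.one_class ((S0223.result P hne hev).2 ⟨fun x hx hx2 => ?_, fun x hx y hy hx2 hy2 hxy => ?_⟩) hz2 ht2)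
    · obtain ⟨w, hw, p, hp⟩ := classes ⟨x, hx⟩ hx2
      rw [show x = p * w * (p : G)⁻¹ from hp.symm]
      rcases hw with rfl | rfl
      exacts [cent_conj hCt p.2, cent_conj hCz p.2]
    · obtain ⟨w, hw, p, hp⟩ := classes ⟨x, hx⟩ hx2
      obtain ⟨w', hw', p', hp'⟩ := classes ⟨y, hy⟩ hy2
      have he : w = w' := by
        have h1 : IsConj w w' :=
          ((isConj_iff.2 ⟨_, hp⟩ : IsConj w x).trans hxy).trans (isConj_iff.2 ⟨_, hp'⟩ : IsConj w' y).symm
        rcases hw with rfl | rfl <;> rcases hw' with rfl | rfl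
        exacts [rfl, absurd h1.symm hzt, absurd h1 hzt, rfl]
      subst he
      refine ⟨(p' : G) * (p : G)⁻¹, mul_mem p'.2 (inv_mem p.2), ?_⟩
      rw [show x = p * w * (p : G)⁻¹ from hp.symm, show y = p' * w * (p' : G)⁻¹ from hp'.symm]
      group
  exact ⟨(((Subgroup.topEquiv.symm.trans (MulEquiv.subgroupCongr htop.symm)).trans
    (MonoidHom.ofInjective hinj)).trans (MulEquiv.subgroupCongr (hrange.trans hcomm)))⟩

end Cfsg.Agent.Fi24Char
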